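import Cfsg.Agent.Lib.PGroup.Basic

/-!
Existence of a critical subgroup in a finite `p`-group.
-/

set_option autoImplicit false

namespace Cfsg.Agent.Fus93

variable {P : Type*} [Group P] {p : ℕ}

/-- Every finite `p`-group has a characteristic subgroup `H` with `C(H) ≤ H`, `[H, P] ≤ Z(H)` and
`x ^ p ∈ Z(H)` for all `x ∈ H`. -/
theorem exists_critical [Finite P] [Fact p.Prime] (hP : IsPGroup p P) :
    ∃ H : Subgroup P, H.Characteristic ∧ Subgroup.centralizer (H : Set P) ≤ H ∧
      (∀ x ∈ H, x ^ p ∈ Subgroup.centralizer (H : Set P)) ∧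
      ∀ x ∈ H, ∀ g : P, x⁻¹ * (g * x * g⁻¹) ∈ Subgroup.centralizer (H : Set P) := by
  classical
  obtain ⟨K, ⟨hKc, hKa⟩, hKmax⟩ := ({K : Subgroup P | K.Characteristic ∧
    K ≤ Subgroup.centralizer (K : Set P)}).toFinite.exists_maximal
      ⟨⊥, Subgroup.botCharacteristic, bot_le⟩
  haveI := hKc
  haveI : K.Normal := Subgroup.normal_of_characteristic K
  let π := QuotientGroup.mk' K
  -- the elements of `C(K)` central of exponent `p` modulo `K`
  let H : Subgroup P :=
    { carrier := {x | x ∈ Subgroup.centralizer (K : Set P) ∧ π x ∈ Subgroup.center (P ⧸ K) ∧ π x ^ p = 1}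
      one_mem' := ⟨one_mem _, by simp, by simp⟩
      mul_mem' := fun {a b} ha hb => ⟨mul_mem ha.1 hb.1, by rw [map_mul]; exact mul_mem ha.2.1 hb.2.1, by
        rw [map_mul, (show Commute (π a) (π b) from (Subgroup.mem_center_iff.mp hb.2.1 (π a))).mul_pow,
          ha.2.2, hb.2.2, one_mul]⟩
      inv_mem' := fun {a} ha => ⟨inv_mem ha.1, by rw [map_inv]; exact inv_mem ha.2.1, by
        rw [map_inv, inv_pow, ha.2.2, inv_one]⟩ }
  have hKH : K ≤ H := fun x hx => by
    have h1 : π x = 1 := (QuotientGroup.eq_one_iff x).mpr hx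
    exact ⟨hKa hx, by simp [h1], by simp [h1]⟩
  have hKZ : K ≤ Subgroup.centralizer (H : Set P) := fun k hk =>
    Subgroup.mem_centralizer_iff.mpr fun x hx => ((Subgroup.mem_centralizer_iff.mp hx.1) k hk).symm
  have hchar : H.Characteristic := by
    refine Subgroup.characteristic_iff_le_comap.mpr fun φ x hx => ?_
    have hK : ∀ y, φ y ∈ K ↔ y ∈ K := fun y => by
      conv_rhs => rw [← Subgroup.characteristic_iff_comap_eq.mp hKc φ]
      rfl
    refine ⟨Subgroup.mem_centralizer_iff.mpr fun k hk => ?_, ?_, ?_⟩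
    · obtain ⟨k', rfl⟩ := φ.surjective k
      show φ k' * φ x = φ x * φ k'
      rw [← map_mul, ← map_mul, Subgroup.mem_centralizer_iff.mp hx.1 k' ((hK k').mp hk)]
    · refine Subgroup.mem_center_iff.mpr fun q => ?_
      obtain ⟨g, rfl⟩ := QuotientGroup.mk'_surjective K q
      obtain ⟨g', rfl⟩ := φ.surjective g
      have h1 : π (g' * x) = π (x * g') := by
        rw [map_mul, map_mul]; exact Subgroup.mem_center_iff.mp hx.2.1 (π g')
      show π (φ g') * π (φ x) = π (φ x) * π (φ g')
      rw [← map_mul, ← map_mul]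
      refine QuotientGroup.eq.mpr ?_
      have h2 := QuotientGroup.eq.mp h1
      have h3 := (hK _).mpr h2
      simpa [mul_assoc] using h3
    · show π (φ x) ^ p = 1
      rw [← map_pow, ← map_pow φ]
      refine (QuotientGroup.eq_one_iff _).mpr ((hK _).mpr ?_)
      have h1 := hx.2.2
      rw [← map_pow] at h1
      exact (QuotientGroup.eq_one_iff _).mp h1
  haveI := hchar
  refine ⟨H, hchar, ?_, fun x hx => hKZ ?_, fun x hx g => hKZ ?_⟩
  · -- the intersection of `H` with its centralizer is `K`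
    set Q := Subgroup.centralizer (H : Set P)
    haveI : Q.Characteristic := inferInstance
    have hQH : ∀ x ∈ Q, x ∈ H → x ∈ K := by
      intro x hxQ hxH
      have h1 : (Q ⊓ H).Characteristic := by
        refine Subgroup.characteristic_iff_le_comap.mpr fun φ y hy => ⟨?_, ?_⟩
        · exact Subgroup.characteristic_iff_le_comap.mp ‹Q.Characteristic› φ hy.1
        · exact Subgroup.characteristic_iff_le_comap.mp hchar φ hy.2
      have h2 : Q ⊓ H ≤ Subgroup.centralizer ((Q ⊓ H : Subgroup P) : Set P) := fun y hy =>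
        Subgroup.mem_centralizer_iff.mpr fun z hz => Subgroup.mem_centralizer_iff.mp hy.1 z hz.2
      exact hKmax ⟨h1, h2⟩ (le_inf hKZ hKH) ⟨hxQ, hxH⟩
    by_contra hne
    obtain ⟨q, hq, hqH⟩ := SetLike.not_le_iff_exists.mp hne
    haveI : Q.Normal := Subgroup.normal_of_characteristic Q
    let N : Subgroup (P ⧸ K) := Q.map π
    haveI : N.Normal := Subgroup.Normal.map inferInstance π (QuotientGroup.mk'_surjective K)
    have hN : N ≠ ⊥ := fun h => hqH (hKH (by
      have h1 : π q ∈ N := ⟨q, hq, rfl⟩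
      rw [h, Subgroup.mem_bot] at h1
      exact (QuotientGroup.eq_one_iff q).mp h1))
    have hPK : IsPGroup p (P ⧸ K) := hP.to_quotient K
    haveI := (Subgroup.nontrivial_iff_ne_bot N).mpr hN
    have hNp := hPK.to_subgroup N
    haveI := Fintype.ofFinite (P ⧸ K)
    have hbot : N ⊓ Subgroup.center (P ⧸ K) ≠ ⊥ := PGroup.inf_center_ne_bot hPK hN
    haveI := (Subgroup.nontrivial_iff_ne_bot _).mpr hbot
    obtain ⟨c, hc⟩ := exists_prime_orderOf_dvd_card' p (G := ↥(N ⊓ Subgroup.center (P ⧸ K))) (by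
      obtain ⟨n, hn, hcard⟩ := (hPK.to_subgroup (N ⊓ Subgroup.center (P ⧸ K))).nontrivial_iff_card.mp
        inferInstance
      exact hcard ▸ dvd_pow_self p hn.ne')
    obtain ⟨y, hy, hye⟩ := c.2.1
    have hyK : y ∈ Subgroup.centralizer (K : Set P) :=
      Subgroup.centralizer_le (fun k hk => hKH hk) hy
    have hcp : (c : P ⧸ K) ^ p = 1 := by
      rw [← hc, ← Subgroup.coe_pow, pow_orderOf_eq_one, Subgroup.coe_one]
    have hyH : y ∈ H := ⟨hyK, by rw [hye]; exact c.2.2, by rw [hye]; exact hcp⟩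
    have h1 : π y = 1 := (QuotientGroup.eq_one_iff y).mpr (hQH y hy hyH)
    rw [hye] at h1
    have h2 : c = 1 := Subtype.ext h1
    rw [h2, orderOf_one] at hc
    exact (Fact.out : p.Prime).one_lt.ne hc
  · have h1 := hx.2.2
    rw [← map_pow] at h1
    exact (QuotientGroup.eq_one_iff _).mp h1
  · refine (QuotientGroup.eq_one_iff _).mp ?_
    show π (x⁻¹ * (g * x * g⁻¹)) = 1
    simp only [map_mul, map_inv, Subgroup.mem_center_iff.mp hx.2.1 (π g)]
    simp

end Cfsg.Agent.Fus93
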