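import Cfsg.Agent.Fus93.Stabilizer
import Cfsg.Agent.Fus93.Critical

/-!
Automorphisms stabilizing a series of small elements of a `p`-group.
-/

set_option autoImplicit false

namespace Cfsg.Agent.Fus93

open Cfsg

variable {P : Type*} [Group P] {p : ℕ}

/-- The restriction of an automorphism to an invariant subgroup. -/
theorem exists_restrict [Finite P] (β : MulAut P) (H : Subgroup P) (h : ∀ x ∈ H, β x ∈ H) :
    ∃ γ : MulAut H, (∀ x : H, (γ x : P) = β x) ∧ orderOf γ ∣ orderOf β := by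
  let γ : MulAut H := MulEquiv.ofBijective ((β.toMonoidHom.comp H.subtype).codRestrict H fun x => h x x.2)
    (Finite.injective_iff_bijective.mp fun a b hab =>
      Subtype.ext (β.injective (congrArg Subtype.val hab)))
  refine ⟨γ, fun x => rfl, orderOf_dvd_of_pow_eq_one (MulEquiv.ext fun x => Subtype.ext ?_)⟩
  have key : ∀ (n : ℕ) (x : H), ((γ ^ n) x : P) = (β ^ n) x := by
    intro n
    induction n with
    | zero => intro x; rfl
    | succ n ih =>
      intro x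
      rw [pow_succ', pow_succ', MulAut.mul_apply, MulAut.mul_apply, ← ih x]
      rfl
  rw [key, pow_orderOf_eq_one]
  rfl

/-- A characteristic subgroup all of whose elements have order dividing `p` (or `4` if `p = 2`) on
which the automorphisms of order prime to `p` act faithfully. -/
theorem exists_small_faithful [Finite P] [Fact p.Prime] (hP : IsPGroup p P) :
    ∃ C : Subgroup P, C.Characteristic ∧ (∀ x ∈ C, x ^ p = 1 ∨ (p = 2 ∧ x ^ 4 = 1)) ∧
      ∀ β : MulAut P, (orderOf β).Coprime p → (∀ x ∈ C, β x = x) → β = 1 := by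
  obtain ⟨H, hHc, hcen, hpow, hcomm⟩ := exists_critical hP
  haveI := hHc
  haveI : H.Normal := Subgroup.normal_of_characteristic H
  have hcomm' : ∀ {a b : P}, a ∈ Subgroup.centralizer (H : Set P) → b ∈ H → Commute a b :=
    fun ha hb => ((Subgroup.mem_centralizer_iff.mp ha) _ hb).symm
  have hprod : ∀ x ∈ H, ∀ y ∈ H, ∀ n : ℕ, (p ∣ n * (n - 1) / 2) → x ^ n = 1 → y ^ n = 1 →
      (x * y) ^ n = 1 := by
    intro x hx y hy n hn hxn hyn
    set c := x⁻¹ * (y * x * y⁻¹) with hc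
    have hcC := hcomm x hx y
    have hcH : ∀ b ∈ H, Commute c b := fun b hb => hcomm' hcC hb
    have hcp : c ^ p = 1 := by
      have h1 : (x * c) ^ p = x ^ p * c ^ p := ((hcH x hx).symm).mul_pow p
      rw [show x * c = y * x * y⁻¹ by rw [hc]; group, conj_pow,
        ← (hcomm' (hpow x hx) hy).eq, mul_inv_cancel_right] at h1
      exact mul_eq_left.mp h1.symm
    have hyx : ∀ i : ℕ, y ^ i * x = c ^ i * (x * y ^ i) := by
      intro i
      induction i with
      | zero => simp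
      | succ i ih =>
        calc y ^ (i + 1) * x = y * (y ^ i * x) := by rw [pow_succ', mul_assoc]
          _ = y * c ^ i * (x * y ^ i) := by rw [ih]; group
          _ = c ^ i * ((y * x * y⁻¹) * y) * y ^ i := by
            rw [((hcH y hy).pow_left i).symm.eq]; group
          _ = c ^ i * (x * c) * (y * y ^ i) := by rw [hc]; group
          _ = c ^ i * (c * x) * (y * y ^ i) := by rw [(hcH x hx).symm.eq]
          _ = c ^ (i + 1) * (x * y ^ (i + 1)) := by rw [pow_succ c, pow_succ' y]; group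
    have key : ∀ m : ℕ, (x * y) ^ m = c ^ (m * (m - 1) / 2) * (x ^ m * y ^ m) := by
      intro m
      induction m with
      | zero => simp
      | succ m ihm =>
        have harith : (m + 1) * (m + 1 - 1) / 2 = m * (m - 1) / 2 + m := by
          cases m with
          | zero => rfl
          | succ j =>
            simp only [Nat.add_sub_cancel]
            rw [show (j + 1 + 1) * (j + 1) = (j + 1) * j + (j + 1) * 2 by ring,
              Nat.add_mul_div_right _ _ two_pos]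
        calc (x * y) ^ (m + 1) = c ^ (m * (m - 1) / 2) * (x ^ m * (y ^ m * x) * y) := by
              rw [pow_succ, ihm]; group
          _ = c ^ (m * (m - 1) / 2) * ((x ^ m * c ^ m) * (x * y ^ m) * y) := by rw [hyx]; group
          _ = c ^ (m * (m - 1) / 2) * ((c ^ m * x ^ m) * (x * y ^ m) * y) := by
              rw [((hcH _ (pow_mem hx m)).pow_left m).eq]
          _ = c ^ (m * (m - 1) / 2 + m) * (x ^ (m + 1) * y ^ (m + 1)) := by
              rw [pow_add, pow_succ x, pow_succ y]; group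
          _ = _ := by rw [harith]
    obtain ⟨j, hj⟩ := hn
    rw [key, hj, pow_mul, hcp, one_pow, hxn, hyn, one_mul, one_mul]
  set e := if p = 2 then 4 else p
  have he : p ∣ e * (e - 1) / 2 ∧ ∀ x : P, (x ^ e = 1 ↔ x ^ p = 1 ∨ (p = 2 ∧ x ^ 4 = 1)) := by
    by_cases hp2 : p = 2
    · simp only [e, hp2, if_true]
      refine ⟨⟨3, rfl⟩, fun x => ⟨fun h => Or.inr ⟨trivial, h⟩, ?_⟩⟩
      rintro (h | ⟨-, h⟩)
      · rw [show 4 = 2 * 2 by rfl, pow_mul, h, one_pow]
      · exact h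
    · simp only [e, hp2, if_false]
      refine ⟨?_, fun x => ⟨Or.inl, fun h => h.elim id fun h => h.1.elim⟩⟩
      obtain ⟨j, hj⟩ := ((Fact.out : p.Prime).eq_two_or_odd').resolve_left hp2
      refine ⟨(p - 1) / 2, ?_⟩
      rw [Nat.mul_div_assoc]; exact ⟨j, by omega⟩
  let C : Subgroup P :=
    { carrier := {x | x ∈ H ∧ x ^ e = 1}
      one_mem' := ⟨one_mem _, one_pow _⟩
      mul_mem' := fun {a b} ha hb => ⟨mul_mem ha.1 hb.1, hprod a ha.1 b hb.1 e he.1 ha.2 hb.2⟩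
      inv_mem' := fun {a} ha => ⟨inv_mem ha.1, by rw [inv_pow, ha.2, inv_one]⟩ }
  refine ⟨C, Subgroup.characteristic_iff_le_comap.mpr fun φ x hx => ⟨?_, ?_⟩,
    fun x hx => (he.2 x).mp hx.2, fun β hβ hfix => MulEquiv.ext fun g => ?_⟩
  · exact Subgroup.characteristic_iff_le_comap.mp hHc φ hx.1
  · show φ x ^ e = 1
    rw [← map_pow, hx.2, map_one]
  obtain ⟨γ, hγ, hγo⟩ := exists_restrict β H fun x hx =>
    Subgroup.characteristic_iff_le_comap.mp hHc β hx
  have hγ1 : γ = 1 := eq_one_of_fixes_small (hP.to_subgroup H) (Nat.Coprime.coprime_dvd_left hγo hβ)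
    fun x hx => Subtype.ext ((hγ x).trans (hfix x ⟨x.2, (he.2 _).mpr (hx.imp
      (fun h => congrArg Subtype.val h) (fun h => ⟨h.1, congrArg Subtype.val h.2⟩))⟩))
  have hH : ∀ x ∈ H, β x = x := fun x hx => by
    have := hγ ⟨x, hx⟩
    rw [hγ1] at this
    exact this.symm
  refine eq_self_of_fixed hP hβ g (hH _ (hcen (Subgroup.mem_centralizer_iff.mpr fun x hx => ?_)))
  have h4 := hH _ (Subgroup.Normal.conj_mem inferInstance x hx g)
  rw [map_mul, map_mul, map_inv, hH x hx] at h4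
  calc x * (g⁻¹ * β g) = g⁻¹ * (g * x * g⁻¹) * β g := by group
    _ = g⁻¹ * (β g * x * (β g)⁻¹) * β g := by rw [h4]
    _ = g⁻¹ * β g * x := by group

/-- An element of `A` stabilizing a series on the small elements of `D` lies in `O_p(A)`, if `D` is
invariant and contains `[P, β]` for the `β ∈ A` of order prime to `p`. -/
theorem mem_pCore_of_small_series [Finite P] [Fact p.Prime] (hP : IsPGroup p P)
    (A : Subgroup (MulAut P)) (D : Subgroup P) (hD : ∀ β ∈ A, ∀ x ∈ D, β x ∈ D)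
    (hmove : ∀ β ∈ A, (orderOf β).Coprime p → ∀ x, x⁻¹ * β x ∈ D) (n : ℕ) (Z : ℕ → Subgroup P)
    (h0 : Z 0 = ⊥) (hn : ∀ x ∈ D, (x ^ p = 1 ∨ (p = 2 ∧ x ^ 4 = 1)) → x ∈ Z n)
    (hinv : ∀ β ∈ A, ∀ i ≤ n, ∀ x ∈ D, (x ^ p = 1 ∨ (p = 2 ∧ x ^ 4 = 1)) → x ∈ Z i → β x ∈ Z i)
    (α : A) (hα : ∀ i < n, ∀ x ∈ D, (x ^ p = 1 ∨ (p = 2 ∧ x ^ 4 = 1)) → x ∈ Z (i + 1) →
      x⁻¹ * (α : MulAut P) x ∈ Z i) :
    α ∈ pCore p A := by
  obtain ⟨C, hCc, hCs, hCf⟩ := exists_small_faithful (hP.to_subgroup D)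
  have hCinv : ∀ β ∈ A, ∀ x ∈ C.map D.subtype, β x ∈ C.map D.subtype := by
    rintro β hβ _ ⟨x, hx, rfl⟩
    obtain ⟨γ, hγ, -⟩ := exists_restrict β D (hD β hβ)
    exact ⟨γ x, Subgroup.characteristic_iff_le_comap.mp hCc γ hx, hγ x⟩
  have hsmall : ∀ x ∈ C.map D.subtype, x ∈ D ∧ (x ^ p = 1 ∨ (p = 2 ∧ x ^ 4 = 1)) := by
    rintro _ ⟨x, hx, rfl⟩
    exact ⟨x.2, (hCs x hx).imp (fun h => congrArg Subtype.val h)
      fun h => ⟨h.1, congrArg Subtype.val h.2⟩⟩
  refine stabilizer_mem_pCore hP A n (fun i => C.map D.subtype ⊓ Z i)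
    (by simp only [h0, inf_bot_eq]) (fun β hβ i hi x hx => ⟨hCinv β hβ x hx.1,
      hinv β hβ i hi x (hsmall x hx.1).1 (hsmall x hx.1).2 hx.2⟩) (fun β hβ hcop h => ?_) α
    fun i hi x hx => Subgroup.mem_inf.mpr ⟨mul_mem (inv_mem hx.1) (hCinv _ α.2 x hx.1),
      hα i hi x (hsmall x hx.1).1 (hsmall x hx.1).2 hx.2⟩
  obtain ⟨γ, hγ, hγo⟩ := exists_restrict β D (hD β hβ)
  have hγ1 : γ = 1 := hCf γ (Nat.Coprime.coprime_dvd_left hγo hcop) fun x hx => Subtype.ext
    ((hγ x).trans (h x ⟨⟨x, hx, rfl⟩, hn x x.2 (hsmall x ⟨x, hx, rfl⟩).2⟩))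
  refine MulEquiv.ext fun x => eq_self_of_fixed hP hcop x ?_
  have := hγ ⟨_, hmove β hβ hcop x⟩
  rw [hγ1] at this
  exact this.symm

/-- If `g` maps `x` to a power of itself in a `p`-group then `x⁻¹ * gxg⁻¹` is a power of `x ^ p`. -/
theorem conj_div_mem_pow [Finite P] [Fact p.Prime] (hP : IsPGroup p P) {g x : P}
    (h : g * x * g⁻¹ ∈ Subgroup.zpowers x) :
    x⁻¹ * (g * x * g⁻¹) ∈ Subgroup.zpowers (x ^ p) := by
  obtain ⟨k, hk⟩ := Subgroup.mem_zpowers_iff.mp h
  have hiter : ∀ n : ℕ, g ^ n * x * (g ^ n)⁻¹ = x ^ (k ^ n) := by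
    intro n
    induction n with
    | zero => simp
    | succ n ih =>
      calc g ^ (n + 1) * x * (g ^ (n + 1))⁻¹ = g * (g ^ n * x * (g ^ n)⁻¹) * g⁻¹ := by
            rw [pow_succ']; group
        _ = (g * x * g⁻¹) ^ (k ^ n) := by rw [ih, conj_zpow]
        _ = x ^ (k ^ (n + 1)) := by rw [← hk, ← zpow_mul, pow_succ']
  by_cases hx : x = 1
  · simp [hx]
  obtain ⟨m, hm⟩ := hP g
  have h1 := hiter (p ^ m)
  rw [hm] at h1
  simp only [one_mul, inv_one, mul_one] at h1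
  have h2 : x ^ (k ^ (p ^ m) - 1) = 1 := by rw [zpow_sub, zpow_one, ← h1, mul_inv_cancel]
  have h3 : (p : ℤ) ∣ k ^ (p ^ m) - 1 := by
    refine dvd_trans (Int.natCast_dvd_natCast.mpr ?_) (orderOf_dvd_iff_zpow_eq_one.mpr h2)
    obtain ⟨j, hj⟩ := IsPGroup.iff_orderOf.mp hP x
    rw [hj]
    refine dvd_pow_self p fun h0 => hx ?_
    rw [← orderOf_eq_one_iff, hj, h0, pow_zero]
  have h4 : (p : ℤ) ∣ k - 1 := by
    rw [← ZMod.intCast_zmod_eq_zero_iff_dvd] at h3 ⊢
    push_cast at h3 ⊢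
    rwa [ZMod.pow_card_pow] at h3
  obtain ⟨l, hl⟩ := h4
  refine Subgroup.mem_zpowers_iff.mpr ⟨l, ?_⟩
  rw [← zpow_natCast, ← zpow_mul, ← hl, zpow_sub, zpow_one, hk]
  have : Commute x (g * x * g⁻¹) := hk ▸ (Commute.refl x).zpow_right k
  exact (this.inv_left.eq).symm

end Cfsg.Agent.Fus93
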