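import Cfsg.Agent.Fus93.Criteria

/-!
Normality of a strongly closed subgroup whose internal maps extend to automorphisms; transport of
maps of an invariant subsystem.
-/

set_option autoImplicit false

namespace Cfsg.Agent.Fus93

open Cfsg Cfsg.Agent.Fusion
open scoped commutatorElement

variable {Ω : Type*} [Group Ω] {S : Subgroup Ω} {F : FusionSystem S} {p : ℕ}

/-- A strongly closed subgroup all whose internal maps extend to automorphisms of it is normal. -/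
theorem isNormal_of_frattini [Finite S] [Fact p.Prime] (hS : IsPGroup p S) (hF : F.IsSaturated p)
    {Q : Subgroup Ω} (hQ : F.StronglyClosed Q)
    (h : ∀ P f, IsMap F P f → P ≤ Q → ∃ α : MulAut Q, ∀ x ∈ P, f x = autFun α x) : F.IsNormal Q := by
  obtain ⟨hQS, hQc⟩ := stronglyClosed_iff.mp hQ
  haveI := finite_of_le hQS
  haveI := Fintype.ofFinite Q
  haveI hnil : Group.IsNilpotent Q := (hS.of_injective _ (Subgroup.inclusion_injective hQS)).isNilpotent
  obtain ⟨n, hn⟩ := hnil.nilpotent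
  let C : ℕ → Subgroup Ω := fun i => (Subgroup.upperCentralSeries Q i).map Q.subtype
  have hCn : C n = Q := by simp only [C, hn, ← MonoidHom.range_eq_map, Subgroup.range_subtype]
  rw [← hCn]
  refine isNormal_of_chain hS hF n C (by simp [C]) (fun i _ => ?_) fun i _ x hx g hg => ?_
  · refine stronglyClosed_iff.mpr ⟨(Subgroup.map_subtype_le _).trans hQS, fun R f hf x hxR hx => ?_⟩
    obtain ⟨z, hz, rfl⟩ := hx
    obtain ⟨α, hα⟩ := h (R ⊓ Q) f (hf.mono inf_le_left) inf_le_right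
    rw [hα _ ⟨hxR, z.2⟩]
    exact ⟨α z, Subgroup.characteristic_iff_map_le.mp inferInstance α ⟨z, hz, rfl⟩,
      (autFun_coe α z).symm⟩
  · obtain ⟨z, hz, rfl⟩ := hx
    obtain ⟨w, -, rfl⟩ := hg
    refine ⟨⁅z⁻¹, w⁆, (Subgroup.mem_upperCentralSeries_succ_iff.mp (inv_mem hz) w), ?_⟩
    simp [commutatorElement_def, mul_assoc]

/-- A normal subgroup: maps extend to automorphisms of it, and it is strongly closed. -/
theorem normal_frattini {Q : Subgroup Ω} (hQ : F.IsNormal Q) {P : Subgroup Ω} {f : Ω → Ω}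
    (hf : IsMap F P f) : ∃ f', IsMap F (P ⊔ Q) f' ∧ Set.EqOn f' f P ∧ IsIso F Q Q f' := by
  obtain ⟨f', h1, h2, h3⟩ := (isNormal_iff.mp hQ).2 P f hf
  exact ⟨f', h1, h2, h1.mono le_sup_right, h3⟩

theorem normal_stronglyClosed {Q : Subgroup Ω} (hQ : F.IsNormal Q) : F.StronglyClosed Q := by
  refine stronglyClosed_iff.mpr ⟨hQ.1, fun R f hf x hxR hxQ => ?_⟩
  obtain ⟨f', -, he, hiso⟩ := normal_frattini hQ hf
  rw [← he hxR]
  exact hiso.mem hxQ

theorem normal_aut {Q : Subgroup Ω} (hQ : F.IsNormal Q) {P : Subgroup Ω} {f : Ω → Ω}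
    (hf : IsMap F P f) (hPQ : P ≤ Q) : ∃ α ∈ F.autGroup Q, ∀ x ∈ P, f x = autFun α x := by
  obtain ⟨f', -, he, hiso⟩ := normal_frattini hQ hf
  obtain ⟨α, hα, hαe⟩ := hiso.exists_aut
  exact ⟨α, hα, fun x hx => (he hx).symm.trans (hαe (hPQ hx)).symm⟩

/-- Transport of a map of an invariant subsystem by an automorphism of its subgroup. -/
theorem transport_isMap {T : Subgroup Ω} {E : FusionSystem T} (hE : E.IsInvariantIn F)
    {P : Subgroup Ω} {f : Ω → Ω} (hf : IsMap E P f) {α : MulAut T} (hα : α ∈ F.autGroup T) :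
    ∃ P' g, (∀ x ∈ P, autFun α x ∈ P') ∧ (∀ y ∈ P', ∃ x ∈ P, autFun α x = y) ∧ IsMap E P' g ∧
      ∀ x ∈ P, g (autFun α x) = autFun α (f x) := by
  obtain ⟨φ, hφ, hφf⟩ := hf
  have hPT : P ≤ T := (E.le_of_mem hφ).1
  obtain ⟨χ, hχ, hχe⟩ := hE.2.2.1 P hPT φ hφ α hα
  have hmem : ∀ x ∈ P, autFun α x ∈ (P.subgroupOf T).map (T.subtype.comp α.toMonoidHom) :=
    fun x hx => ⟨⟨x, hPT hx⟩, hx, (autFun_of_mem α (hPT hx)).symm⟩
  refine ⟨_, extFun χ, hmem, ?_, isMap_extFun hχ, fun x hx => ?_⟩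
  · rintro _ ⟨z, hz, rfl⟩
    exact ⟨z, hz, autFun_coe α z⟩
  · have hαx : ((α ⟨x, hPT hx⟩ : T) : Ω) ∈ (P.subgroupOf T).map (T.subtype.comp α.toMonoidHom) :=
      autFun_of_mem α (hPT hx) ▸ hmem x hx
    have h1 := hχe ⟨x, hx⟩ ((E.le_of_mem hφ).2 ⟨x, hx⟩) hαx
    rw [extFun_of_mem χ (hmem x hx), ← hφf ⟨x, hx⟩, autFun_of_mem α ((E.le_of_mem hφ).2 ⟨x, hx⟩), ← h1]
    congr 1
    exact Subtype.ext (autFun_of_mem α (hPT hx))

end Cfsg.Agent.Fus93
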