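import Cfsg.Agent.Lib.Fusion.Subsystem
import Cfsg.Agent.Lib.Fusion.Receptive
import Cfsg.Agent.Lib.Fusion.Saturation
import Cfsg.Agent.Fus93.Frattini

/-!
Isomorphisms of fusion systems over different ambient groups; normality of subsystems through maps.
-/

set_option autoImplicit false

namespace Cfsg.Agent.Fus93

open Cfsg Cfsg.Agent.Fusion
open Cfsg.FusionSystem (normalizerIn centralizerIn)

variable {Ω : Type*} [Group Ω] {S : Subgroup Ω} {Ω' : Type*} [Group Ω'] {S' : Subgroup Ω'}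
variable {F : FusionSystem S} {F' : FusionSystem S'} {a : Ω → Ω'} {b : Ω' → Ω}

/-- The subgroup spanned by the image of a subgroup under a function. -/
def img (a : Ω → Ω') (P : Subgroup Ω) : Subgroup Ω' := Subgroup.closure (a '' (P : Set Ω))

/-- An isomorphism of fusion systems given by mutually inverse functions on the underlying groups. -/
structure FIso (F : FusionSystem S) (F' : FusionSystem S') (a : Ω → Ω') (b : Ω' → Ω) : Prop where
  map_mul : ∀ x ∈ S, ∀ y ∈ S, a (x * y) = a x * a y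
  mem : ∀ x ∈ S, a x ∈ S'
  mem' : ∀ y ∈ S', b y ∈ S
  left : ∀ x ∈ S, b (a x) = x
  right : ∀ y ∈ S', a (b y) = y
  push : ∀ P f, IsMap F P f → ∀ P' : Subgroup Ω', (P' : Set Ω') = a '' P → IsMap F' P' (a ∘ f ∘ b)
  pull : ∀ P' f, IsMap F' P' f → ∀ P : Subgroup Ω, (P : Set Ω) = b '' P' → IsMap F P (b ∘ f ∘ a)

namespace FIso

variable (h : FIso F F' a b)
include h

theorem symm : FIso F' F b a where
  map_mul x hx y hy := by
    conv_lhs => rw [← h.right x hx, ← h.right y hy, ← h.map_mul _ (h.mem' x hx) _ (h.mem' y hy)]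
    exact h.left _ (S.mul_mem (h.mem' x hx) (h.mem' y hy))
  mem := h.mem'
  mem' := h.mem
  left := h.right
  right := h.left
  push := h.pull
  pull := h.push

theorem map_one : a 1 = 1 := by
  have := h.map_mul 1 S.one_mem 1 S.one_mem
  rw [mul_one] at this
  exact left_eq_mul.mp this

theorem map_inv {x : Ω} (hx : x ∈ S) : a x⁻¹ = (a x)⁻¹ := by
  refine eq_inv_of_mul_eq_one_left ?_
  rw [← h.map_mul _ (S.inv_mem hx) _ hx, inv_mul_cancel, h.map_one]

theorem map_conj {g x : Ω} (hg : g ∈ S) (hx : x ∈ S) : a (g * x * g⁻¹) = a g * a x * (a g)⁻¹ := by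
  rw [h.map_mul _ (S.mul_mem hg hx) _ (S.inv_mem hg), h.map_mul _ hg _ hx, h.map_inv hg]

theorem coe_img {P : Subgroup Ω} (hP : P ≤ S) : (img a P : Set Ω') = a '' P := by
  let K : Subgroup Ω' :=
    { carrier := a '' P
      one_mem' := ⟨1, P.one_mem, h.map_one⟩
      mul_mem' := by
        rintro _ _ ⟨x, hx, rfl⟩ ⟨y, hy, rfl⟩
        exact ⟨x * y, P.mul_mem hx hy, h.map_mul x (hP hx) y (hP hy)⟩
      inv_mem' := by
        rintro _ ⟨x, hx, rfl⟩
        exact ⟨x⁻¹, P.inv_mem hx, h.map_inv (hP hx)⟩ }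
  have : img a P = K := le_antisymm ((Subgroup.closure_le K).mpr fun _ hy => hy) fun y hy =>
    Subgroup.subset_closure hy
  rw [this]; rfl

theorem mem_img {P : Subgroup Ω} (hP : P ≤ S) {y : Ω'} : y ∈ img a P ↔ ∃ x ∈ P, a x = y := by
  rw [← SetLike.mem_coe, h.coe_img hP]; rfl

theorem apply_mem_img {P : Subgroup Ω} {x : Ω} (hx : x ∈ P) : a x ∈ img a P :=
  Subgroup.subset_closure ⟨x, hx, rfl⟩

theorem apply_mem_img_iff {P : Subgroup Ω} (hP : P ≤ S) {x : Ω} (hx : x ∈ S) :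
    a x ∈ img a P ↔ x ∈ P := by
  refine ⟨fun hm => ?_, h.apply_mem_img⟩
  obtain ⟨z, hz, hze⟩ := (h.mem_img hP).mp hm
  rwa [← h.left x hx, ← hze, h.left z (hP hz)]

theorem img_le {P : Subgroup Ω} (hP : P ≤ S) : img a P ≤ S' :=
  (Subgroup.closure_le _).mpr fun _ ⟨x, hx, he⟩ => he ▸ h.mem x (hP hx)

theorem back_mem {P : Subgroup Ω} (hP : P ≤ S) {y : Ω'} (hy : y ∈ img a P) : b y ∈ P := by
  obtain ⟨x, hx, rfl⟩ := (h.mem_img hP).mp hy
  rwa [h.left x (hP hx)]

theorem img_img {P : Subgroup Ω} (hP : P ≤ S) : img b (img a P) = P := by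
  ext x
  rw [h.symm.mem_img (h.img_le hP)]
  constructor
  · rintro ⟨y, hy, rfl⟩; exact h.back_mem hP hy
  · exact fun hx => ⟨a x, h.apply_mem_img hx, h.left x (hP hx)⟩

theorem img_top : img a S = S' :=
  le_antisymm (h.img_le le_rfl) fun y hy => h.right y hy ▸ h.apply_mem_img (h.mem' y hy)

omit h in
theorem img_mono {P Q : Subgroup Ω} (hPQ : P ≤ Q) : img a P ≤ img a Q :=
  Subgroup.closure_mono (Set.image_mono hPQ)

theorem card_img {P : Subgroup Ω} (hP : P ≤ S) : Nat.card (img a P) = Nat.card P :=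
  (Nat.card_congr ((Set.BijOn.mk (f := a) (s := (P : Set Ω)) (t := (img a P : Set Ω'))
    (fun _ hx => h.apply_mem_img hx)
    (fun x hx y hy e => by rw [← h.left x (hP hx), e, h.left y (hP hy)])
    (fun y hy => by rwa [h.coe_img hP] at hy)).equiv a)).symm

theorem map {P : Subgroup Ω} {f : Ω → Ω} (hf : IsMap F P f) : IsMap F' (img a P) (a ∘ f ∘ b) :=
  h.push P f hf _ (h.coe_img hf.dom_le)

theorem apply_map {P : Subgroup Ω} (hP : P ≤ S) (f : Ω → Ω) {x : Ω} (hx : x ∈ P) :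
    (a ∘ f ∘ b) (a x) = a (f x) := by
  simp only [Function.comp_apply, h.left x (hP hx)]

theorem iso {P Q : Subgroup Ω} {f : Ω → Ω} (hf : IsIso F P Q f) :
    IsIso F' (img a P) (img a Q) (a ∘ f ∘ b) := by
  refine ⟨h.map hf.1, ?_⟩
  rw [h.coe_img hf.dom_le, h.coe_img hf.cod_le, ← hf.2, Set.image_image, Set.image_image]
  exact Set.image_congr fun x hx => h.apply_map hf.dom_le f hx

theorem normalizer_mem {P : Subgroup Ω} (hP : P ≤ S) {g : Ω} (hg : g ∈ normalizerIn S P) :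
    a g ∈ normalizerIn S' (img a P) := by
  refine ⟨h.mem g hg.1, Subgroup.mem_normalizer_iff.mpr fun y => ⟨fun hy => ?_, fun hy => ?_⟩⟩
  · obtain ⟨x, hx, rfl⟩ := (h.mem_img hP).mp hy
    rw [← h.map_conj hg.1 (hP hx)]
    exact h.apply_mem_img (conj_mem_of_mem_normalizer hg.2 hx)
  · obtain ⟨x, hx, hxe⟩ := (h.mem_img hP).mp hy
    have hy' : y = (a g)⁻¹ * a x * (a g)⁻¹⁻¹ := by rw [hxe]; group
    rw [hy', ← h.map_inv hg.1, ← h.map_conj (S.inv_mem hg.1) (hP hx)]
    exact h.apply_mem_img (conj_mem_of_mem_normalizer (inv_mem hg.2) hx)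

theorem img_normalizerIn {P : Subgroup Ω} (hP : P ≤ S) :
    img a (normalizerIn S P) = normalizerIn S' (img a P) := by
  ext y
  rw [h.mem_img (normalizerIn_le S P)]
  constructor
  · rintro ⟨x, hx, rfl⟩; exact h.normalizer_mem hP hx
  · intro hy
    have h1 := h.symm.normalizer_mem (h.img_le hP) hy
    rw [h.img_img hP] at h1
    exact ⟨b y, h1, h.right y hy.1⟩

theorem centralizer_mem {P : Subgroup Ω} (hP : P ≤ S) {g : Ω} (hg : g ∈ centralizerIn S P) :
    a g ∈ centralizerIn S' (img a P) := by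
  refine ⟨h.mem g hg.1, Subgroup.mem_centralizer_iff.mpr fun y hy => ?_⟩
  obtain ⟨x, hx, rfl⟩ := (h.mem_img hP).mp hy
  rw [← h.map_mul x (hP hx) g hg.1, ← h.map_mul g hg.1 x (hP hx),
    Subgroup.mem_centralizer_iff.mp hg.2 x hx]

theorem img_centralizerIn {P : Subgroup Ω} (hP : P ≤ S) :
    img a (centralizerIn S P) = centralizerIn S' (img a P) := by
  ext y
  rw [h.mem_img (P := centralizerIn S P) inf_le_left]
  constructor
  · rintro ⟨x, hx, rfl⟩; exact h.centralizer_mem hP hx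
  · intro hy
    have h1 := h.symm.centralizer_mem (h.img_le hP) hy
    rw [h.img_img hP] at h1
    exact ⟨b y, h1, h.right y hy.1⟩

theorem img_sup {P Q : Subgroup Ω} (hP : P ≤ S) (hQ : Q ≤ S) : img a (P ⊔ Q) = img a P ⊔ img a Q := by
  refine le_antisymm (fun y hy => ?_) (sup_le (img_mono le_sup_left) (img_mono le_sup_right))
  obtain ⟨x, hx, rfl⟩ := (h.mem_img (sup_le hP hQ)).mp hy
  have hle : P ⊔ Q ≤ img b (img a P ⊔ img a Q) := sup_le
    (le_of_eq_of_le (h.img_img hP).symm (img_mono le_sup_left))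
    (le_of_eq_of_le (h.img_img hQ).symm (img_mono le_sup_right))
  exact h.symm.back_mem (sup_le (h.img_le hP) (h.img_le hQ)) (hle hx)

/-- The isomorphism between a subgroup and its image. -/
noncomputable def imgEquiv {P : Subgroup Ω} (hP : P ≤ S) : P ≃* img a P :=
  MulEquiv.ofBijective
    ({ toFun := fun x => ⟨a x, h.apply_mem_img x.2⟩
       map_one' := Subtype.ext h.map_one
       map_mul' := fun x y => Subtype.ext (h.map_mul _ (hP x.2) _ (hP y.2)) } : P →* img a P)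
    ⟨fun x y e => Subtype.ext (by
      rw [← h.left x (hP x.2), show a x = a y from congrArg Subtype.val e, h.left y (hP y.2)]),
    fun y => by
      obtain ⟨x, hx, hxy⟩ := (h.mem_img hP).mp y.2
      exact ⟨⟨x, hx⟩, Subtype.ext hxy⟩⟩

theorem coe_imgEquiv {P : Subgroup Ω} (hP : P ≤ S) (x : P) : (h.imgEquiv hP x : Ω') = a x := rfl

theorem coe_imgEquiv_symm {P : Subgroup Ω} (hP : P ≤ S) (y : img a P) :
    ((h.imgEquiv hP).symm y : Ω) = b y := by
  obtain ⟨x, rfl⟩ := (h.imgEquiv hP).surjective y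
  rw [MulEquiv.symm_apply_apply, h.coe_imgEquiv, h.left x (hP x.2)]

theorem map_autGroup {P : Subgroup Ω} (hP : P ≤ S) :
    (F.autGroup P).map (MulAut.congr (h.imgEquiv hP)).toMonoidHom = F'.autGroup (img a P) := by
  ext β
  constructor
  · rintro ⟨α, hα, rfl⟩
    refine (Fusion.mem_autGroup (h.img_le hP)).mpr ((h.iso ((Fusion.mem_autGroup hP).mp hα)).congr fun y hy => ?_)
    rw [autFun_of_mem _ hy, Function.comp_apply, Function.comp_apply, autFun_of_mem α (h.back_mem hP hy)]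
    show a ((α _ : P) : Ω) = a ((α ((h.imgEquiv hP).symm ⟨y, hy⟩) : P) : Ω)
    congr 3
    exact Subtype.ext (h.coe_imgEquiv_symm hP ⟨y, hy⟩).symm
  · intro hβ
    refine ⟨(MulAut.congr (h.imgEquiv hP)).symm β, ?_, MulEquiv.apply_symm_apply _ β⟩
    have h1 := h.symm.iso ((Fusion.mem_autGroup (h.img_le hP)).mp hβ)
    rw [h.img_img hP] at h1
    refine (Fusion.mem_autGroup hP).mpr (h1.congr fun x hx => ?_)
    rw [autFun_of_mem _ hx, Function.comp_apply, Function.comp_apply, autFun_of_mem β (h.apply_mem_img hx)]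
    show b ((β _ : img a P) : Ω') = (((h.imgEquiv hP).symm (β (h.imgEquiv hP ⟨x, hx⟩)) : P) : Ω)
    rw [h.coe_imgEquiv_symm]
    rfl

theorem map_autInduced {P : Subgroup Ω} (hP : P ≤ S) :
    (autInducedBy S P).map (MulAut.congr (h.imgEquiv hP)).toMonoidHom = autInducedBy S' (img a P) := by
  ext β
  constructor
  · rintro ⟨α, hα, rfl⟩
    obtain ⟨g, hg, hge⟩ := mem_autInducedBy.mp hα
    refine mem_autInducedBy.mpr ⟨a g, h.mem g hg, fun y => ?_⟩
    show a ((α ((h.imgEquiv hP).symm y) : P) : Ω) = _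
    rw [hge, h.coe_imgEquiv_symm, h.map_conj hg (h.mem' y (h.img_le hP y.2)),
      h.right y (h.img_le hP y.2)]
  · intro hβ
    obtain ⟨g, hg, hge⟩ := mem_autInducedBy.mp hβ
    refine ⟨(MulAut.congr (h.imgEquiv hP)).symm β, mem_autInducedBy.mpr ⟨b g, h.mem' g hg, fun x => ?_⟩,
      MulEquiv.apply_symm_apply _ β⟩
    show (((h.imgEquiv hP).symm (β (h.imgEquiv hP x)) : P) : Ω) = _
    rw [h.coe_imgEquiv_symm, hge, h.coe_imgEquiv, h.symm.map_conj hg (h.mem x (hP x.2)),
      h.left x (hP x.2)]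

theorem fullyAutomized [Finite S] {p : ℕ} [Fact p.Prime] {P : Subgroup Ω} (hA : F.IsFullyAutomized p P) :
    F'.IsFullyAutomized p (img a P) := by
  obtain ⟨hP, R, hR⟩ := hA
  haveI := Fus93.finite_autGroup (F := F) hP
  let ψ : F.autGroup P ≃* F'.autGroup (img a P) :=
    ((MulAut.congr (h.imgEquiv hP)).subgroupMap (F.autGroup P)).trans
      (MulEquiv.subgroupCongr (h.map_autGroup hP))
  have hψ : Function.Surjective ψ.toMonoidHom := ψ.surjective
  refine ⟨h.img_le hP, R.mapSurjective hψ, ?_⟩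
  rw [Sylow.coe_mapSurjective, hR]
  ext β
  rw [Subgroup.mem_map, Subgroup.mem_subgroupOf, ← h.map_autInduced hP, Subgroup.mem_map]
  constructor
  · rintro ⟨α, hα, rfl⟩
    exact ⟨(α : MulAut P), hα, rfl⟩
  · rintro ⟨α, hα, hαβ⟩
    obtain ⟨γ, rfl⟩ := ψ.surjective β
    exact ⟨γ, by
      rw [Subgroup.mem_subgroupOf, ← (MulAut.congr (h.imgEquiv hP)).injective hαβ]
      exact hα, rfl⟩

theorem receptive {P : Subgroup Ω} (hR : F.IsReceptive P) : F'.IsReceptive (img a P) := by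
  refine isReceptive_of (h.img_le hR.1) fun Q f hf M hQM hM => ?_
  have hQS := hf.dom_le
  have hf' := h.symm.iso hf
  rw [h.img_img hR.1] at hf'
  have hMe : IsExtendable S (img b Q) (b ∘ f ∘ a) (img b M) := by
    refine ⟨h.symm.img_le hM.1, fun g hg => ?_⟩
    obtain ⟨m, hm, rfl⟩ := (h.symm.mem_img hM.1).mp hg
    obtain ⟨hmN, k, hk, hke⟩ := hM.2 m hm
    refine ⟨(h.symm.normalizer_mem hQS ⟨hM.1 hm, hmN⟩).2, b k, h.mem' k hk, fun x hx => ?_⟩
    obtain ⟨z, hz, rfl⟩ := (h.symm.mem_img hQS).mp hx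
    rw [← h.symm.map_conj (hM.1 hm) (hQS hz)]
    simp only [Function.comp_apply, h.right _ (hQS hz),
      h.right _ (hQS (conj_mem_of_mem_normalizer hmN hz))]
    rw [hke z hz, h.symm.map_conj hk (hf.1.apply_mem hz)]
  obtain ⟨g, hg, hge⟩ := receptive_extend hR hf' hMe
  have hg' := h.map hg
  rw [h.img_sup (h.symm.img_le hQS) (h.symm.img_le hM.1), h.symm.img_img hQS, h.symm.img_img hM.1] at hg'
  refine ⟨_, hg'.mono le_sup_right, fun x hx => ?_⟩
  show a (g (b x)) = f x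
  rw [hge (h.symm.apply_mem_img hx)]
  simp only [Function.comp_apply, h.right x (hQS hx), h.right _ (hf.1.apply_mem hx)]

theorem isConj {P Q : Subgroup Ω} (hc : F.IsConj P Q) : F'.IsConj (img a P) (img a Q) := by
  obtain ⟨f, hf⟩ := isConj_iff.mp hc
  exact (h.iso hf).isConj

theorem isSaturated [Finite S] {p : ℕ} [Fact p.Prime] (hF : F.IsSaturated p) : F'.IsSaturated p := by
  intro P' hP'
  obtain ⟨Q, hQ, h1, h2⟩ := hF (img b P') (h.symm.img_le hP')
  have hc := h.isConj hQ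
  rw [h.symm.img_img hP'] at hc
  exact ⟨img a Q, hc, h.fullyAutomized h1, h.receptive h2⟩

theorem stronglyClosed {T : Subgroup Ω} (hT : F.StronglyClosed T) : F'.StronglyClosed (img a T) := by
  obtain ⟨hTS, hTc⟩ := stronglyClosed_iff.mp hT
  refine stronglyClosed_iff.mpr ⟨h.img_le hTS, fun R f hf x hxR hx => ?_⟩
  have h1 := hTc _ _ (h.symm.map hf) (b x) (h.symm.apply_mem_img hxR) (h.back_mem hTS hx)
  have h2 := h.apply_mem_img h1
  simp only [Function.comp_apply, h.right x (hf.dom_le hxR), h.right _ (hf.apply_mem hxR)] at h2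
  exact h2

/-- The image of a subsystem. -/
noncomputable def pushSys {T : Subgroup Ω} (E : FusionSystem T) (hTS : T ≤ S) (hE : E.IsSubsystemOf F) :
    FusionSystem (img a T) :=
  mkSub F' (img a T)
    (fun P g => P ≤ img a T ∧ (∀ x ∈ P, g x ∈ img a T) ∧ IsMap E (img b P) (b ∘ g ∘ a))
    (fun {P f g} hf hfg => ⟨hf.1, fun x hx => hfg hx ▸ hf.2.1 x hx, hf.2.2.congr fun y hy => by
      simp only [Function.comp_apply]
      rw [hfg (h.symm.back_mem (hf.1.trans (h.img_le hTS)) hy)]⟩)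
    (fun {P g} hg => ⟨by
      have h1 := h.map (hg.2.2.of_isSubsystemOf hE)
      rw [h.symm.img_img (hg.1.trans (h.img_le hTS))] at h1
      exact h1.congr fun x hx => by
        simp only [Function.comp_apply, h.right x (h.img_le hTS (hg.1 hx)),
          h.right _ (h.img_le hTS (hg.2.1 x hx))], hg.1, hg.2.1⟩)
    (fun {P g} hP hg => ⟨hP, fun x hx => Subgroup.mul_mem _ (Subgroup.mul_mem _ hg (hP hx)) (Subgroup.inv_mem _ hg), by
      have hP' : img b P ≤ T := (img_mono hP).trans_eq (h.img_img hTS)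
      refine (isMap_conj hP' (h.back_mem hTS hg)).congr fun y hy => ?_
      obtain ⟨x, hx, rfl⟩ := (h.symm.mem_img (hP.trans (h.img_le hTS))).mp hy
      simp only [Function.comp_apply, h.right x (h.img_le hTS (hP hx)),
        h.symm.map_conj (h.img_le hTS hg) (h.img_le hTS (hP hx))]⟩)
    (fun {P Q f g} hf hg hm => ⟨hf.1, fun x hx => hg.2.1 _ (hm x hx), (hf.2.2.comp hg.2.2 fun y hy => by
        simp only [Function.comp_apply]
        exact h.symm.apply_mem_img (hm _ (h.symm.back_mem (hf.1.trans (h.img_le hTS)) hy))).congr fun y hy => by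
      simp only [Function.comp_apply]
      rw [h.right _ (h.img_le hTS (hf.2.1 _ (h.symm.back_mem (hf.1.trans (h.img_le hTS)) hy)))]⟩)
    (fun {P Q f g} hf hi hg hgl => by
      have hPS := hf.1.trans (h.img_le hTS)
      have hQT : Q ≤ img a T := fun y hy => by
        obtain ⟨x, hx, rfl⟩ := hi.exists_preimage hy
        exact hf.2.1 x hx
      refine ⟨hQT, fun y hy => hf.1 (hg.mem hy), ?_⟩
      have him : IsIso E (img b P) (img b Q) (b ∘ f ∘ a) :=
        ⟨hf.2.2, (h.symm.iso hi).2⟩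
      obtain ⟨k, hk, hkl, -⟩ := him.exists_inv
      refine hk.1.congr fun y hy => ?_
      obtain ⟨z, hz, rfl⟩ := (h.symm.mem_img hi.cod_le).mp hy
      obtain ⟨x, hx, rfl⟩ := hi.exists_preimage hz
      have h1 := hkl (b x) (h.symm.apply_mem_img hx)
      simp only [Function.comp_apply, h.right x (hPS hx)] at h1
      simp only [Function.comp_apply, h.right _ (hi.cod_le (hi.mem hx)), hgl x hx, h1])

theorem isMap_pushSys {T : Subgroup Ω} {E : FusionSystem T} {hTS : T ≤ S} {hE : E.IsSubsystemOf F}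
    {P : Subgroup Ω'} {g : Ω' → Ω'} : IsMap (h.pushSys E hTS hE) P g ↔
      P ≤ img a T ∧ (∀ x ∈ P, g x ∈ img a T) ∧ IsMap E (img b P) (b ∘ g ∘ a) :=
  isMap_mkSub

theorem restrictIso {T : Subgroup Ω} (E : FusionSystem T) (hTS : T ≤ S) (hE : E.IsSubsystemOf F) :
    FIso E (h.pushSys E hTS hE) a b where
  map_mul x hx y hy := h.map_mul x (hTS hx) y (hTS hy)
  mem _ hx := h.apply_mem_img hx
  mem' _ hy := h.back_mem hTS hy
  left x hx := h.left x (hTS hx)
  right y hy := h.right y (h.img_le hTS hy)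
  push P f hf P' hP' := by
    have hPS : P ≤ S := hf.dom_le.trans hTS
    obtain rfl : P' = img a P := SetLike.coe_injective (hP'.trans (h.coe_img hPS).symm)
    refine h.isMap_pushSys.mpr ⟨img_mono hf.dom_le, fun y hy => h.apply_mem_img (hf.apply_mem (h.back_mem hPS hy)), ?_⟩
    rw [h.img_img hPS]
    refine hf.congr fun x hx => ?_
    simp only [Function.comp_apply, h.left x (hPS hx), h.left _ (hTS (hf.apply_mem hx))]
  pull P' g hg P hP := by
    obtain ⟨hP', -, h3⟩ := h.isMap_pushSys.mp hg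
    obtain rfl : P = img b P' := SetLike.coe_injective
      (hP.trans (h.symm.coe_img (hP'.trans (h.img_le hTS))).symm)
    exact h3

end FIso

/-- Normality of a subsystem, proved through maps. -/
theorem isInvariantIn_of {T : Subgroup Ω} {E : FusionSystem T} (hsub : E.IsSubsystemOf F)
    (hT : F.StronglyClosed T)
    (hinv : ∀ P f, IsMap E P f → ∀ k, IsIso F T T k → ∀ P' : Subgroup Ω, (P' : Set Ω) = k '' P →
      ∃ g, IsMap E P' g ∧ ∀ x ∈ P, g (k x) = k (f x))
    (hfr : ∀ P f, IsMap F P f → P ≤ T →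
      ∃ k g, IsIso F T T k ∧ IsMap E P g ∧ ∀ x ∈ P, f x = k (g x)) :
    E.IsInvariantIn F := by
  have hTS := hT.1
  refine ⟨hsub, hT, fun P hPT φ hφ α hα => ?_, fun P hPT φ hφ => ?_⟩
  · have hset : ((P.subgroupOf T).map (T.subtype.comp α.toMonoidHom) : Set Ω) = autFun α '' P := by
      ext y
      constructor
      · rintro ⟨x, hx, rfl⟩
        exact ⟨x, hx, autFun_coe α x⟩
      · rintro ⟨x, hx, rfl⟩
        exact ⟨⟨x, hPT hx⟩, hx, (autFun_of_mem α (hPT hx)).symm⟩
    obtain ⟨g, ⟨χ, hχ, hχg⟩, hge⟩ := hinv P _ (isMap_extFun hφ) _ ((Fusion.mem_autGroup hTS).mp hα) _ hset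
    refine ⟨χ, hχ, fun x hφx hαx => ?_⟩
    have h1 := hge x x.2
    rw [extFun_coe, autFun_of_mem α (hPT x.2), autFun_of_mem α hφx] at h1
    exact (hχg _).trans h1
  · obtain ⟨k, g, hk, hg, hfe⟩ := hfr P _ (isMap_extFun hφ) hPT
    obtain ⟨α, hα, hαe⟩ := hk.exists_aut
    obtain ⟨φ₀, hφ₀, hφ₀g⟩ := id hg
    refine ⟨α, hα, φ₀, hφ₀, fun x hx => ?_⟩
    rw [← extFun_coe φ x, hfe x x.2, ← hφ₀g, ← hαe hx, autFun_of_mem α hx]

/-- A normal subsystem, through maps: the extension condition. -/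
theorem isNormalIn_of {p : ℕ} {T : Subgroup Ω} {E : FusionSystem T} (hw : E.IsWeaklyNormalIn F p)
    (hext : ∀ k, IsIso E T T k → ∃ g, IsIso F (T ⊔ centralizerIn S T) (T ⊔ centralizerIn S T) g ∧
      (∀ x ∈ T, g x = k x) ∧ ∀ c ∈ centralizerIn S T, c⁻¹ * g c ∈ T ⊓ Subgroup.centralizer (T : Set Ω)) :
    E.IsNormalIn F p := by
  refine ⟨hw, fun α hα => ?_⟩
  obtain ⟨g, hg, hge, hgc⟩ := hext _ ((Fusion.mem_autGroup le_rfl).mp hα)
  obtain ⟨β, hβ, hβe⟩ := hg.exists_aut
  refine ⟨β, hβ, fun x => ?_, fun c hc => ?_⟩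
  · rw [← autFun_coe, hβe (Subgroup.inclusion _ x).2]
    exact (hge x x.2).trans (autFun_coe α x)
  · rw [← autFun_coe, hβe c.2]
    exact hgc _ hc

theorem normal_ext {p : ℕ} {T : Subgroup Ω} {E : FusionSystem T} (hE : E.IsNormalIn F p)
    {k : Ω → Ω} (hk : IsIso E T T k) :
    ∃ g, IsIso F (T ⊔ centralizerIn S T) (T ⊔ centralizerIn S T) g ∧
      (∀ x ∈ T, g x = k x) ∧ ∀ c ∈ centralizerIn S T, c⁻¹ * g c ∈ T ⊓ Subgroup.centralizer (T : Set Ω) := by
  obtain ⟨α, hα, hαe⟩ := hk.exists_aut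
  obtain ⟨β, hβ, hβT, hβC⟩ := hE.2 α hα
  refine ⟨autFun β, (Fusion.mem_autGroup (sup_le hE.1.2.2.2.1.1 inf_le_left)).mp hβ, fun x hx => ?_,
    fun c hc => ?_⟩
  · rw [← hαe hx, autFun_of_mem β (Subgroup.mem_sup_left hx), autFun_of_mem α hx]
    exact hβT ⟨x, hx⟩
  · rw [autFun_of_mem β (Subgroup.mem_sup_right hc)]
    exact hβC ⟨c, Subgroup.mem_sup_right hc⟩ hc

namespace FIso

variable (h : FIso F F' a b)
include h

/-- Transport of a normal subsystem. -/
theorem pushSys_isNormalIn [Finite S] {p : ℕ} [Fact p.Prime] {T : Subgroup Ω} {E : FusionSystem T} (hE : E.IsNormalIn F p) :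
    (h.pushSys E hE.1.2.2.2.1.1 hE.1.2.2.1).IsNormalIn F' p := by
  obtain ⟨⟨hEs, hFs, hinv⟩, -⟩ := id hE
  have hTS : T ≤ S := hinv.2.1.1
  haveI : Finite T := finite_of_le hTS
  have hr := h.restrictIso E hTS hinv.1
  refine isNormalIn_of ⟨hr.isSaturated hEs, h.isSaturated hFs, isInvariantIn_of
    (fun P => hom_subset_of_isMap fun g hg => ?_) (h.stronglyClosed hinv.2.1) ?_ ?_⟩ fun k hk => ?_
  · obtain ⟨hP, hv, h3⟩ := h.isMap_pushSys.mp hg
    have h1 := h.map (h3.of_isSubsystemOf hinv.1)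
    rw [h.symm.img_img (hP.trans (h.img_le hTS))] at h1
    exact h1.congr fun x hx => by
      simp only [Function.comp_apply, h.right x (h.img_le hTS (hP hx)), h.right _ (h.img_le hTS (hv x hx))]
  · intro P f hf k hk P' hP'
    obtain ⟨hPT, hfv, hf'⟩ := h.isMap_pushSys.mp hf
    have hk' := h.symm.iso hk
    rw [h.img_img hTS] at hk'
    obtain ⟨α, hα, hαe⟩ := hk'.exists_aut
    obtain ⟨Q, g, hQ, hQs, hg, hge⟩ := transport_isMap hinv hf' hα
    have hPS := hPT.trans (h.img_le hTS)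
    have hval : ∀ x ∈ img a T, autFun α (b x) = b (k x) := by
      intro x hx
      rw [hαe (h.back_mem hTS hx)]
      simp only [Function.comp_apply, h.right x (h.img_le hTS hx)]
    obtain rfl : P' = img a Q := by
      apply SetLike.coe_injective
      rw [hP', h.coe_img (hg.dom_le.trans hTS)]
      ext y
      constructor
      · rintro ⟨x, hx, rfl⟩
        refine ⟨b (k x), hval x (hPT hx) ▸ hQ _ (h.symm.apply_mem_img hx), h.right _ (hk.cod_le (hk.mem (hPT hx)))⟩
      · rintro ⟨z, hz, rfl⟩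
        obtain ⟨w, hw, rfl⟩ := hQs z hz
        obtain ⟨x, hx, rfl⟩ := (h.symm.mem_img hPS).mp hw
        exact ⟨x, hx, by rw [hval x (hPT hx), h.right _ (hk.cod_le (hk.mem (hPT hx)))]⟩
    refine ⟨_, hr.map hg, fun x hx => ?_⟩
    simp only [Function.comp_apply]
    rw [← hval x (hPT hx), hge _ (h.symm.apply_mem_img hx)]
    simp only [Function.comp_apply, h.right x (hPS hx)]
    rw [hval _ (hfv x hx), h.right _ (hk.cod_le (hk.mem (hfv x hx)))]
  · intro P f hf hPT
    have hf' := h.symm.map hf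
    have hPT' : img b P ≤ T := (img_mono hPT).trans_eq (h.img_img hTS)
    obtain ⟨φ, hφ, hφf⟩ := hf'
    obtain ⟨α, hα, φ₀, hφ₀, hfe⟩ := hinv.2.2.2 _ hPT' φ hφ
    have hg := hr.map (isMap_extFun hφ₀)
    rw [h.symm.img_img (hPT.trans (h.img_le hTS))] at hg
    refine ⟨_, _, h.iso ((Fusion.mem_autGroup hTS).mp hα), hg, fun x hx => ?_⟩
    have hbx := h.symm.apply_mem_img hx
    have hv : φ₀ ⟨b x, hbx⟩ ∈ T := (E.le_of_mem hφ₀).2 _
    have h1 := hfe ⟨b x, hbx⟩ hv
    rw [hφf] at h1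
    simp only [Function.comp_apply, h.right x (hf.dom_le hx)] at h1
    simp only [Function.comp_apply, extFun_of_mem φ₀ hbx, h.left _ (hTS hv), autFun_of_mem α hv]
    rw [← h1, h.right _ (hf.apply_mem hx)]
  · have hk' := hr.symm.iso hk
    rw [h.img_img hTS] at hk'
    obtain ⟨g, hg, hge, hgc⟩ := normal_ext hE hk'
    have hC : centralizerIn S T ≤ S := inf_le_left
    have hg' := h.iso hg
    rw [h.img_sup hTS hC, h.img_centralizerIn hTS] at hg'
    refine ⟨_, hg', fun y hy => ?_, fun c hc => ?_⟩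
    · simp only [Function.comp_apply]
      rw [hge _ (h.back_mem hTS hy)]
      simp only [Function.comp_apply, h.right y (h.img_le hTS hy)]
      exact h.right _ (h.img_le hTS (hk.mem hy))
    · have hc' : b c ∈ centralizerIn S T := by
        have := h.symm.centralizer_mem (h.img_le hTS) hc
        rwa [h.img_img hTS] at this
      obtain ⟨h1, h2⟩ := Subgroup.mem_inf.mp (hgc _ hc')
      have hgS : g (b c) ∈ S := hg.cod_le (hg.mem (Subgroup.mem_sup_right hc'))
      have he : c⁻¹ * (a ∘ g ∘ b) c = a ((b c)⁻¹ * g (b c)) := by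
        rw [h.map_mul _ (S.inv_mem hc'.1) _ hgS, h.map_inv hc'.1, h.right c hc.1]
        rfl
      rw [he]
      refine Subgroup.mem_inf.mpr ⟨h.apply_mem_img h1, Subgroup.mem_centralizer_iff.mpr fun y hy => ?_⟩
      obtain ⟨x, hx, rfl⟩ := (h.mem_img hTS).mp hy
      rw [← h.map_mul x (hTS hx) _ (hTS h1), ← h.map_mul _ (hTS h1) x (hTS hx),
        Subgroup.mem_centralizer_iff.mp h2 x hx]

theorem isSimple [Finite S] [Finite S'] {p : ℕ} [Fact p.Prime] (hs : F'.IsSimple p) : F.IsSimple p := by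
  refine ⟨h.symm.isSaturated hs.1, fun he => hs.2.1 ?_, fun T E hE => ?_⟩
  · rw [← h.img_top]
    refine eq_bot_iff.mpr fun y hy => ?_
    obtain ⟨x, hx, rfl⟩ := (h.mem_img le_rfl).mp hy
    rw [he, Subgroup.mem_bot] at hx
    rw [hx, h.map_one]
    exact one_mem _
  have hTS : T ≤ S := hE.1.2.2.2.1.1
  rcases hs.2.2 _ _ (h.pushSys_isNormalIn hE) with hT | ⟨hT, hEF⟩
  · refine Or.inl (eq_bot_iff.mpr fun x hx => ?_)
    have h1 := h.apply_mem_img hx
    rw [hT, Subgroup.mem_bot] at h1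
    rw [← h.left x (hTS hx), h1, h.symm.map_one]
    exact one_mem _
  · have hT' : T = S := by
      rw [← h.img_img hTS, hT, h.symm.img_top]
    refine Or.inr ⟨hT', fun P => Set.Subset.antisymm (hE.1.2.2.1 P) (hom_subset_of_isMap fun f hf => ?_)⟩
    have h1 : IsMap _ (img a P) (a ∘ f ∘ b) := (h.map hf).of_subset (hEF (img a P)).ge
    obtain ⟨-, -, h3⟩ := h.isMap_pushSys.mp h1
    rw [h.img_img hf.dom_le] at h3
    exact h3.congr fun x hx => by
      simp only [Function.comp_apply, h.left x (hf.dom_le hx), h.left _ (hf.apply_mem hx)]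

end FIso

end Cfsg.Agent.Fus93
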