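import Cfsg.Agent.Lib.Fusion.Saturation
import Cfsg.Agent.Lib.Fusion.Closed

/-!
Fusion systems over abelian groups; the inner system is saturated and normal.
-/

set_option autoImplicit false

namespace Cfsg.Agent.Fus93

open Cfsg Cfsg.Agent.Fusion
open Cfsg.FusionSystem (normalizerIn centralizerIn)

variable {Ω : Type*} [Group Ω] {S : Subgroup Ω} {F : FusionSystem S} {p : ℕ}

theorem inner_autGroup {P : Subgroup Ω} (hP : P ≤ S) :
    (innerFusionSystem S).autGroup P = autInducedBy S P := by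
  refine le_antisymm (fun α hα => ?_) (autInducedBy_le_autGroup hP)
  obtain ⟨-, g, hg, h⟩ := (mem_autGroup_iff_hom hP).mp hα
  exact mem_autInducedBy.mpr ⟨g, hg, h⟩

theorem inner_isSaturated [Finite S] [Fact p.Prime] (hS : IsPGroup p S) :
    (innerFusionSystem S).IsSaturated p := by
  intro P hP
  refine ⟨P, isConj_refl hP, ⟨hP, ?_⟩, isReceptive_of hP fun R f hf M hRM hM => ?_⟩
  · rw [inner_autGroup hP, Subgroup.subgroupOf_self]
    have hp : IsPGroup p (autInducedBy S P) := by
      rw [← range_conjAutHom]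
      exact (hS.of_injective _ (Subgroup.inclusion_injective (normalizerIn_le S P))).of_surjective _
        (MonoidHom.rangeRestrict_surjective _)
    exact ⟨⟨⊤, (hp.of_equiv Subgroup.topEquiv.symm), fun _ h => eq_top_iff.mpr h⟩, rfl⟩
  · obtain ⟨φ, ⟨-, g, hg, hge⟩, hφf⟩ := hf.1
    refine ⟨fun x => g * x * g⁻¹, isMap_conj hM.1 hg, fun x hx => ?_⟩
    exact (hge ⟨x, hx⟩).symm.trans (hφf ⟨x, hx⟩)

/-- In a saturated system over an abelian group every map extends to an automorphism of `S`. -/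
theorem abelian_extend [Finite S] [Fact p.Prime] (hS : IsPGroup p S) (hF : F.IsSaturated p)
    (hab : ∀ x ∈ S, ∀ y ∈ S, x * y = y * x) {P : Subgroup Ω} {f : Ω → Ω} (hf : IsMap F P f) :
    ∃ α ∈ F.autGroup S, Set.EqOn (autFun α) f P := by
  obtain ⟨Q, hQ⟩ := hf.exists_image
  have hcen : ∀ R : Subgroup Ω, R ≤ S → centralizerIn S R = S := fun R hR =>
    le_antisymm inf_le_left fun x hx =>
      ⟨hx, Subgroup.mem_centralizer_iff.mpr fun y hy => (hab x hx y (hR hy)).symm⟩
  have hfc : F.IsFullyCentralized Q := ⟨hQ.cod_le, fun R hR => by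
    rw [hcen R (isConj_le_right hR), hcen Q hQ.cod_le]⟩
  obtain ⟨f', hf', he⟩ := receptive_extend (receptive_of_fullyCentralized hS hF hfc) hQ
    (isExtendable_centralizerIn f)
  rw [hcen P hf.dom_le, sup_eq_right.mpr hf.dom_le] at hf'
  have hiso : IsIso F S S f' := ⟨hf', Set.eq_of_subset_of_subset
    (by rintro _ ⟨x, hx, rfl⟩; exact hf'.apply_mem hx)
    (fun y hy => surjOn_of_card_le le_rfl hf'.injOn (fun x hx => hf'.apply_mem hx) le_rfl y hy)⟩
  obtain ⟨α, hα, hαe⟩ := hiso.exists_aut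
  exact ⟨α, hα, fun x hx => (hαe (hf.dom_le hx)).trans (he hx)⟩

/-- Over an abelian group the automizer of `S` has order prime to `p`. -/
theorem abelian_not_dvd [Finite S] [Fact p.Prime] (hS : IsPGroup p S) (hF : F.IsSaturated p)
    (hab : ∀ x ∈ S, ∀ y ∈ S, x * y = y * x) : ¬ p ∣ Nat.card (F.autGroup S) := by
  obtain ⟨-, R, hR⟩ := fullyAutomized_of_fullyNormalized hS hF fullyNormalized_self
  have hbot : autInducedBy S S = ⊥ := by
    refine (Subgroup.eq_bot_iff_forall _).mpr fun α hα => ?_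
    obtain ⟨g, hg, h⟩ := mem_autInducedBy.mp hα
    exact MulEquiv.ext fun x => Subtype.ext (by rw [h x, hab g hg x x.2, mul_inv_cancel_right]; rfl)
  haveI : Finite (MulAut S) := finite_mulAut S
  intro h
  refine Sylow.ne_bot_of_dvd_card R h ?_
  rw [hR, hbot, Subgroup.bot_subgroupOf]

/-- If all maps are restrictions of conjugations the system is inner. -/
theorem eq_inner_of_abelian [Finite S] [Fact p.Prime] (hS : IsPGroup p S) (hF : F.IsSaturated p)
    (hab : ∀ x ∈ S, ∀ y ∈ S, x * y = y * x) (h : F.autGroup S = ⊥) (P : Subgroup Ω) :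
    F.Hom P = (innerFusionSystem S).Hom P := by
  refine Set.Subset.antisymm (fun φ hφ => ?_) (fun φ hφ => ?_)
  · obtain ⟨α, hα, he⟩ := abelian_extend hS hF hab (isMap_extFun hφ)
    refine ⟨(F.le_of_mem hφ).1, 1, S.one_mem, fun x => ?_⟩
    have h1 := he x.2
    rw [h, Subgroup.mem_bot] at hα
    rw [hα, autFun_one ((F.le_of_mem hφ).1 x.2), extFun_coe] at h1
    rw [← h1]; simp
  · obtain ⟨hP, g, hg, he⟩ := hφ
    exact (isMap_conj hP hg).mem_hom he

end Cfsg.Agent.Fus93
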