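import Cfsg.Prelude.Def_FusionSystem

/-!
Elementary facts about fusion systems used by the rows S5277 to S5343.
-/

set_option autoImplicit false

namespace Cfsg.Agent.Fus93

variable {Ω : Type*} [Group Ω] {S : Subgroup Ω}

theorem subtype_mem (F : FusionSystem S) {P : Subgroup Ω} (hP : P ≤ S) : P.subtype ∈ F.Hom P := by
  have h := F.conj_mem hP (one_mem S)
  have he : conjHom P (1 : Ω) = P.subtype := by
    ext x; simp [conjHom]
  rwa [he] at h

theorem hom_le (F : FusionSystem S) {P : Subgroup Ω} {φ : P →* Ω} (h : φ ∈ F.Hom P) : P ≤ S :=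
  (F.le_of_mem h).1

theorem hom_val_mem (F : FusionSystem S) {P : Subgroup Ω} {φ : P →* Ω} (h : φ ∈ F.Hom P) (x : P) :
    φ x ∈ S :=
  (F.le_of_mem h).2 x

/-- Composite of two maps, given pointwise. -/
theorem comp_mem' (F : FusionSystem S) {P Q : Subgroup Ω} {φ : P →* Ω} {ψ : Q →* Ω} {χ : P →* Ω}
    (hφ : φ ∈ F.Hom P) (hψ : ψ ∈ F.Hom Q) (h : ∀ x : P, φ x ∈ Q)
    (hχ : ∀ x : P, χ x = ψ ⟨φ x, h x⟩) : χ ∈ F.Hom P := by
  have h1 := F.comp_mem hφ hψ h
  have he : χ = ψ.comp (φ.codRestrict Q h) := MonoidHom.ext fun x => hχ x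
  rwa [he]

/-- Restriction to a smaller subgroup. -/
theorem restrict_mem (F : FusionSystem S) {P R : Subgroup Ω} {φ : P →* Ω} (hφ : φ ∈ F.Hom P)
    (hRP : R ≤ P) : φ.comp (Subgroup.inclusion hRP) ∈ F.Hom R :=
  comp_mem' F (subtype_mem F (hRP.trans (hom_le F hφ))) hφ (fun x => hRP x.2) (fun _ => rfl)

theorem restrict_mem' (F : FusionSystem S) {P R : Subgroup Ω} {φ : P →* Ω} {χ : R →* Ω}
    (hφ : φ ∈ F.Hom P) (hRP : R ≤ P) (h : ∀ x : R, χ x = φ ⟨x, hRP x.2⟩) : χ ∈ F.Hom R := by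
  have he : χ = φ.comp (Subgroup.inclusion hRP) := MonoidHom.ext fun x => h x
  rw [he]; exact restrict_mem F hφ hRP

theorem conj_mem' (F : FusionSystem S) {P : Subgroup Ω} {g : Ω} {χ : P →* Ω} (hP : P ≤ S) (hg : g ∈ S)
    (h : ∀ x : P, χ x = g * (x : Ω) * g⁻¹) : χ ∈ F.Hom P := by
  have he : χ = conjHom P g := MonoidHom.ext fun x => by rw [h x]; rfl
  rw [he]; exact F.conj_mem hP hg

/-- The inner system is contained in every fusion system. -/
theorem inner_le (F : FusionSystem S) (P : Subgroup Ω) :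
    (innerFusionSystem S).Hom P ⊆ F.Hom P := by
  rintro φ ⟨hP, g, hg, h⟩
  exact conj_mem' F hP hg h

/-- An inverse of a map, defined on a subgroup equal to its image. -/
theorem inv_mem' (F : FusionSystem S) {P R : Subgroup Ω} {φ : P →* Ω} (hφ : φ ∈ F.Hom P)
    (hR : φ.range = R) :
    ∃ ψ ∈ F.Hom R, (∀ (x : P) (hx : φ x ∈ R), ψ ⟨φ x, hx⟩ = (x : Ω)) ∧ (∀ y : R, ψ y ∈ P) ∧
      ψ.range = P := by
  subst hR
  obtain ⟨ψ, hψ, h⟩ := F.inv_mem hφ
  refine ⟨ψ, hψ, fun x _ => h x, ?_, ?_⟩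
  · rintro ⟨_, x, rfl⟩
    rw [h x]; exact x.2
  · ext z
    constructor
    · rintro ⟨⟨_, x, rfl⟩, rfl⟩
      rw [h x]; exact x.2
    · intro hz
      exact ⟨⟨φ ⟨z, hz⟩, ⟨⟨z, hz⟩, rfl⟩⟩, h ⟨z, hz⟩⟩

/-- A map of the system as an isomorphism onto its image. -/
noncomputable def isoOf (F : FusionSystem S) {P : Subgroup Ω} {φ : P →* Ω} (hφ : φ ∈ F.Hom P) :
    P ≃* φ.range :=
  MonoidHom.ofInjective (F.injective_of_mem hφ)

theorem isoOf_apply (F : FusionSystem S) {P : Subgroup Ω} {φ : P →* Ω} (hφ : φ ∈ F.Hom P) (x : P) :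
    ((isoOf F hφ x : φ.range) : Ω) = φ x := rfl

theorem card_range (F : FusionSystem S) {P : Subgroup Ω} {φ : P →* Ω} (hφ : φ ∈ F.Hom P) :
    Nat.card φ.range = Nat.card P :=
  (Nat.card_congr (isoOf F hφ).toEquiv).symm

theorem isConj_refl (F : FusionSystem S) {P : Subgroup Ω} (hP : P ≤ S) : F.IsConj P P :=
  ⟨P.subtype, subtype_mem F hP, Subgroup.range_subtype P⟩

theorem isConj_symm (F : FusionSystem S) {P Q : Subgroup Ω} (h : F.IsConj P Q) : F.IsConj Q P := by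
  obtain ⟨φ, hφ, hr⟩ := h
  obtain ⟨ψ, hψ, -, -, hr'⟩ := inv_mem' F hφ hr
  exact ⟨ψ, hψ, hr'⟩

theorem isConj_trans (F : FusionSystem S) {P Q R : Subgroup Ω} (h₁ : F.IsConj P Q)
    (h₂ : F.IsConj Q R) : F.IsConj P R := by
  obtain ⟨φ, hφ, rfl⟩ := h₁
  obtain ⟨ψ, hψ, rfl⟩ := h₂
  refine ⟨_, F.comp_mem hφ hψ fun x => ⟨x, rfl⟩, ?_⟩
  ext z
  constructor
  · rintro ⟨x, rfl⟩; exact ⟨_, rfl⟩
  · rintro ⟨⟨_, x, rfl⟩, rfl⟩; exact ⟨x, rfl⟩

theorem isConj_le_left (F : FusionSystem S) {P Q : Subgroup Ω} (h : F.IsConj P Q) : P ≤ S := by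
  obtain ⟨φ, hφ, -⟩ := h
  exact hom_le F hφ

theorem isConj_le_right (F : FusionSystem S) {P Q : Subgroup Ω} (h : F.IsConj P Q) : Q ≤ S :=
  isConj_le_left F (isConj_symm F h)

theorem isConj_card (F : FusionSystem S) {P Q : Subgroup Ω} (h : F.IsConj P Q) :
    Nat.card Q = Nat.card P := by
  obtain ⟨φ, hφ, rfl⟩ := h
  exact card_range F hφ

/-- For `P ≤ S` membership of `Aut_F(P)` is membership of the generating set. -/
theorem mem_autGroup (F : FusionSystem S) {P : Subgroup Ω} (hP : P ≤ S) {α : MulAut P} :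
    α ∈ F.autGroup P ↔ P.subtype.comp α.toMonoidHom ∈ F.Hom P := by
  constructor
  · intro h
    induction h using Subgroup.closure_induction with
    | mem x hx => exact hx
    | one => exact restrict_mem' F (subtype_mem F hP) le_rfl fun x => rfl
    | mul a b _ _ ha hb => exact comp_mem' F hb ha (fun x => (b x).2) fun x => rfl
    | inv a _ ha =>
      obtain ⟨ψ, hψ, h1, -, -⟩ := inv_mem' F ha (R := P) (by
        ext z
        constructor
        · rintro ⟨x, rfl⟩; exact (a x).2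
        · intro hz
          exact ⟨a.symm ⟨z, hz⟩, by simp⟩)
      refine restrict_mem' F hψ le_rfl fun x => ?_
      have h2 := h1 (a.symm x) (a (a.symm x)).2
      have h3 : (⟨(P.subtype.comp a.toMonoidHom) (a.symm x), (a (a.symm x)).2⟩ : P) = x :=
        Subtype.ext (by simp)
      rw [h3] at h2
      exact h2.symm
  · exact fun h => Subgroup.subset_closure h

/-- Maps of `F` between subgroups of a strongly closed subgroup stay inside it. -/
theorem stronglyClosed_mem (F : FusionSystem S) {T P : Subgroup Ω} (hT : F.StronglyClosed T)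
    {φ : P →* Ω} (hφ : φ ∈ F.Hom P) (x : P) (hx : (x : Ω) ∈ T) : φ x ∈ T := by
  have h1 := hT.2 (P ⊓ T) inf_le_right _ (restrict_mem F hφ (inf_le_left : P ⊓ T ≤ P)) ⟨x, x.2, hx⟩
  exact h1

end Cfsg.Agent.Fus93
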