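import Cfsg.Agent.Lib.Fusion.Saturation
import Cfsg.Agent.Fusion92.Centric

/-!
Maps of a subsystem over the same group are detected on centric subgroups.
-/

set_option autoImplicit false

namespace Cfsg.Agent.Fus93

open Cfsg Cfsg.Agent.Fusion
open Cfsg.FusionSystem (normalizerIn centralizerIn)

variable {Ω : Type*} [Group Ω] {S : Subgroup Ω} {F F' : FusionSystem S} {p : ℕ}

theorem isCentric_of_isConj {P Q : Subgroup Ω} (hP : F.IsCentric P) (h : F.IsConj P Q) :
    F.IsCentric Q :=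
  ⟨isConj_le_right h, fun R hR => hP.2 R (isConj_trans h hR)⟩

theorem isCentric_of_le {U R : Subgroup Ω} (hU : F.IsCentric U) (hUR : U ≤ R) (hR : R ≤ S) :
    F.IsCentric R := by
  refine ⟨hR, fun R' hR' => ?_⟩
  obtain ⟨f, hf⟩ := isConj_iff.mp hR'
  obtain ⟨U', hU'R, hfU⟩ := hf.restrict hUR
  intro x hx
  refine hU'R (hU.2 U' hfU.isConj ⟨hx.1, ?_⟩)
  exact Subgroup.mem_centralizer_iff.mpr fun y hy => Subgroup.mem_centralizer_iff.mp hx.2 y (hU'R hy)

theorem isCentric_mono (hle : F' ≤ F) {P : Subgroup Ω} (h : F.IsCentric P) : F'.IsCentric P := by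
  refine ⟨h.1, fun Q ⟨φ, hφ, hr⟩ => h.2 Q ⟨φ, hle _ hφ, hr⟩⟩

theorem isFullyCentralized_of_isCentric [Finite S] {Q : Subgroup Ω} (hQ : F.IsCentric Q) :
    F.IsFullyCentralized Q := by
  refine ⟨hQ.1, fun R hR => ?_⟩
  obtain ⟨f, hf⟩ := isConj_iff.mp hR
  obtain ⟨g, hg, hgl, hgr⟩ := hf.exists_inv
  refine card_le_of_injOn (FusionSystem.centralizerIn S Q |> fun _ => inf_le_left)
    (hg.1.injOn.mono fun x hx => hQ.2 R hR hx) fun x hx => ?_
  have hxR : x ∈ R := hQ.2 R hR hx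
  refine ⟨hg.1.apply_mem hxR, Subgroup.mem_centralizer_iff.mpr fun y hy => ?_⟩
  have hfy : f y ∈ R := hf.mem hy
  have h1 := congrArg g (Subgroup.mem_centralizer_iff.mp hx.2 (f y) hfy)
  rwa [hg.1.map_mul hfy hxR, hg.1.map_mul hxR hfy, hgl y hy] at h1

/-- A map of `F` whose restriction to a centric subgroup lies in the saturated subsystem `F'` lies
in `F'`. -/
theorem isMap_of_centric [Finite S] [Fact p.Prime] (hS : IsPGroup p S) (hF : F.IsSaturated p)
    (hF' : F'.IsSaturated p) (hle : F' ≤ F) :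
    ∀ (n : ℕ) {U R : Subgroup Ω}, Nat.card R ≤ Nat.card U + n → F.IsCentric U → U ≤ R →
      ∀ {f : Ω → Ω}, IsMap F R f → IsMap F' U f → IsMap F' R f := by
  intro n
  induction n with
  | zero =>
    intro U R hn hU hUR f hf hf'
    haveI := finite_of_le hf.dom_le
    rwa [← Subgroup.eq_of_le_of_card_ge hUR (by omega)]
  | succ n ih =>
    intro U R hn hU hUR f hf hf'
    by_cases hUR' : U = R
    · rwa [← hUR']
    have hRS := hf.dom_le
    haveI : Finite R := finite_of_le hRS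
    set R₁ := FusionSystem.normalizerIn R U
    have hR₁ : R₁ ≤ R := inf_le_left
    have hU₁ : U ≤ R₁ := le_normalizerIn hUR
    have hlt : U < R₁ := by
      haveI : Fintype R := Fintype.ofFinite R
      haveI := (hS.of_injective _ (Subgroup.inclusion_injective hRS)).isNilpotent
      obtain ⟨r, hrN, hrU⟩ := SetLike.exists_of_lt (Group.normalizerCondition_of_isNilpotent
        (U.subgroupOf R) (lt_top_iff_ne_top.mpr fun h =>
          hUR' (le_antisymm hUR (Subgroup.subgroupOf_eq_top.mp h))))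
      refine lt_of_le_of_ne hU₁ fun h => hrU (Subgroup.mem_subgroupOf.mpr (h ▸ ⟨r.2, ?_⟩))
      refine Subgroup.mem_normalizer_iff.mpr fun y => ⟨fun hy => ?_, fun hy => ?_⟩
      · exact (Subgroup.mem_normalizer_iff.mp hrN ⟨y, hUR hy⟩).mp hy
      · have hyR : y ∈ R := by
          have := R.mul_mem (R.mul_mem (R.inv_mem r.2) (hUR hy)) r.2
          simpa [mul_assoc] using this
        exact (Subgroup.mem_normalizer_iff.mp hrN ⟨y, hyR⟩).mpr hy
    obtain ⟨U', hU'⟩ := hf'.exists_image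
    have hU'F : F.IsConj U U' := (IsIso.isConj ⟨hf'.of_le hle, hU'.2⟩)
    have hM : IsExtendable S U f R₁ := ⟨hR₁.trans hRS, fun g hg =>
      ⟨hg.2, f g, hf.apply_mem hg.1, fun x hx => hf.map_conj hg.1 (hUR hx)⟩⟩
    obtain ⟨θ, hθ, hθe⟩ := receptive_extend (receptive_of_fullyCentralized hS hF'
      (isFullyCentralized_of_isCentric (isCentric_mono hle (isCentric_of_isConj hU hU'F)))) hU' hM
    rw [sup_eq_right.mpr hU₁] at hθ
    obtain ⟨φ, hφ, hφf⟩ := hf.mono hR₁
    obtain ⟨ψ, hψ, hψθ⟩ := id hθ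
    obtain ⟨z, hzU, -, hz⟩ := Fusion92.agree_on_centric hS F hF hU hU₁ (hle _ hψ) hφ
      fun x hx => by rw [hφf, hψθ, hθe hx]
    have h₁ : IsMap F' R₁ f := by
      refine ((isMap_conj (hR₁.trans hRS) (hRS (hR₁ z.2))).comp hθ fun x hx =>
        R₁.mul_mem (R₁.mul_mem z.2 hx) (R₁.inv_mem z.2)).congr fun x hx => ?_
      have h := hz ⟨x, hx⟩
      rw [hψθ, hφf] at h
      exact h.symm
    haveI : Finite R₁ := finite_of_le (hR₁.trans hRS)
    have hcard : Nat.card U < Nat.card R₁ := by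
      refine lt_of_le_of_ne (Subgroup.card_le_of_le hU₁) fun h => hlt.ne ?_
      exact Subgroup.eq_of_le_of_card_ge hU₁ h.ge
    exact ih (U := R₁) (by omega) (isCentric_of_le hU hU₁ (hR₁.trans hRS)) hR₁ hf h₁

end Cfsg.Agent.Fus93
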