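import Cfsg.Agent.Fus93.Stabilizer

/-!
Criteria for normality in a saturated fusion system.
-/

set_option autoImplicit false

namespace Cfsg.Agent.Fus93

open Cfsg Cfsg.Agent.Fusion
open Cfsg.FusionSystem (normalizerIn centralizerIn)

variable {Ω : Type*} [Group Ω] {S : Subgroup Ω} {F : FusionSystem S} {p : ℕ}

theorem mem_of_mem_pCore_radical [Finite S] [Fact p.Prime] {P : Subgroup Ω} (hc : F.IsCentric P)
    (hr : F.IsRadical p P) {g : Ω} (hg : g ∈ normalizerIn S P)
    (h : (⟨conjAutHom S P ⟨g, hg⟩, autInducedBy_le_autGroup hc.1 (range_conjAutHom S P ▸ ⟨_, rfl⟩)⟩ :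
      F.autGroup P) ∈ pCore p (F.autGroup P)) : g ∈ P := by
  have h1 : conjAutHom S P ⟨g, hg⟩ ∈ Cfsg.Inn P := hr.2 ▸ ⟨_, h, rfl⟩
  obtain ⟨u, hu, hue⟩ := mem_inn.mp h1
  have hcen : u⁻¹ * g ∈ centralizerIn S P := by
    refine ⟨S.mul_mem (S.inv_mem (hc.1 hu)) hg.1, Subgroup.mem_centralizer_iff.mpr fun y hy => ?_⟩
    have h2 : g * y * g⁻¹ = u * y * u⁻¹ := hue ⟨y, hy⟩
    calc y * (u⁻¹ * g) = u⁻¹ * (u * y * u⁻¹) * g := by group
      _ = u⁻¹ * (g * y * g⁻¹) * g := by rw [h2]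
      _ = u⁻¹ * g * y := by group
  simpa using P.mul_mem hu (hc.2 P (isConj_refl hc.1) hcen)

/-- An element of `N_S(P)`, `P` centric radical, stabilizing an invariant series of `P` lies in `P`. -/
theorem mem_of_series [Finite S] [Fact p.Prime] (hS : IsPGroup p S) {P : Subgroup Ω}
    (hc : F.IsCentric P) (hr : F.IsRadical p P) (n : ℕ) (W : ℕ → Subgroup Ω) (h0 : W 0 = ⊥)
    (hn : P ≤ W n)
    (hinv : ∀ f, IsIso F P P f → ∀ i ≤ n, ∀ x ∈ P, x ∈ W i → f x ∈ W i)
    {g : Ω} (hg : g ∈ normalizerIn S P)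
    (hs : ∀ i < n, ∀ x ∈ P, x ∈ W (i + 1) → x⁻¹ * (g * x * g⁻¹) ∈ W i) : g ∈ P := by
  haveI := finite_of_le hc.1
  refine mem_of_mem_pCore_radical hc hr hg (stabilizer_mem_pCore
    (hS.of_injective _ (Subgroup.inclusion_injective hc.1)) _ n (fun i => (W i).subgroupOf P)
    (by simp only [h0, Subgroup.bot_subgroupOf]) (fun α hα i hi x hx => ?_) (fun β _ _ h => ?_) _
    fun i hi x hx => ?_)
  · have h1 := hinv _ ((mem_autGroup hc.1).mp hα) i hi x x.2 hx
    rwa [autFun_coe] at h1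
  · exact MulEquiv.ext fun x => h x (Subgroup.mem_subgroupOf.mpr (hn x.2))
  · exact hs i hi x x.2 hx

/-- A strongly closed subgroup with a central series of strongly closed subgroups is normal. -/
theorem isNormal_of_chain [Finite S] [Fact p.Prime] (hS : IsPGroup p S) (hF : F.IsSaturated p)
    (n : ℕ) (C : ℕ → Subgroup Ω) (h0 : C 0 = ⊥) (hsc : ∀ i ≤ n, F.StronglyClosed (C i))
    (hcomm : ∀ i < n, ∀ x ∈ C (i + 1), ∀ g ∈ C n, x⁻¹ * (g * x * g⁻¹) ∈ C i) : F.IsNormal (C n) := by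
  obtain ⟨hTS, hTc⟩ := stronglyClosed_iff.mp (hsc n le_rfl)
  refine isNormal_of_le_centricRadical hS hF (hsc n le_rfl) fun P hne hfn hc hr => ?_
  -- `N_T(P) ≤ P`
  have hN : ∀ g ∈ C n, g ∈ Subgroup.normalizer (P : Set Ω) → g ∈ P := by
    intro g hg hgN
    let W : ℕ → Subgroup Ω := fun i => if i ≤ n then C i else P
    refine mem_of_series hS hc hr (n + 1) W (by simp [W, h0]) (by simp [W]) ?_ ⟨hTS hg, hgN⟩ ?_
    · intro f hf i _ x hxP hx
      by_cases hin : i ≤ n
      · simp only [W, hin, if_true] at hx ⊢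
        exact (stronglyClosed_iff.mp (hsc i hin)).2 P f hf.1 x hxP hx
      · simp only [W, hin, if_false] at hx ⊢
        exact hf.mem hxP
    · intro i hi x hxP hx
      by_cases hin : i + 1 ≤ n
      · simp only [W, hin, if_true] at hx
        simp only [W, (Nat.le_of_succ_le hin), if_true]
        exact hcomm i hin x hx g hg
      · obtain rfl : i = n := by omega
        simp only [W, le_rfl, if_true]
        -- `T` is normal in `S`
        have hx' : x⁻¹ * g * x⁻¹⁻¹ ∈ C i :=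
          hTc (C i) _ (isMap_conj hTS (S.inv_mem (hc.1 hxP))) g hg hg
        have h2 : x⁻¹ * (g * x * g⁻¹) = (x⁻¹ * g * x⁻¹⁻¹) * g⁻¹ := by group
        rw [h2]; exact mul_mem hx' (inv_mem hg)
  intro t ht
  by_contra htP
  set M : Subgroup Ω := P ⊔ C n
  have hMS : M ≤ S := sup_le hc.1 hTS
  haveI := finite_of_le hMS
  haveI := Fintype.ofFinite M
  have hPM : P ≠ M := fun h => htP (h.symm ▸ Subgroup.mem_sup_right ht)
  haveI := (hS.of_injective _ (Subgroup.inclusion_injective hMS)).isNilpotent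
  obtain ⟨r, hrN, hrP⟩ := SetLike.exists_of_lt (Group.normalizerCondition_of_isNilpotent
    (P.subgroupOf M) (lt_top_iff_ne_top.mpr fun h =>
      hPM (le_antisymm le_sup_left (Subgroup.subgroupOf_eq_top.mp h))))
  have hnorm : P ≤ Subgroup.normalizer (C n : Set Ω) := by
    intro g hg
    refine Subgroup.mem_normalizer_iff.mpr fun y => ⟨fun hy => ?_, fun hy => ?_⟩
    · exact hTc (C n) _ (isMap_conj hTS (hc.1 hg)) y hy hy
    · have h1 := hTc (C n) _ (isMap_conj hTS (S.inv_mem (hc.1 hg))) _ hy hy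
      simpa [mul_assoc] using h1
  obtain ⟨a, ha, b, hb, hab⟩ : ∃ a ∈ P, ∃ b ∈ C n, a * b = (r : Ω) := by
    have h1 : (r : Ω) ∈ ((P ⊔ C n : Subgroup Ω) : Set Ω) := r.2
    rw [Subgroup.coe_mul_of_left_le_normalizer_right P (C n) hnorm] at h1
    exact h1
  have hrn : (r : Ω) ∈ Subgroup.normalizer (P : Set Ω) := by
    refine Subgroup.mem_normalizer_iff.mpr fun y => ⟨fun hy => ?_, fun hy => ?_⟩
    · exact (Subgroup.mem_normalizer_iff.mp hrN ⟨y, (le_sup_left : P ≤ M) hy⟩).mp hy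
    · have hyM : y ∈ M := by
        have := M.mul_mem (M.mul_mem (M.inv_mem r.2) ((le_sup_left : P ≤ M) hy)) r.2
        simpa [mul_assoc] using this
      exact (Subgroup.mem_normalizer_iff.mp hrN ⟨y, hyM⟩).mpr hy
  have hbN : b ∈ Subgroup.normalizer (P : Set Ω) := by
    have h2 : b = a⁻¹ * (r : Ω) := by rw [← hab]; group
    rw [h2]
    exact mul_mem (inv_mem (P.le_normalizer ha)) hrn
  exact hrP (Subgroup.mem_subgroupOf.mpr (hab ▸ mul_mem ha (hN b hb hbN)))

/-- If every centric radical subgroup has a `p`-closed automizer then `S` is normal. -/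
theorem isNormal_self_of_sylow_le_core [Finite S] [Fact p.Prime] (hS : IsPGroup p S) (hF : F.IsSaturated p)
    (h : ∀ P : Subgroup Ω, P ≠ S → F.IsFullyNormalized P → (hc : F.IsCentric P) → F.IsRadical p P →
      ∀ g (hg : g ∈ normalizerIn S P),
        (⟨conjAutHom S P ⟨g, hg⟩, autInducedBy_le_autGroup hc.1 (range_conjAutHom S P ▸ ⟨_, rfl⟩)⟩ :
          F.autGroup P) ∈ pCore p (F.autGroup P)) :
    F.IsNormal S := by
  refine isNormal_of_le_centricRadical hS hF (stronglyClosed_iff.mpr ⟨le_rfl,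
    fun R f hf x hx _ => hf.apply_mem hx⟩) fun P hne hfn hc hr => ?_
  refine (lt_irrefl (Nat.card P) ?_).elim
  haveI := finite_of_le hc.1
  have hle : normalizerIn S P ≤ P := fun g hg => mem_of_mem_pCore_radical hc hr hg (h P hne hfn hc hr g hg)
  exact (card_normalizerIn_lt hS hc.1 hne).trans_le (Subgroup.card_le_of_le hle)

end Cfsg.Agent.Fus93
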