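import Cfsg.Agent.Lib.Fusion.Subsystem
import Cfsg.Agent.Lib.Fusion.Saturation
import Cfsg.Agent.Lib.Thompson.Cores

/-!
A saturated system is generated by the automizers of its fully normalized centric radical
subgroups; the resulting criterion for normality of a strongly closed subgroup.
-/

set_option autoImplicit false

namespace Cfsg.Agent.Fus93

open Cfsg Cfsg.Agent.Fusion
open Cfsg.FusionSystem (normalizerIn centralizerIn)

variable {Ω : Type*} [Group Ω] {S : Subgroup Ω} {F : FusionSystem S} {p : ℕ}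

theorem card_normalizerIn_lt [Finite S] [Fact p.Prime] (hS : IsPGroup p S) {P : Subgroup Ω}
    (hP : P ≤ S) (hne : P ≠ S) : Nat.card P < Nat.card (normalizerIn S P) := by
  haveI := Fintype.ofFinite S
  haveI := hS.isNilpotent
  obtain ⟨r, hrN, hrP⟩ := SetLike.exists_of_lt (Group.normalizerCondition_of_isNilpotent
    (P.subgroupOf S) (lt_top_iff_ne_top.mpr fun h =>
      hne (le_antisymm hP (Subgroup.subgroupOf_eq_top.mp h))))
  have hr : (r : Ω) ∈ normalizerIn S P := by
    refine ⟨r.2, Subgroup.mem_normalizer_iff.mpr fun y => ⟨fun hy => ?_, fun hy => ?_⟩⟩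
    · exact (Subgroup.mem_normalizer_iff.mp hrN ⟨y, hP hy⟩).mp hy
    · have hyS : y ∈ S := by
        have := S.mul_mem (S.mul_mem (S.inv_mem r.2) (hP hy)) r.2
        simpa [mul_assoc] using this
      exact (Subgroup.mem_normalizer_iff.mp hrN ⟨y, hyS⟩).mpr hy
  haveI := finite_of_le (normalizerIn_le S P)
  refine lt_of_le_of_ne (Subgroup.card_le_of_le (le_normalizerIn hP)) fun h => hrP ?_
  rw [← Subgroup.eq_of_le_of_card_ge (le_normalizerIn hP) h.ge] at hr
  exact hr

theorem finite_autGroup [Finite S] {P : Subgroup Ω} (hP : P ≤ S) : Finite (F.autGroup P) :=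
  haveI := finite_of_le hP
  haveI := finite_mulAut P
  inferInstance

/-- If all automorphisms of `P` extend over `M` and the maps out of larger subgroups lie in `E`
then so do the automorphisms of `P`. -/
theorem aut_mem_of_extendable [Finite S] {E : FusionSystem S} {P M : Subgroup Ω}
    (hP : F.IsReceptive P) (hbig : ∀ R : Subgroup Ω, Nat.card P < Nat.card R → F.Hom R ⊆ E.Hom R)
    {α : MulAut P} (hα : α ∈ F.autGroup P) (hM : IsExtendable S P (autFun α) M) (hne : ¬ M ≤ P) :
    α ∈ E.autGroup P := by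
  obtain ⟨f, hf, he⟩ := receptive_extend hP ((mem_autGroup hP.1).mp hα) hM
  have hlt : Nat.card P < Nat.card ↥(P ⊔ M) := by
    haveI := finite_of_le hf.dom_le
    refine lt_of_le_of_ne (Subgroup.card_le_of_le le_sup_left) fun h => hne ?_
    exact le_sup_right.trans (Subgroup.eq_of_le_of_card_ge le_sup_left h.ge).ge
  exact autGroup_mem_of_isMap (((hf.of_subset (hbig _ hlt)).mono le_sup_left).congr he)

/-- Generation by automizers of fully normalized centric radical subgroups. -/
theorem le_of_aut [Finite S] [Fact p.Prime] (hS : IsPGroup p S) (hF : F.IsSaturated p)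
    (E : FusionSystem S) (hAS : F.autGroup S ≤ E.autGroup S)
    (h : ∀ P : Subgroup Ω, P ≠ S → F.IsFullyNormalized P → F.IsCentric P → F.IsRadical p P →
      (∀ R : Subgroup Ω, Nat.card P < Nat.card R → F.Hom R ⊆ E.Hom R) → F.autGroup P ≤ E.autGroup P) :
    F ≤ E := by
  suffices key : ∀ (n : ℕ) (P : Subgroup Ω), Nat.card S ≤ Nat.card P + n → F.Hom P ⊆ E.Hom P from
    fun P => key (Nat.card S) P (Nat.le_add_left _ _)
  intro n
  induction n using Nat.strong_induction_on with
  | _ n ih =>
    intro P hn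
    by_cases hPS : P ≤ S
    swap
    · exact fun φ hφ => absurd (F.le_of_mem hφ).1 hPS
    have hbig : ∀ R : Subgroup Ω, Nat.card P < Nat.card R → F.Hom R ⊆ E.Hom R := by
      intro R hR
      by_cases hR' : R ≤ S
      · have := Subgroup.card_le_of_le hR'
        exact ih (n - 1) (by omega) R (by omega)
      · exact fun φ hφ => absurd (F.le_of_mem hφ).1 hR'
    refine hom_subset_of_isMap fun f hf => ?_
    obtain ⟨P', hP'⟩ := hf.exists_image
    by_cases hPe : P = S
    · subst hPe
      have hPP : P' = P := Subgroup.eq_of_le_of_card_ge hP'.cod_le hP'.card_eq.le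
      subst hPP
      obtain ⟨α, hα, he⟩ := hP'.exists_aut
      exact ((mem_autGroup le_rfl).mp (hAS hα)).1.congr he
    obtain ⟨Q, hPQ, hQ⟩ := exists_fullyNormalized (F := F) hPS
    have hcard : Nat.card Q = Nat.card P := (isConj_card hPQ).symm
    have hQne : Q ≠ S := fun h => hPe (Subgroup.eq_of_le_of_card_ge hPS (by rw [← hcard, h]))
    have hrec := receptive_of_fullyNormalized hS hF hQ
    have hρ : ∀ R, F.IsConj R Q → ∃ g, IsIso F R Q g ∧ IsIso E R Q g := by
      intro R hR
      obtain ⟨g, hg, hgi, -⟩ := exists_normalizer_map hS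
        (fullyAutomized_of_fullyNormalized hS hF hQ) hrec hR
      have hRne : R ≠ S := fun h => hQne (Subgroup.eq_of_le_of_card_ge hQ.1
        (by rw [← isConj_card hR, h]))
      have hlt := card_normalizerIn_lt hS (isConj_le_left hR) hRne
      exact ⟨g, hgi, (hg.of_subset (hbig _ (by have := isConj_card hR; omega))).mono
        (le_normalizerIn (isConj_le_left hR)), hgi.2⟩
    have hA : F.autGroup Q ≤ E.autGroup Q := by
      haveI := finite_of_le hQ.1
      haveI := finite_autGroup (F := F) hQ.1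
      have hbigQ : ∀ R : Subgroup Ω, Nat.card Q < Nat.card R → F.Hom R ⊆ E.Hom R := fun R hR =>
        hbig R (hcard ▸ hR)
      by_cases hC : centralizerIn S Q ≤ Q
      swap
      · exact fun α hα => aut_mem_of_extendable hrec hbigQ hα (isExtendable_centralizerIn _) hC
      have hcent : F.IsCentric Q := by
        refine ⟨hQ.1, fun R hR => ?_⟩
        obtain ⟨g, hg⟩ := isConj_iff.mp hR
        have hfc := (fullyCentralized_of_fullyNormalized hS hF hQ).2 R hR
        -- `g` maps `C_S(Q) = Z(Q)` into `C_S(R) ∩ R`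
        haveI : Finite ↥(centralizerIn S R) := finite_of_le inf_le_left
        have hle : Nat.card (centralizerIn S Q) ≤ Nat.card ↥(centralizerIn S R ⊓ R) := by
          refine card_le_of_injOn (inf_le_left.trans inf_le_left) (hg.1.injOn.mono fun x hx => hC hx)
            fun x hx => ⟨⟨hg.1.apply_mem (hC hx), Subgroup.mem_centralizer_iff.mpr fun y hy => ?_⟩,
              hg.mem (hC hx)⟩
          obtain ⟨w, hw, rfl⟩ := hg.exists_preimage hy
          rw [← hg.1.map_mul hw (hC hx), ← hg.1.map_mul (hC hx) hw,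
            Subgroup.mem_centralizer_iff.mp hx.2 w hw]
        have heq := Subgroup.eq_of_le_of_card_ge
          (inf_le_left : centralizerIn S R ⊓ R ≤ centralizerIn S R) (hfc.trans hle)
        exact heq ▸ inf_le_right
      by_cases hr : F.IsRadical p Q
      · exact h Q hQne hQ hcent hr hbigQ
      intro α hα
      set A := F.autGroup Q
      obtain ⟨-, R₀, hR₀⟩ := fullyAutomized_of_fullyNormalized hS hF hQ
      let K : Subgroup Ω := (((pCore p A).map A.subtype).comap (conjAutHom S Q)).map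
        (normalizerIn S Q).subtype
      have hKle : (pCore p A).map A.subtype ≤ autInducedBy S Q := by
        rintro _ ⟨a, ha, rfl⟩
        have h1 : a ∈ (R₀ : Subgroup A) := Thompson.pCore_le_sylow R₀ ha
        rw [hR₀] at h1
        exact h1
      refine aut_mem_of_extendable (M := K) hrec hbigQ hα ⟨?_, ?_⟩ ?_
      · rintro _ ⟨s, -, rfl⟩; exact s.2.1
      · rintro _ ⟨s, hs, rfl⟩
        refine ⟨s.2.2, ?_⟩
        obtain ⟨a, ha, hae⟩ := hs
        let α' : A := ⟨α, hα⟩
        have h1 : (α' * a * α'⁻¹ : A) ∈ pCore p A := (Subgroup.Normal.conj_mem inferInstance a ha α')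
        obtain ⟨t, ht, hte⟩ := mem_autInducedBy.mp (hKle ⟨_, h1, rfl⟩)
        refine ⟨t, ht, fun x hx => ?_⟩
        have hxc : (s : Ω) * x * (s : Ω)⁻¹ ∈ Q := conj_mem_of_mem_normalizer s.2.2 hx
        show autFun α ((s : Ω) * x * (s : Ω)⁻¹) = _
        rw [autFun_of_mem α hxc, autFun_of_mem α hx]
        have h2 := hte (α ⟨x, hx⟩)
        rw [← h2]
        have h3 : (α' * a * α'⁻¹ : A).1 (α ⟨x, hx⟩) = α ((a : MulAut Q) ⟨x, hx⟩) := by
          simp [α', MulAut.mul_apply]
        show _ = (((α' * a * α'⁻¹ : A).1 (α ⟨x, hx⟩) : Q) : Ω)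
        rw [h3, show (a : MulAut Q) = conjAutHom S Q s from hae]
        rfl
      · intro hKQ
        refine hr ⟨hQ.1, le_antisymm ?_ ?_⟩
        · rintro _ ⟨a, ha, rfl⟩
          obtain ⟨t, ht, hte⟩ := mem_autInducedBy.mp (hKle ⟨a, ha, rfl⟩)
          have htN : t ∈ normalizerIn S Q := ⟨ht, mem_normalizer_of_induces hte⟩
          refine mem_inn.mpr ⟨t, hKQ ⟨⟨t, htN⟩, ⟨a, ha, ?_⟩, rfl⟩, hte⟩
          exact MulEquiv.ext fun x => Subtype.ext (hte x)
        · intro β hβ
          have hle : (Cfsg.Inn Q).subgroupOf A ≤ pCore p A := by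
            refine Thompson.le_pCore inn_subgroupOf_normal ?_
            refine IsPGroup.comap_of_injective ?_ _ (Subgroup.subtype_injective _)
            exact (hS.of_injective _ (Subgroup.inclusion_injective hQ.1)).of_surjective _
              (MulAut.conj : Q →* MulAut Q).rangeRestrict_surjective
          exact ⟨⟨β, inn_le_autGroup hQ.1 hβ⟩, hle hβ, rfl⟩
    obtain ⟨g, hg, hgE⟩ := hρ P hPQ
    obtain ⟨g', hg', hgE'⟩ := hρ P' (isConj_trans (isConj_symm hP'.isConj) hPQ)
    obtain ⟨gi, hgi, hgl, -⟩ := hg.exists_inv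
    obtain ⟨θ, hθ, hθe⟩ := ((hgi.comp hP').comp hg').exists_aut
    obtain ⟨gi', hgi', hgl', -⟩ := hgE'.exists_inv
    refine ((hgE.comp ((mem_autGroup hQ.1).mp (hA hθ))).comp hgi').1.congr fun x hx => ?_
    show gi' (autFun θ (g x)) = f x
    rw [hθe (hg.mem hx)]
    show gi' (g' (f (gi (g x)))) = f x
    rw [hgl x hx, hgl' _ (hP'.mem hx)]

/-- A strongly closed subgroup contained in all fully normalized centric radical subgroups is
normal. -/
theorem isNormal_of_le_centricRadical [Finite S] [Fact p.Prime] (hS : IsPGroup p S)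
    (hF : F.IsSaturated p) {T : Subgroup Ω} (hT : F.StronglyClosed T)
    (h : ∀ P : Subgroup Ω, P ≠ S → F.IsFullyNormalized P → F.IsCentric P → F.IsRadical p P → T ≤ P) :
    F.IsNormal T := by
  obtain ⟨hTS, hTc⟩ := stronglyClosed_iff.mp hT
  have hstab : ∀ P f, IsMap F P f → T ≤ P → ExtendsStab F T P f := by
    intro P f hf hTP
    refine ⟨f, by rwa [sup_eq_left.mpr hTP], fun _ _ => rfl, ?_⟩
    refine Set.Subset.antisymm ?_ fun y hy => ?_
    · rintro _ ⟨x, hx, rfl⟩; exact hTc P f hf x (hTP hx) hx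
    · exact surjOn_of_card_le hTS (hf.injOn.mono hTP) (fun x hx => hTc P f hf x (hTP hx) hx) le_rfl y hy
  have hnorm : ∀ g ∈ S, g ∈ Subgroup.normalizer (T : Set Ω) := by
    intro g hg
    refine Subgroup.mem_normalizer_iff.mpr fun y => ⟨fun hy => ?_, fun hy => ?_⟩
    · exact hTc T _ (isMap_conj hTS hg) y hy hy
    · have h1 := hTc T _ (isMap_conj hTS (S.inv_mem hg)) _ hy hy
      simpa [mul_assoc] using h1
  let E : FusionSystem S := mkSub F S (fun P f => IsMap F P f ∧ ExtendsStab F T P f)
    (fun hf hfg => ⟨hf.1.congr hfg, hf.2.congr hfg⟩)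
    (fun hf => ⟨hf.1, hf.1.dom_le, fun x hx => hf.1.apply_mem hx⟩)
    (fun {P g} hP hg => ⟨isMap_conj hP hg, _, isMap_conj (sup_le hP hTS) hg, fun _ _ => rfl,
      image_conj_eq_self (hnorm g hg)⟩)
    (fun hf hg hm => ⟨hf.1.comp hg.1 hm, hf.2.comp hg.2 hm⟩)
    (fun hf hi hg hgl => ⟨hg.1, hf.2.inv hi hgl⟩)
  have haut : ∀ P, T ≤ P → P ≤ S → F.autGroup P ≤ E.autGroup P := fun P hTP hPS α hα => by
    have hm := ((mem_autGroup hPS).mp hα).1
    exact autGroup_mem_of_isMap (isMap_mkSub.mpr ⟨hm, hstab P _ hm hTP⟩)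
  have hle : F ≤ E := le_of_aut hS hF E (haut S hTS le_rfl) fun P hne h1 h2 h3 _ =>
    haut P (h P hne h1 h2 h3) h1.1
  exact isNormal_iff.mpr ⟨hTS, fun P f hf => (isMap_mkSub.mp (hf.of_le hle)).2⟩

end Cfsg.Agent.Fus93
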