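import Cfsg.Agent.Fus93.Iso
import Cfsg.Agent.Lib.Fusion.Group
import Cfsg.Agent.Fusion91.QuotientFusion

/-!
The fusion system of a normal subgroup is a normal subsystem.
-/

set_option autoImplicit false

namespace Cfsg.Agent.Fus93

open Cfsg Cfsg.Agent.Fusion
open Cfsg.FusionSystem (normalizerIn centralizerIn)
open scoped Pointwise

variable {G : Type*} [Group G]

theorem isMap_sub_iff {H T : Subgroup G} {hTH : T ≤ H} {P : Subgroup G} {f : G → G} :
    IsMap (fusionSystemOfSubgroup H T hTH) P f ↔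
      P ≤ T ∧ (∀ x ∈ P, f x ∈ T) ∧ ∃ g ∈ H, ∀ x ∈ P, f x = g * x * g⁻¹ := by
  constructor
  · rintro ⟨φ, ⟨hP, hS, g, hgH, hg⟩, hf⟩
    exact ⟨hP, fun x hx => hf ⟨x, hx⟩ ▸ hS ⟨x, hx⟩, g, hgH,
      fun x hx => (hf ⟨x, hx⟩).symm.trans (hg ⟨x, hx⟩)⟩
  · rintro ⟨hP, hS, g, hgH, hg⟩
    refine ⟨(MulAut.conj g).toMonoidHom.comp P.subtype, ⟨hP, fun x => ?_, g, hgH, fun x => rfl⟩,
      fun x => (hg x x.2).symm⟩
    have := hS x x.2
    rw [hg x x.2] at this
    exact this

open Classical in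
/-- The retraction onto a subgroup, `1` outside. -/
noncomputable def intoSub (H : Subgroup G) (x : G) : H := if h : x ∈ H then ⟨x, h⟩ else 1

theorem intoSub_of_mem {H : Subgroup G} {x : G} (h : x ∈ H) : intoSub H x = ⟨x, h⟩ := dif_pos h

/-- The fusion system of a subgroup inside the ambient group and inside itself agree. -/
theorem fiso_sub (H T : Subgroup G) (hTH : T ≤ H) :
    FIso (fusionSystemOfSubgroup H T hTH) (groupFusionSystem (T.subgroupOf H)) (intoSub H) Subtype.val where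
  map_mul x hx y hy := by
    rw [intoSub_of_mem (hTH hx), intoSub_of_mem (hTH hy), intoSub_of_mem (hTH (T.mul_mem hx hy))]; rfl
  mem x hx := by rw [intoSub_of_mem (hTH hx)]; exact hx
  mem' y hy := hy
  left x hx := by rw [intoSub_of_mem (hTH hx)]
  right y _ := intoSub_of_mem y.2
  push P f hf P' hP' := by
    obtain ⟨hPT, hv, g, hgH, hg⟩ := isMap_sub_iff.mp hf
    have hmem : ∀ y ∈ P', (y : G) ∈ P := fun y hy => by
      have : y ∈ intoSub H '' (P : Set G) := hP' ▸ hy
      obtain ⟨x, hx, rfl⟩ := this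
      rwa [intoSub_of_mem (hTH (hPT hx))]
    refine isMap_group_iff.mpr ⟨fun y hy => hPT (hmem y hy), fun y hy => ?_, ⟨g, hgH⟩, fun y hy => ?_⟩
    · show ((intoSub H (f y) : H) : G) ∈ T
      rw [intoSub_of_mem (hTH (hv _ (hmem y hy)))]
      exact hv _ (hmem y hy)
    · show intoSub H (f y) = _
      rw [intoSub_of_mem (hTH (hv _ (hmem y hy)))]
      exact Subtype.ext (hg _ (hmem y hy))
  pull P' f hf P hP := by
    obtain ⟨hP'T, hv, g, hg⟩ := isMap_group_iff.mp hf
    have hmem : ∀ x ∈ P, ∃ y ∈ P', (y : G) = x := fun x hx => by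
      have : x ∈ Subtype.val '' (P' : Set H) := hP ▸ hx
      exact this
    refine isMap_sub_iff.mpr ⟨fun x hx => ?_, fun x hx => ?_, g, g.2, fun x hx => ?_⟩
    all_goals obtain ⟨y, hy, rfl⟩ := hmem x hx
    · exact hP'T hy
    · show (f (intoSub H y) : G) ∈ T
      rw [intoSub_of_mem y.2]
      exact hv y hy
    · show (f (intoSub H y) : G) = _
      rw [intoSub_of_mem y.2]
      exact congrArg Subtype.val (hg y hy)

variable [Finite G] {p : ℕ} [Fact p.Prime] (S : Sylow p G) (H : Subgroup G) [H.Normal]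

theorem exists_sylow_inf :
    ∃ T : Sylow p H, (T : Subgroup H) = ((S : Subgroup G) ⊓ H).subgroupOf H := by
  have hp : IsPGroup p (((S : Subgroup G) ⊓ H).subgroupOf H) :=
    (S.isPGroup'.to_le inf_le_left).comap_subtype
  obtain ⟨T, hT⟩ := hp.exists_le_sylow
  obtain ⟨g, hg⟩ := exists_conj_le_sylow S (Y := (T : Subgroup H).map H.subtype) (T.isPGroup'.map _)
  have hle : conjSub g ((T : Subgroup H).map H.subtype) ≤ (S : Subgroup G) ⊓ H := by
    refine le_inf hg ?_
    rintro _ ⟨x, ⟨y, -, rfl⟩, rfl⟩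
    exact Subgroup.Normal.conj_mem ‹H.Normal› _ y.2 g
  have h1 := Subgroup.card_le_of_le hle
  rw [card_conjSub, Subgroup.card_map_of_injective H.subtype_injective] at h1
  refine ⟨T, (Subgroup.eq_of_le_of_card_ge hT ?_).symm⟩
  rwa [Nat.card_congr (Subgroup.subgroupOfEquivOfLe (inf_le_right : (S : Subgroup G) ⊓ H ≤ H)).toEquiv]

theorem inf_stronglyClosed :
    (groupFusionSystem (S : Subgroup G)).StronglyClosed ((S : Subgroup G) ⊓ H) := by
  refine stronglyClosed_iff.mpr ⟨inf_le_left, fun R f hf x hxR hx => ⟨hf.apply_mem hxR, ?_⟩⟩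
  obtain ⟨-, -, g, hg⟩ := isMap_group_iff.mp hf
  rw [hg x hxR]
  exact Subgroup.Normal.conj_mem ‹H.Normal› _ hx.2 g

/-- The fusion system of a normal subgroup is a normal subsystem. -/
theorem normalSubgroup_isNormalIn :
    (fusionSystemOfSubgroup H ((S : Subgroup G) ⊓ H) inf_le_right).IsNormalIn
      (groupFusionSystem (S : Subgroup G)) p := by
  set T := (S : Subgroup G) ⊓ H with hTdef
  have hTS : T ≤ S := inf_le_left
  obtain ⟨T', hT'⟩ := exists_sylow_inf S H
  have hsat : (fusionSystemOfSubgroup H T inf_le_right).IsSaturated p := by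
    have h1 := groupFusionSystem_isSaturated T'
    rw [hT'] at h1
    exact (fiso_sub H T inf_le_right).symm.isSaturated h1
  have hnorm : ∀ g ∈ (S : Subgroup G), g ∈ Subgroup.normalizer (T : Set G) := fun g hg =>
    Subgroup.mem_normalizer_iff.mpr fun x => ⟨fun hx => Subgroup.mem_inf.mpr ⟨mul_mem (mul_mem hg hx.1) (inv_mem hg),
      Subgroup.Normal.conj_mem ‹H.Normal› _ hx.2 g⟩, fun hx => by
        have h1 : g⁻¹ * (g * x * g⁻¹) * g⁻¹⁻¹ ∈ T := Subgroup.mem_inf.mpr ⟨mul_mem (mul_mem (inv_mem hg) hx.1) (by rwa [inv_inv]),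
          Subgroup.Normal.conj_mem ‹H.Normal› _ hx.2 g⁻¹⟩
        simpa [mul_assoc] using h1⟩
  refine isNormalIn_of ⟨hsat, groupFusionSystem_isSaturated S, isInvariantIn_of
    (fun P => hom_subset_of_isMap fun f hf => ?_) (inf_stronglyClosed S H) ?_ ?_⟩ fun k hk => ?_
  · obtain ⟨hP, hv, g, -, hg⟩ := isMap_sub_iff.mp hf
    exact isMap_group_iff.mpr ⟨hP.trans hTS, fun x hx => hTS (hv x hx), g, hg⟩
  · intro P f hf k hk P' hP'
    obtain ⟨hP, hv, h, hh, hfe⟩ := isMap_sub_iff.mp hf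
    obtain ⟨-, -, g, hg⟩ := isMap_group_iff.mp hk.1
    have hmem : ∀ y ∈ P', ∃ x ∈ P, k x = y := fun y hy => by
      have : y ∈ k '' (P : Set G) := hP' ▸ hy
      exact this
    have key : ∀ x ∈ P, g * h * g⁻¹ * k x * (g * h * g⁻¹)⁻¹ = k (f x) := fun x hx => by
      rw [hg x (hP hx), hg _ (hv x hx), hfe x hx]; group
    refine ⟨fun y => g * h * g⁻¹ * y * (g * h * g⁻¹)⁻¹, isMap_sub_iff.mpr ⟨fun y hy => ?_, fun y hy => ?_,
      g * h * g⁻¹, Subgroup.Normal.conj_mem ‹H.Normal› h hh g, fun _ _ => rfl⟩, key⟩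
    · obtain ⟨x, hx, rfl⟩ := hmem y hy
      exact hk.mem (hP hx)
    · obtain ⟨x, hx, rfl⟩ := hmem y hy
      rw [key x hx]
      exact hk.mem (hv x hx)
  · intro P f hf hP
    obtain ⟨-, hv, g, hg⟩ := isMap_group_iff.mp hf
    have hvT : ∀ x ∈ P, f x ∈ T := fun x hx => ⟨hv x hx, hg x hx ▸ Subgroup.Normal.conj_mem ‹H.Normal› _ (hP hx).2 g⟩
    -- Frattini
    have hfr := Sylow.normalizer_sup_eq_top T'
    rw [hT', Subgroup.subgroupOf_map_subtype, inf_eq_left.mpr (inf_le_right : T ≤ H)] at hfr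
    obtain ⟨n, hn, h, hh, rfl⟩ := Subgroup.mem_sup_of_normal_right.mp
      (hfr ▸ Subgroup.mem_top g : g ∈ Subgroup.normalizer (T : Set G) ⊔ H)
    refine ⟨fun x => n * x * n⁻¹, fun x => h * x * h⁻¹, ⟨isMap_group_iff.mpr ⟨hTS, fun x hx =>
        hTS (conj_mem_of_mem_normalizer hn hx), n, fun _ _ => rfl⟩, image_conj_eq_self hn⟩,
      isMap_sub_iff.mpr ⟨hP, fun x hx => ?_, h, hh, fun _ _ => rfl⟩, fun x hx => ?_⟩
    · have h1 := conj_mem_of_mem_normalizer (inv_mem hn) (hvT x hx)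
      rw [hg x hx] at h1
      simpa [mul_assoc] using h1
    · rw [hg x hx]; group
  · -- the extension condition
    obtain ⟨-, -, h, hh, hke⟩ := isMap_sub_iff.mp hk.1
    have hhN : h ∈ Subgroup.normalizer (T : Set G) := by
      haveI : Finite T := inferInstance
      refine Subgroup.mem_normalizer_iff.mpr fun x => ⟨fun hx => (hke x hx) ▸ hk.mem hx, fun hx => ?_⟩
      obtain ⟨z, hz, hze⟩ := hk.exists_preimage hx
      rw [hke z hz] at hze
      rwa [← mul_left_cancel (mul_right_cancel hze)]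
    set C := centralizerIn (S : Subgroup G) T
    set K := Subgroup.centralizer (T : Set G)
    -- `C` is a Sylow subgroup of `K`
    have hfn : IsSylowIn p (normalizerIn (S : Subgroup G) T) (Subgroup.normalizer (T : Set G)) := by
      refine isSylowIn_of_forall (isPGroup_normalizerIn S T) inf_le_right fun Y hY hYp => ?_
      obtain ⟨g, hg⟩ := exists_conj_le_sylow S hYp
      rw [← card_conjSub g Y]
      exact Subgroup.card_le_of_le (hg.trans (le_inf le_rfl hnorm))
    obtain ⟨Q, hQ⟩ := isSylowIn_centralizer S hfn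
    let Y : Subgroup G := conjSub h C
    have hYK : Y ≤ K := (conjSub_mono (inf_le_right : C ≤ K)).trans (by
      rw [conjSub_centralizer]
      refine Subgroup.centralizer_le fun y hy => ?_
      exact mem_conjSub.mpr (by simpa using conj_mem_of_mem_normalizer (inv_mem hhN) hy))
    have hYle : Y.subgroupOf K ≤ (Q : Subgroup K) ⊔ H.subgroupOf K := by
      intro y hy
      obtain ⟨c, hc, hce⟩ := Subgroup.mem_subgroupOf.mp hy
      have hcK : c ∈ K := hc.2
      have hdiv : (⟨c, hcK⟩ : K)⁻¹ * y ∈ H.subgroupOf K := by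
        refine Subgroup.mem_subgroupOf.mpr ?_
        show c⁻¹ * (y : G) ∈ H
        rw [← hce]
        show c⁻¹ * (h * c * h⁻¹) ∈ H
        have h3 := H.mul_mem (Subgroup.Normal.conj_mem ‹H.Normal› h hh c⁻¹) (H.inv_mem hh)
        simpa [mul_assoc] using h3
      rw [show y = (⟨c, hcK⟩ : K) * ((⟨c, hcK⟩ : K)⁻¹ * y) by group]
      exact Subgroup.mul_mem_sup (hQ ▸ hc) hdiv
    haveI : (H.subgroupOf K).Normal := Subgroup.Normal.subgroupOf ‹H.Normal› K
    obtain ⟨e, he, hconj⟩ := Fusion91.exists_conj_into_sylow_of_le_sup Q (H.subgroupOf K) _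
      (isPGroup_conjSub (isPGroup_centralizerIn S T)).comap_subtype hYle
    set g : G := (e : G) * h
    have hgC : ∀ c ∈ C, g * c * g⁻¹ ∈ C := by
      intro c hc
      have h1 := hconj ⟨h * c * h⁻¹, hYK (conj_mem_conjSub hc)⟩
        (Subgroup.mem_subgroupOf.mpr (conj_mem_conjSub hc))
      rw [hQ] at h1
      have h2 : (e : G) * (h * c * h⁻¹) * (e : G)⁻¹ ∈ C := Subgroup.mem_subgroupOf.mp h1
      convert h2 using 1
      simp only [g]; group
    have hgT : ∀ x ∈ T, g * x * g⁻¹ = k x := by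
      intro x hx
      have hx' : h * x * h⁻¹ ∈ T := conj_mem_of_mem_normalizer hhN hx
      rw [hke x hx]
      calc g * x * g⁻¹ = (e : G) * (h * x * h⁻¹) * (e : G)⁻¹ := by simp only [g]; group
        _ = h * x * h⁻¹ := by
          rw [← Subgroup.mem_centralizer_iff.mp e.2 _ hx']; group
    have hgH : g ∈ H := H.mul_mem he hh
    have hgN : g ∈ Subgroup.normalizer (T : Set G) :=
      mul_mem (Subgroup.centralizer_le_normalizer _ e.2) hhN
    refine ⟨fun x => g * x * g⁻¹, ⟨isMap_group_iff.mpr ⟨sup_le hTS inf_le_left, fun x hx => ?_, g,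
      fun _ _ => rfl⟩, ?_⟩, hgT, fun c hc => ?_⟩
    · have h1 : T ⊔ C ≤ conjSub g⁻¹ (T ⊔ C) := by
        refine sup_le (fun y hy => mem_conjSub.mpr ?_) (fun y hy => mem_conjSub.mpr ?_)
        · rw [inv_inv]; exact Subgroup.mem_sup_left (conj_mem_of_mem_normalizer hgN hy)
        · rw [inv_inv]; exact Subgroup.mem_sup_right (hgC y hy)
      have h2 := mem_conjSub.mp (h1 hx)
      rw [inv_inv] at h2
      exact (sup_le hTS inf_le_left : T ⊔ C ≤ S) h2
    · show (fun x => (MulAut.conj g).toMonoidHom x) '' _ = _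
      rw [← Subgroup.coe_map]
      refine congrArg _ (Subgroup.eq_of_le_of_card_ge (?_ : conjSub g (T ⊔ C) ≤ T ⊔ C) (card_conjSub g _).ge)
      refine (Subgroup.map_sup _ _ _).trans_le (sup_le ?_ ?_)
      · rintro _ ⟨y, hy, rfl⟩; exact Subgroup.mem_sup_left (conj_mem_of_mem_normalizer hgN hy)
      · rintro _ ⟨y, hy, rfl⟩; exact Subgroup.mem_sup_right (hgC y hy)
    · have h1 : c⁻¹ * (g * c * g⁻¹) ∈ C := mul_mem (inv_mem hc) (hgC c hc)
      have h2 : c⁻¹ * (g * c * g⁻¹) ∈ H := by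
        have h3 := H.mul_mem (Subgroup.Normal.conj_mem ‹H.Normal› g hgH c⁻¹) (H.inv_mem hgH)
        simpa [mul_assoc] using h3
      exact Subgroup.mem_inf.mpr ⟨Subgroup.mem_inf.mpr ⟨h1.1, h2⟩, h1.2⟩

end Cfsg.Agent.Fus93
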