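import Cfsg.Agent.Fus93.Generation
import Cfsg.Agent.Lib.Fusion.Subsystem

/-!
The hyperfocal subgroup of a saturated system is strongly closed.
-/

set_option autoImplicit false

namespace Cfsg.Agent.Fus93

open Cfsg Cfsg.Agent.Fusion

variable {Ω : Type*} [Group Ω] {S : Subgroup Ω} {F : FusionSystem S} {p : ℕ}

/-- Maps defined on all of `S` preserve the hyperfocal subgroup. -/
theorem hyperfocal_map [Finite S] {σ : Ω → Ω} (hσ : IsMap F S σ) :
    ∀ x ∈ F.hyperfocalSubgroup p, σ x ∈ F.hyperfocalSubgroup p := by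
  obtain ⟨θ, hθ, hθσ⟩ := id hσ
  have hle : F.hyperfocalSubgroup p ≤ ((F.hyperfocalSubgroup p).comap θ).map S.subtype := by
    refine (Subgroup.closure_le _).mpr ?_
    rintro _ ⟨P, α, x, hPS, hα, rfl⟩
    refine ⟨⟨_, S.mul_mem (S.inv_mem (hPS x.2)) (hPS ((α : MulAut P) x).2)⟩, ?_, rfl⟩
    obtain ⟨P', hP'⟩ := (hσ.mono hPS).exists_image
    refine Subgroup.subset_closure ⟨P', hP'.autEquiv α, hP'.equiv x, hP'.cod_le, ?_, ?_⟩
    · rw [← Thompson.map_pResidual_equiv hP'.autEquiv]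
      exact ⟨α, hα, rfl⟩
    · rw [IsIso.autEquiv_coe, congr_apply_equiv, IsIso.equiv_apply, hθσ]
      show σ ((x : Ω)⁻¹ * ((α : MulAut P) x : P)) = _
      rw [hσ.map_mul (S.inv_mem (hPS x.2)) (hPS ((α : MulAut P) x).2), hσ.map_inv (hPS x.2)]
  intro x hx
  obtain ⟨z, hz, rfl⟩ := hle hx
  exact (hθσ z) ▸ hz

theorem sup_eq_top_of_sylow {A : Type*} [Group A] [Finite A] [Fact p.Prime] (R : Sylow p A) :
    (R : Subgroup A) ⊔ pResidual p A = ⊤ := by
  haveI : (pResidual p A).Normal := Subgroup.normal_of_characteristic _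
  refine Subgroup.index_eq_one.mp ?_
  obtain ⟨n, hn⟩ := IsPGroup.iff_card.mp (Thompson.isPGroup_quotient_pResidual (p := p) (G := A))
  have hd : ((R : Subgroup A) ⊔ pResidual p A).index ∣ p ^ n :=
    hn ▸ Subgroup.index_dvd_of_le le_sup_right
  have hd' : ¬ p ∣ ((R : Subgroup A) ⊔ pResidual p A).index := fun h =>
    R.not_dvd_index (h.trans (Subgroup.index_dvd_of_le le_sup_left))
  obtain ⟨k, -, hk⟩ := (Nat.dvd_prime_pow (Fact.out : p.Prime)).mp hd
  rcases k with _ | k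
  · simpa using hk
  · exact absurd (hk ▸ dvd_pow_self p k.succ_ne_zero) hd'

/-- The hyperfocal subgroup is strongly closed. -/
theorem hyperfocal_stronglyClosed [Finite S] [Fact p.Prime] (hS : IsPGroup p S) (hF : F.IsSaturated p)
    {P : Subgroup Ω} {f : Ω → Ω} (hf : IsMap F P f) :
    ∀ x ∈ P, x ∈ F.hyperfocalSubgroup p ↔ f x ∈ F.hyperfocalSubgroup p := by
  set H := F.hyperfocalSubgroup p
  have hconjS : ∀ g ∈ S, ∀ x ∈ S, x ∈ H ↔ g * x * g⁻¹ ∈ H := by
    intro g hg x hx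
    refine ⟨fun hH => hyperfocal_map (isMap_conj le_rfl hg) x hH, fun hH => ?_⟩
    have h1 := hyperfocal_map (p := p) (isMap_conj (F := F) le_rfl (S.inv_mem hg)) _ hH
    simpa [mul_assoc] using h1
  let E : FusionSystem S := mkSub F S (fun P f => IsMap F P f ∧ ∀ x ∈ P, x ∈ H ↔ f x ∈ H)
    (fun hf hfg => ⟨hf.1.congr hfg, fun x hx => hfg hx ▸ hf.2 x hx⟩)
    (fun hf => ⟨hf.1, hf.1.dom_le, fun x hx => hf.1.apply_mem hx⟩)
    (fun {P g} hP hg => ⟨isMap_conj hP hg, fun x hx => hconjS g hg x (hP hx)⟩)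
    (fun hf hg hm => ⟨hf.1.comp hg.1 hm, fun x hx => (hf.2 x hx).trans (hg.2 _ (hm x hx))⟩)
    (fun hf hi hg hgl => ⟨hg.1, fun y hy => by
      obtain ⟨x, hx, rfl⟩ := hi.exists_preimage hy
      rw [hgl x hx]
      exact (hf.2 x hx).symm⟩)
  have haut : ∀ Q, F.IsFullyNormalized Q → F.autGroup Q ≤ E.autGroup Q := by
    intro Q hQ α hα
    have hQS := hQ.1
    haveI := finite_of_le hQS
    haveI := finite_autGroup (F := F) hQS
    obtain ⟨-, R, hR⟩ := fullyAutomized_of_fullyNormalized hS hF hQ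
    let K : Subgroup (F.autGroup Q) :=
      { carrier := {a | ∀ x : Q, (x : Ω) ∈ H ↔ (((a : MulAut Q) x : Q) : Ω) ∈ H}
        one_mem' := fun x => Iff.rfl
        mul_mem' := fun {a b} ha hb x => (hb x).trans (ha _)
        inv_mem' := fun {a} ha x => by
          show _ ↔ (((a : MulAut Q).symm x : Q) : Ω) ∈ H
          rw [ha ((a : MulAut Q).symm x), MulEquiv.apply_symm_apply] }
    have hres : pResidual p (F.autGroup Q) ≤ K := fun a ha x => by
      have h1 : (x : Ω)⁻¹ * (((a : MulAut Q) x : Q) : Ω) ∈ H :=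
        Subgroup.subset_closure ⟨Q, a, x, hQS, ha, rfl⟩
      refine ⟨fun hx => by simpa using H.mul_mem hx h1, fun hx => ?_⟩
      simpa using H.mul_mem hx (H.inv_mem h1)
    have hRK : (R : Subgroup (F.autGroup Q)) ≤ K := by
      rw [hR]
      intro a ha x
      obtain ⟨g, hg, hge⟩ := mem_autInducedBy.mp ha
      have h2 := hconjS g hg x (hQS x.2)
      rwa [← hge x] at h2
    have hK : (⟨α, hα⟩ : F.autGroup Q) ∈ K := sup_le hRK hres ((sup_eq_top_of_sylow R).ge trivial)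
    refine autGroup_mem_of_isMap (isMap_mkSub.mpr ⟨((mem_autGroup hQS).mp hα).1, fun x hx => ?_⟩)
    rw [autFun_of_mem α hx]
    exact hK ⟨x, hx⟩
  have hle : F ≤ E := le_of_aut hS hF E (haut S fullyNormalized_self) fun Q _ h1 _ _ _ => haut Q h1
  exact (isMap_mkSub.mp (hf.of_le hle)).2

end Cfsg.Agent.Fus93
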