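import Mathlib.GroupTheory.GroupAction.Quotient
import Mathlib.GroupTheory.GroupAction.SubMulAction
import Mathlib.Data.Fintype.Card
import Mathlib.SetTheory.Cardinal.NatCard
import Mathlib.Tactic
import Mathlib.GroupTheory.Index
import Mathlib.Algebra.BigOperators.Group.Finset.Basic
import Mathlib.Algebra.Order.BigOperators.Group.Finset

/-!
Burnside's theorem on marks: two finite sets acted on by a group with the same numbers of fixed
points for every subgroup are equivariantly isomorphic. Also a finite set with prescribed marks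
on a family of subgroups.
-/

set_option autoImplicit false

namespace Cfsg.Agent.Fus93

universe u v w

/-- The number of points fixed by every element of `L`. -/
noncomputable def mark {M : Type u} [Group M] (X : Type v) [MulAction M X] (L : Subgroup M) : ℕ :=
  Nat.card {z : X // ∀ l ∈ L, l • z = z}

theorem mark_pos_iff {M : Type u} [Group M] {X : Type v} [MulAction M X] [Finite X] (L : Subgroup M) :
    0 < mark X L ↔ ∃ z : X, L ≤ MulAction.stabilizer M z := by
  rw [mark, Nat.card_pos_iff]
  constructor
  · rintro ⟨⟨z⟩, -⟩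
    exact ⟨z.1, z.2⟩
  · rintro ⟨z, hz⟩
    exact ⟨⟨⟨z, hz⟩⟩, inferInstance⟩

theorem mark_congr {M : Type u} [Group M] {X : Type v} {Y : Type w} [MulAction M X] [MulAction M Y]
    (e : X ≃ Y) (he : ∀ (m : M) (x : X), e (m • x) = m • e x) (L : Subgroup M) :
    mark X L = mark Y L :=
  Nat.card_congr <| e.subtypeEquiv fun x => forall₂_congr fun l _ =>
    ⟨fun h => by rw [← he, h], fun h => e.injective (by rw [he, h])⟩

theorem smul_mem_orbit_iff' {M : Type u} [Group M] {X : Type v} [MulAction M X] (m : M) (x z : X) :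
    m • z ∈ MulAction.orbit M x ↔ z ∈ MulAction.orbit M x := by
  constructor
  · rintro ⟨g, hg⟩
    exact ⟨m⁻¹ * g, show (m⁻¹ * g) • x = z by rw [mul_smul, show g • x = m • z from hg, inv_smul_smul]⟩
  · rintro ⟨g, rfl⟩
    exact ⟨m * g, mul_smul m g x⟩

theorem mark_split {M : Type u} [Group M] {Z : Type v} [MulAction M Z] [Finite Z] (L : Subgroup M)
    (z : Z) (C : SubMulAction M Z) (hC : (C : Set Z) = (MulAction.orbit M z)ᶜ) :
    mark Z L = mark (MulAction.orbit M z) L + mark C L := by
  classical
  rw [mark, mark, mark, ← Nat.card_sum]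
  refine Nat.card_congr ((Equiv.sumCompl fun w : {w : Z // ∀ l ∈ L, l • w = w} =>
    w.1 ∈ MulAction.orbit M z).symm.trans (Equiv.sumCongr ?_ ?_))
  · exact
      { toFun := fun w => ⟨⟨w.1.1, w.2⟩, fun l hl => Subtype.ext (w.1.2 l hl)⟩
        invFun := fun w => ⟨⟨w.1.1, fun l hl => congrArg Subtype.val (w.2 l hl)⟩, w.1.2⟩
        left_inv := fun w => rfl
        right_inv := fun w => rfl }
  · exact
      { toFun := fun w => ⟨⟨w.1.1, (Set.ext_iff.mp hC _).mpr w.2⟩,
          fun l hl => Subtype.ext (w.1.2 l hl)⟩
        invFun := fun w => ⟨⟨w.1.1, fun l hl => congrArg Subtype.val (w.2 l hl)⟩,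
          (Set.ext_iff.mp hC _).mp w.1.2⟩
        left_inv := fun w => rfl
        right_inv := fun w => rfl }

theorem exists_equivariant_equiv {M : Type u} [Group M] [Finite M] :
    ∀ (n : ℕ) {X : Type v} {Y : Type w} [MulAction M X] [MulAction M Y] [Finite X] [Finite Y],
      Nat.card X ≤ n → (∀ L : Subgroup M, mark X L = mark Y L) →
        ∃ e : X ≃ Y, ∀ (m : M) (x : X), e (m • x) = m • e x := by
  classical
  intro n
  induction n with
  | zero =>
    intro X Y _ _ _ _ hn h
    have h0 := h ⊥
    have hX : ∀ Z : Type v, ∀ [MulAction M Z], mark Z (⊥ : Subgroup M) = Nat.card Z := fun Z _ =>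
      Nat.card_congr (Equiv.subtypeUnivEquiv fun z l hl => by rw [Subgroup.mem_bot.mp hl, one_smul])
    have hY : mark Y (⊥ : Subgroup M) = Nat.card Y :=
      Nat.card_congr (Equiv.subtypeUnivEquiv fun z l hl => by rw [Subgroup.mem_bot.mp hl, one_smul])
    rw [hX X, hY] at h0
    haveI : IsEmpty X := Finite.card_eq_zero_iff.mp (Nat.le_zero.mp hn)
    haveI : IsEmpty Y := Finite.card_eq_zero_iff.mp (h0 ▸ Nat.le_zero.mp hn)
    exact ⟨Equiv.equivOfIsEmpty X Y, fun m x => isEmptyElim x⟩
  | succ n ih =>
    intro X Y _ _ _ _ hn h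
    cases isEmpty_or_nonempty X with
    | inl hX => exact ih (by simp) h
    | inr hX =>
      obtain ⟨x, hx⟩ := Finite.exists_max fun x : X => Nat.card (MulAction.stabilizer M x)
      obtain ⟨y, hy⟩ := (mark_pos_iff (X := Y) (MulAction.stabilizer M x)).mp
        (h _ ▸ (mark_pos_iff _).mpr ⟨x, le_rfl⟩)
      obtain ⟨x', hx'⟩ := (mark_pos_iff (X := X) (MulAction.stabilizer M y)).mp
        ((h _).symm ▸ (mark_pos_iff _).mpr ⟨y, le_rfl⟩)
      have hst : MulAction.stabilizer M x = MulAction.stabilizer M y :=
        Subgroup.eq_of_le_of_card_ge hy ((Subgroup.card_le_of_le hx').trans (hx x'))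
      -- the complements of the two orbits
      let A : SubMulAction M X :=
        { carrier := (MulAction.orbit M x)ᶜ
          smul_mem' := fun m z hz => by
            rw [Set.mem_compl_iff] at hz ⊢
            exact fun h' => hz ((smul_mem_orbit_iff' m _ z).mp h') }
      let B : SubMulAction M Y :=
        { carrier := (MulAction.orbit M y)ᶜ
          smul_mem' := fun m z hz => by
            rw [Set.mem_compl_iff] at hz ⊢
            exact fun h' => hz ((smul_mem_orbit_iff' m _ z).mp h') }
      let eo : MulAction.orbit M x ≃ MulAction.orbit M y :=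
        (MulAction.orbitEquivQuotientStabilizer M x).trans
          ((Subgroup.quotientEquivOfEq hst).trans (MulAction.orbitEquivQuotientStabilizer M y).symm)
      have heo : ∀ (m : M) (z : MulAction.orbit M x), eo (m • z) = m • eo z := by
        intro m z
        obtain ⟨q, rfl⟩ := (MulAction.orbitEquivQuotientStabilizer M x).symm.surjective z
        induction q using QuotientGroup.induction_on with
        | H g =>
          have h1 : m • (MulAction.orbitEquivQuotientStabilizer M x).symm (g : M ⧸ _) =
              (MulAction.orbitEquivQuotientStabilizer M x).symm ((m * g : M) : M ⧸ _) := by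
            apply Subtype.ext
            simp [MulAction.orbitEquivQuotientStabilizer_symm_apply, mul_smul]
          rw [h1]
          apply Subtype.ext
          simp [eo, Subgroup.quotientEquivOfEq, MulAction.orbitEquivQuotientStabilizer_symm_apply,
            mul_smul]
      have hAB : ∀ L : Subgroup M, mark A L = mark B L := by
        intro L
        have h1 := mark_split L x A rfl
        have h2 := mark_split L y B rfl
        have h3 := mark_congr eo heo L
        have h4 := h L
        omega
      have hcard : Nat.card A ≤ n := by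
        have h1 : Nat.card A < Nat.card X :=
          Finite.card_subtype_lt (p := fun z => z ∈ A) (x := x) fun hxA =>
            hxA (MulAction.mem_orbit_self x)
        omega
      obtain ⟨e', he'⟩ := ih hcard hAB
      refine ⟨(Equiv.Set.sumCompl (MulAction.orbit M x)).symm.trans
        ((Equiv.sumCongr eo e').trans (Equiv.Set.sumCompl (MulAction.orbit M y))), fun m z => ?_⟩
      by_cases hz : z ∈ MulAction.orbit M x
      · have hmz : m • z ∈ MulAction.orbit M x := (smul_mem_orbit_iff' m _ z).mpr hz
        simp only [Equiv.trans_apply, Equiv.Set.sumCompl_symm_apply_of_mem hz,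
          Equiv.Set.sumCompl_symm_apply_of_mem hmz, Equiv.sumCongr_apply, Sum.map_inl,
          Equiv.Set.sumCompl_apply_inl]
        exact congrArg Subtype.val (heo m ⟨z, hz⟩)
      · have hmz : m • z ∉ MulAction.orbit M x := fun h' =>
          hz ((smul_mem_orbit_iff' m _ z).mp h')
        simp only [Equiv.trans_apply, Equiv.Set.sumCompl_symm_apply_of_notMem hz,
          Equiv.Set.sumCompl_symm_apply_of_notMem hmz, Equiv.sumCongr_apply, Sum.map_inr,
          Equiv.Set.sumCompl_apply_inr]
        exact congrArg Subtype.val (he' m ⟨z, hz⟩)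

/-- For a family `𝒢` of subgroups closed under conjugation and under passing to subgroups there is
a finite set whose mark at each member of `𝒢` is a positive number depending only on the order,
and zero elsewhere. -/
theorem exists_uniform_marks {M : Type u} [Group M] [Finite M] (𝒢 : Set (Subgroup M))
    (hconj : ∀ L ∈ 𝒢, ∀ m : M, L.map (MulAut.conj m).toMonoidHom ∈ 𝒢)
    (hsub : ∀ L ∈ 𝒢, ∀ L' : Subgroup M, L' ≤ L → L' ∈ 𝒢) :
    ∃ (X : Type u) (_ : MulAction M X) (_ : Finite X) (f : ℕ → ℕ),
      (∀ z : X, MulAction.stabilizer M z ∈ 𝒢) ∧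
        ∀ L ∈ 𝒢, mark X L = f (Nat.card L) ∧ 0 < mark X L := by
  classical
  suffices hk : ∀ k : ℕ, ∃ (X : Type u) (_ : MulAction M X) (_ : Finite X) (f : ℕ → ℕ),
      (∀ z : X, MulAction.stabilizer M z ∈ 𝒢 ∧ Nat.card M + 1 ≤ Nat.card (MulAction.stabilizer M z) + k) ∧
        ∀ L ∈ 𝒢, Nat.card M + 1 ≤ Nat.card L + k → mark X L = f (Nat.card L) ∧ 0 < mark X L by
    obtain ⟨X, hX, hfin, f, h1, h2⟩ := hk (Nat.card M + 1)
    exact ⟨X, hX, hfin, f, fun z => (h1 z).1, fun L hL => h2 L hL (by omega)⟩
  intro k
  induction k with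
  | zero =>
    refine ⟨PEmpty.{u+1}, { smul := fun _ z => z.elim
                            one_smul := fun z => z.elim
                            mul_smul := fun _ _ z => z.elim }, inferInstance, fun _ => 0, fun z => z.elim, fun L _ hk => ?_⟩
    have := Subgroup.card_le_card_group L
    omega
  | succ k ih =>
    obtain ⟨X, _, _, f, h1, h2⟩ := ih
    by_cases hn : Nat.card M ≤ k
    · exact ⟨X, inferInstance, inferInstance, f,
        fun z => ⟨(h1 z).1, by have := (h1 z).2; omega⟩,
        fun L hL _ => h2 L hL (by have : 0 < Nat.card L := Nat.card_pos; omega)⟩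
    set n := Nat.card M - k with hn_def
    let A := Nat.card M
    let I := {L : Subgroup M // L ∈ 𝒢 ∧ Nat.card L = n}
    obtain ⟨b, hb⟩ : ∃ b : ℕ, ∀ L : I, mark X L.1 ≤ b := by
      cases nonempty_fintype I
      exact ⟨∑ L : I, mark X L.1, fun L => Finset.single_le_sum (f := fun L : I => mark X L.1)
        (fun _ _ => Nat.zero_le _) (Finset.mem_univ L)⟩
    let c : I → ℕ := fun L => (b + 1 - mark X L.1) * n
    let Z := Σ L : I, Fin (c L) × (M ⧸ L.1)
    letI : MulAction M Z :=
      { smul := fun m z => ⟨z.1, z.2.1, m • z.2.2⟩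
        one_smul := fun ⟨L, i, q⟩ => by
          show (⟨L, i, (1 : M) • q⟩ : Z) = _
          rw [one_smul]
        mul_smul := fun m m' ⟨L, i, q⟩ => by
          show (⟨L, i, (m * m') • q⟩ : Z) = ⟨L, i, m • (m' • q)⟩
          rw [mul_smul] }
    letI : MulAction M (Fin A × X) :=
      { smul := fun m w => (w.1, m • w.2)
        one_smul := fun w => Prod.ext rfl (one_smul M w.2)
        mul_smul := fun m m' w => Prod.ext rfl (mul_smul m m' w.2) }
    letI : MulAction M ((Fin A × X) ⊕ Z) :=
      { smul := fun m w => Sum.map (m • ·) (m • ·) w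
        one_smul := fun w => by rcases w with w | w <;> simp [HSMul.hSMul] <;> exact one_smul M w
        mul_smul := fun m m' w => by
          rcases w with w | w <;> simp [HSMul.hSMul] <;> exact mul_smul m m' w }
    have hstabZ : ∀ (L : I) (i : Fin (c L)) (g : M),
        MulAction.stabilizer M (⟨L, i, (g : M ⧸ L.1)⟩ : Z) =
          L.1.map (MulAut.conj g).toMonoidHom := by
      intro L i g
      ext m
      rw [MulAction.mem_stabilizer_iff, Subgroup.mem_map_equiv, MulAut.conj_symm_apply]
      constructor
      · intro h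
        have h' : (m • (g : M ⧸ L.1)) = (g : M ⧸ L.1) :=
          congrArg Prod.snd (eq_of_heq (Sigma.mk.injEq .. ▸ h).2)
        rw [MulAction.Quotient.smul_coe, QuotientGroup.eq] at h'
        have := L.1.inv_mem h'
        simpa [mul_assoc] using this
      · intro h
        show (⟨L, i, m • (g : M ⧸ L.1)⟩ : Z) = _
        rw [MulAction.Quotient.smul_coe]
        congr 2
        rw [QuotientGroup.eq]
        have := L.1.inv_mem h
        simpa [mul_assoc] using this
    have hstab : ∀ w : (Fin A × X) ⊕ Z, MulAction.stabilizer M w ∈ 𝒢 ∧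
        n ≤ Nat.card (MulAction.stabilizer M w) := by
      rintro (⟨i, z⟩ | ⟨L, i, q⟩)
      · have he : MulAction.stabilizer M (Sum.inl (i, z) : (Fin A × X) ⊕ Z) =
            MulAction.stabilizer M z := by
          ext m
          simp only [MulAction.mem_stabilizer_iff]
          exact ⟨fun h => congrArg Prod.snd (Sum.inl_injective h),
            fun h => congrArg Sum.inl (Prod.ext rfl h)⟩
        rw [he]
        exact ⟨(h1 z).1, by have := (h1 z).2; omega⟩
      · obtain ⟨g, rfl⟩ := QuotientGroup.mk_surjective q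
        have he : MulAction.stabilizer M (Sum.inr ⟨L, i, (g : M ⧸ L.1)⟩ : (Fin A × X) ⊕ Z) =
            MulAction.stabilizer M (⟨L, i, (g : M ⧸ L.1)⟩ : Z) := by
          ext m
          simp only [MulAction.mem_stabilizer_iff]
          exact ⟨fun h => Sum.inr_injective h, fun h => congrArg Sum.inr h⟩
        rw [he, hstabZ]
        refine ⟨hconj _ L.2.1 g, le_of_eq ?_⟩
        rw [Subgroup.card_map_of_injective (MulAut.conj g).injective, L.2.2]
    have hmark : ∀ L : Subgroup M, mark ((Fin A × X) ⊕ Z) L = A * mark X L + mark Z L := by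
      intro L
      have e1 : mark (Fin A × X) L = A * mark X L := by
        rw [mark, mark]
        refine (Nat.card_congr (β := Fin A × {z : X // ∀ l ∈ L, l • z = z}) ?_).trans
          (by rw [Nat.card_prod, Nat.card_fin])
        exact
          { toFun := fun w => (w.1.1, ⟨w.1.2, fun l hl => congrArg Prod.snd (w.2 l hl)⟩)
            invFun := fun w => ⟨(w.1, w.2.1), fun l hl => Prod.ext rfl (w.2.2 l hl)⟩
            left_inv := fun w => rfl
            right_inv := fun w => rfl }
      rw [← e1, mark, mark, mark, ← Nat.card_sum]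
      refine Nat.card_congr (Equiv.subtypeSum.trans (Equiv.sumCongr ?_ ?_))
      · exact Equiv.subtypeEquivRight fun w => forall₂_congr fun l _ =>
          ⟨fun h => Sum.inl_injective h, fun h => congrArg Sum.inl h⟩
      · exact Equiv.subtypeEquivRight fun w => forall₂_congr fun l _ =>
          ⟨fun h => Sum.inr_injective h, fun h => congrArg Sum.inr h⟩
    have hbig : ∀ L : Subgroup M, n < Nat.card L → mark Z L = 0 := by
      intro L hL
      rw [mark, Nat.card_eq_zero]
      refine Or.inl ⟨?_⟩
      rintro ⟨⟨L', i, q⟩, hw⟩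
      obtain ⟨g, rfl⟩ := QuotientGroup.mk_surjective q
      have h := Subgroup.card_le_of_le (show L ≤ _ from hw : L ≤ MulAction.stabilizer M (⟨L', i, (g : M ⧸ L'.1)⟩ : Z))
      rw [hstabZ, Subgroup.card_map_of_injective (MulAut.conj g).injective, L'.2.2] at h
      omega
    have hsame : ∀ L : I, mark Z L.1 = (b + 1 - mark X L.1) * A := by
      intro L
      have hmk : ∀ g : M, mark X (L.1.map (MulAut.conj g).toMonoidHom) = mark X L.1 := by
        intro g
        refine Nat.card_congr
          { toFun := fun w => ⟨g⁻¹ • w.1, fun l hl => ?_⟩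
            invFun := fun w => ⟨g • w.1, ?_⟩
            left_inv := fun w => Subtype.ext (smul_inv_smul g w.1)
            right_inv := fun w => Subtype.ext (inv_smul_smul g w.1) }
        · have h := w.2 (g * l * g⁻¹) ⟨l, hl, rfl⟩
          calc l • g⁻¹ • w.1 = g⁻¹ • ((g * l * g⁻¹) • w.1) := by simp [smul_smul, mul_assoc]
            _ = g⁻¹ • w.1 := by rw [h]
        · rintro _ ⟨l, hl, rfl⟩
          show (g * l * g⁻¹) • g • w.1 = g • w.1
          simp [smul_smul, mul_assoc]
          rw [mul_smul, w.2 l hl]
      -- a point of `Z` fixed by `L`, with an element of `L`, is an element of `M` with an index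
      have hfix : ∀ w : {z : Z // ∀ l ∈ L.1, l • z = z},
          L.1 = w.1.1.1.map (MulAut.conj w.1.2.2.out).toMonoidHom := by
        rintro ⟨⟨L', i, q⟩, hw⟩
        have h : L.1 ≤ MulAction.stabilizer M (⟨L', i, q⟩ : Z) := hw
        rw [show q = (q.out : M ⧸ L'.1) from (QuotientGroup.out_eq' q).symm, hstabZ] at h
        refine Subgroup.eq_of_le_of_card_ge h ?_
        rw [Subgroup.card_map_of_injective (MulAut.conj q.out).injective, L'.2.2, L.2.2]
      have hcw : ∀ w : {z : Z // ∀ l ∈ L.1, l • z = z}, c w.1.1 = c L := by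
        intro w
        have h := hmk (w.1.2.2.out)⁻¹
        have h2 : L.1.map (MulAut.conj (w.1.2.2.out)⁻¹).toMonoidHom = w.1.1.1 := by
          have := hfix w
          ext m
          simp [Subgroup.mem_map_equiv, this, mul_assoc]
        rw [h2] at h
        simp only [c, h]
      let Φ : {z : Z // ∀ l ∈ L.1, l • z = z} × L.1 → M × Fin (c L) := fun w =>
        ((w.2 : M) * w.1.1.2.2.out, Fin.cast (hcw w.1) w.1.1.2.1)
      have hinj : Function.Injective Φ := by
        rintro ⟨w, l⟩ ⟨w', l'⟩ h
        have hg : (l : M) * w.1.2.2.out = l' * w'.1.2.2.out := congrArg Prod.fst h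
        have hi : (w.1.2.1 : ℕ) = (w'.1.2.1 : ℕ) :=
          congrArg Fin.val (congrArg Prod.snd h : Fin.cast (hcw w) w.1.2.1 = Fin.cast (hcw w') w'.1.2.1)
        have hf := hfix w
        have hf' := hfix w'
        obtain ⟨⟨L₁, i, q⟩, hw⟩ := w
        obtain ⟨⟨L₂, i', q'⟩, hw'⟩ := w'
        simp only at hg hi hf hf'
        have hq : q'.out = ((l' : M)⁻¹ * l) * q.out := by rw [mul_assoc, hg, inv_mul_cancel_left]
        have hk : (l' : M)⁻¹ * l ∈ L.1 := mul_mem (inv_mem l'.2) l.2
        have hkn : q.out⁻¹ * ((l' : M)⁻¹ * l) * q.out ∈ L₁.1 := by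
          obtain ⟨x, hx, hxe⟩ := hf.le hk
          simp only [MulEquiv.coe_toMonoidHom, MulAut.conj_apply] at hxe
          rw [← hxe]; simpa [mul_assoc] using hx
        have hL : L₁ = L₂ := by
          refine Subtype.ext ?_
          ext m
          constructor <;> intro hm
          · have h3 : q'.out * m * q'.out⁻¹ ∈ L.1 := by
              have h2 : ((l' : M)⁻¹ * l) * (q.out * m * q.out⁻¹) * ((l' : M)⁻¹ * l)⁻¹ ∈ L.1 := by
                refine mul_mem (mul_mem hk ?_) (inv_mem hk)
                exact hf.ge ⟨m, hm, rfl⟩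
              rw [hq]; convert h2 using 1; group
            simpa [Subgroup.mem_map_equiv, mul_assoc] using hf'.le h3
          · have h3 : q'.out * m * q'.out⁻¹ ∈ L.1 := by exact hf'.ge ⟨m, hm, rfl⟩
            have h2 := mul_mem (mul_mem (inv_mem hk) h3) hk
            rw [hq] at h2
            have h4 : q.out * m * q.out⁻¹ ∈ L.1 := by convert h2 using 1; group
            simpa [Subgroup.mem_map_equiv, mul_assoc] using hf.le h4
        subst hL
        obtain rfl : i = i' := Fin.ext hi
        have hqq : q' = q := by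
          rw [← QuotientGroup.out_eq' q', ← QuotientGroup.out_eq' q]
          refine (QuotientGroup.eq.mpr ?_).symm
          rw [hq]; simpa [mul_assoc] using hkn
        subst hqq
        simp only [mul_left_inj] at hg
        rw [Subtype.ext hg]
      have hsurj : Function.Surjective Φ := by
        rintro ⟨g, i⟩
        let L' : I := ⟨L.1.map (MulAut.conj g⁻¹).toMonoidHom, hconj _ L.2.1 _,
          (Subgroup.card_map_of_injective (MulAut.conj g⁻¹).injective).trans L.2.2⟩
        have hc : c L = c L' := by simp only [c, L', hmk]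
        let q : M ⧸ L'.1 := (g : M ⧸ L'.1)
        have hgL : L'.1.map (MulAut.conj g).toMonoidHom = L.1 := by
          ext m
          simp [L', Subgroup.mem_map_equiv, mul_assoc]
        have hw : ∀ l ∈ L.1, l • (⟨L', Fin.cast hc i, q⟩ : Z) = ⟨L', Fin.cast hc i, q⟩ := by
          intro l hl
          have h := hstabZ L' (Fin.cast hc i) g
          rw [hgL] at h
          exact h.ge hl
        have hl : g * q.out⁻¹ ∈ L.1 := by
          have h1 : g⁻¹ * q.out ∈ L'.1 := QuotientGroup.eq.mp (QuotientGroup.out_eq' q).symm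
          rw [← hgL]
          exact ⟨(g⁻¹ * q.out)⁻¹, inv_mem h1, by simp [mul_assoc]⟩
        exact ⟨(⟨_, hw⟩, ⟨_, hl⟩), Prod.ext (inv_mul_cancel_right g q.out) (Fin.ext rfl)⟩
      have hcount := Nat.card_congr (Equiv.ofBijective Φ ⟨hinj, hsurj⟩)
      rw [Nat.card_prod, Nat.card_prod, Nat.card_fin, L.2.2] at hcount
      have hn0 : 0 < n := by omega
      refine Nat.eq_of_mul_eq_mul_right hn0 ?_
      calc mark Z L.1 * n = Nat.card M * c L := hcount
        _ = (b + 1 - mark X L.1) * A * n := by simp only [c, A]; ring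
    refine ⟨(Fin A × X) ⊕ Z, inferInstance, inferInstance,
      fun j => if j = n then A * (b + 1) else A * f j,
      fun w => ⟨(hstab w).1, by have := (hstab w).2; omega⟩, fun L hL hk => ?_⟩
    have hA : 0 < A := Nat.card_pos
    rcases Nat.lt_or_eq_of_le (show n ≤ Nat.card L by omega) with hlt | heq
    · obtain ⟨hf, hpos⟩ := h2 L hL (by omega)
      simp only [hmark, hbig L hlt, Nat.add_zero, if_neg (show Nat.card L ≠ n by omega), hf]
      exact ⟨trivial, Nat.mul_pos hA (hf ▸ hpos)⟩
    · have hs := hsame ⟨L, hL, heq.symm⟩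
      have hle : mark X L ≤ b + 1 := (hb ⟨L, hL, heq.symm⟩).trans (Nat.le_succ b)
      simp only at hs
      simp only [hmark, hs, if_pos heq.symm]
      have e : A * mark X L + (b + 1 - mark X L) * A = A * (b + 1) := by
        rw [Nat.mul_comm _ A, ← Nat.mul_add, Nat.add_sub_cancel' hle]
      rw [e]
      exact ⟨rfl, Nat.mul_pos hA (Nat.succ_pos b)⟩

end Cfsg.Agent.Fus93
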