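import Cfsg.Agent.Lib.Fusion.NormalCentralizerMain

/-!
# The focal subgroup of `C_F(T)` centralizes a normal subsystem over `T`
-/

set_option autoImplicit false

namespace Cfsg.Agent.Fus93.NormalFocal

open Cfsg Cfsg.Agent.Fusion Cfsg.Agent.Fusion.NormalLift
open Cfsg.FusionSystem (normalizerIn centralizerIn)

variable {Ω : Type*} [Group Ω] {S T : Subgroup Ω} {F : FusionSystem S} {E : FusionSystem T} {p : ℕ}
  [Finite S] [Fact p.Prime]

set_option maxHeartbeats 1600000 in
/-- The commutator with a lift of prime-to-`p` order is constant on the classes of `C_F(R)`. -/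
theorem defect_invariant (hS : IsPGroup p S) (hF : F.IsSaturated p) {R : Subgroup Ω}
    (hR : F.IsFullyCentralized R) {γ : MulAut ↥(R ⊔ centralizerIn S R)}
    (hγ : γ ∈ F.autGroup (R ⊔ centralizerIn S R)) (hγR : ∀ x ∈ R, autFun γ x ∈ R)
    (hγc : ∀ c ∈ centralizerIn S R, c⁻¹ * autFun γ c ∈ R)
    (ho : Nat.Coprime (orderOf γ) p) :
    ∀ P f, IsMap (centralizerSystem F R hR.1) P f → ∀ x ∈ P,
      (f x)⁻¹ * autFun γ (f x) = x⁻¹ * autFun γ x := by
  have hDS : (R ⊔ centralizerIn S R) ≤ S := sup_le hR.1 (centralizerIn_le _ _)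
  have hγiso := (mem_autGroup hDS).mp hγ
  haveI := finite_of_le hR.1
  haveI := finite_of_le (centralizerIn_le S R)
  have hγim : autFun γ '' (R : Set Ω) = (R : Set Ω) :=
    Set.Subset.antisymm (fun y ⟨x, hx, hy⟩ => hy ▸ hγR x hx)
      (fun y hy => surjOn_of_card_le hR.1
        (hγiso.1.injOn.mono fun x hx => (Subgroup.mem_sup_left hx : x ∈ (R ⊔ centralizerIn S R))) hγR le_rfl y hy)
  have hγC : ∀ c ∈ (centralizerIn S R), autFun γ c ∈ (centralizerIn S R) := fun c hc =>
    map_mem_centralizer hγiso.1 le_sup_left hγim (Subgroup.mem_sup_right hc) hc.2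
  set Z := R ⊓ (centralizerIn S R) with hZ
  have hzc : ∀ {c z : Ω}, c ∈ (centralizerIn S R) → z ∈ Z → c * z = z * c := fun hc hz =>
    (Subgroup.mem_centralizer_iff.mp hc.2 _ hz.1).symm
  have hdZ : ∀ c ∈ (centralizerIn S R), c⁻¹ * autFun γ c ∈ Z := fun c hc =>
    ⟨hγc c hc, (centralizerIn S R).mul_mem ((centralizerIn S R).inv_mem hc) (hγC c hc)⟩
  have hCp : IsPGroup p ↥(centralizerIn S R) := hS.to_le (centralizerIn_le _ _)
  set E₃ := centralizerSystem F R hR.1 with hE₃
  have hE₃s : E₃.IsSaturated p := centralizerSystem_isSaturated hS hF hR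
  have hE₃iff : ∀ {P : Subgroup Ω} {g : Ω → Ω}, IsMap E₃ P g ↔ IsMap F P g ∧ P ≤ (centralizerIn S R) ∧
      (∀ x ∈ P, g x ∈ (centralizerIn S R)) ∧ ExtendsFix F R P g :=
    fun {P g} => IsCentralizerSystem.isMap_iff (isCentralizerSystem_centralizerSystem R hR.1)
  refine alperin_induction_cr hCp hE₃s
    (fun P f => ∀ x ∈ P, (f x)⁻¹ * autFun γ (f x) = x⁻¹ * autFun γ x)
    (fun P f g hf he x hx => he hx ▸ hf x hx)
    (fun P Q f g hf _ hCf hCg x hx => (hCg _ (hf.mem hx)).trans (hCf x hx))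
    (fun P Q f _ hle hQf x hx => hQf x (hle hx)) ?_
  intro U hUc hUr hUn e he x hx
  obtain ⟨-, hUC, -, ψ, hψ, hψe, hψfix⟩ := hE₃iff.mp he.1
  haveI := finite_of_le hUn.1
  have hZU : Z ≤ U := fun z hz => hUc.2 U (isConj_refl hUC)
    ⟨hz.2, Subgroup.mem_centralizer_iff.mpr fun w hw => hzc (hUC hw) hz⟩
  set V := U ⊔ R with hV
  have hVD : V ≤ (R ⊔ centralizerIn S R) := sup_le (hUC.trans le_sup_right) le_sup_left
  have hψU : ψ '' (U : Set Ω) = (U : Set Ω) := (Set.image_congr hψe).trans he.2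
  have hψR : ψ '' (R : Set Ω) = (R : Set Ω) := (Set.image_congr hψfix).trans (Set.image_id' _)
  have hψV : IsIso F V V ψ := IsIso.sup hψ hψU hψR
  obtain ⟨ψi, hψi, hψl, hψr⟩ := hψV.exists_inv
  have hψifix : ∀ r ∈ R, ψi r = r := fun r hr => by
    conv_lhs => rw [← hψfix r hr]
    exact hψl r (Subgroup.mem_sup_right hr)
  have hγU : ∀ u ∈ U, autFun γ u ∈ U := fun u hu => by
    have := U.mul_mem hu (hZU (hdZ u (hUC hu)))
    rwa [mul_inv_cancel_left] at this
  haveI : Finite U := finite_of_le hUn.1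
  have hγUim : autFun γ '' (U : Set Ω) = (U : Set Ω) :=
    Set.Subset.antisymm (fun y ⟨u, hu, hy⟩ => hy ▸ hγU u hu)
      (fun y hy => surjOn_of_card_le (hUC.trans (centralizerIn_le _ _))
        (hγiso.1.injOn.mono fun u hu => (Subgroup.mem_sup_right (hUC hu) : u ∈ (R ⊔ centralizerIn S R))) hγU le_rfl y hy)
  have hγV : IsIso F V V (autFun γ) := IsIso.sup (hγiso.1.mono hVD) hγUim hγim
  obtain ⟨γi, hγi, hγl, hγr⟩ := hγV.exists_inv
  have hψv : ∀ {u : Ω}, u ∈ U → ψ u ∈ U := fun {u} hu => by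
    rw [← SetLike.mem_coe, ← hψU]; exact ⟨u, hu, rfl⟩
  have hψiU : ∀ {u : Ω}, u ∈ U → ψi u ∈ U := fun {u} hu => by
    obtain ⟨w, hw, rfl⟩ : u ∈ ψ '' (U : Set Ω) := by rw [hψU]; exact hu
    rw [hψl w (Subgroup.mem_sup_left hw)]; exact hw
  have hγiU : ∀ {u : Ω}, u ∈ U → γi u ∈ U := fun {u} hu => by
    obtain ⟨w, hw, rfl⟩ : u ∈ autFun γ '' (U : Set Ω) := by rw [hγUim]; exact hu
    rw [hγl w (Subgroup.mem_sup_left hw)]; exact hw
  set δ := ψi ∘ autFun γ ∘ ψ ∘ γi with hδ
  have hδV : IsMap F V δ :=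
    (((hγi.1.comp hψV.1 fun v hv => hγi.mem hv).comp hγV.1
      fun v hv => hψV.mem (hγi.mem hv)).comp hψi.1
      fun v hv => hγV.mem (hψV.mem (hγi.mem hv)))
  have hδR : ∀ r ∈ R, δ r = r := fun r hr => by
    obtain ⟨s, hs, rfl⟩ : r ∈ autFun γ '' (R : Set Ω) := by rw [hγim]; exact hr
    simp only [hδ, Function.comp_apply]
    rw [hγl s (Subgroup.mem_sup_right hs), hψfix s hs, hψifix _ (hγR s hs)]
  have hδU : ∀ v ∈ U, δ v ∈ U := fun v hv => hψiU (hγU _ (hψv (hγiU hv)))
  have hδmod : ∀ v ∈ U, v⁻¹ * δ v ∈ Z := fun v hv => by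
    obtain ⟨w, hw, rfl⟩ : v ∈ autFun γ '' (U : Set Ω) := by rw [hγUim]; exact hv
    have hwV : w ∈ V := Subgroup.mem_sup_left hw
    simp only [hδ, Function.comp_apply]
    rw [hγl w hwV]
    set a := w⁻¹ * autFun γ w with ha
    set b := (ψ w)⁻¹ * autFun γ (ψ w) with hb
    have haZ : a ∈ Z := hdZ w (hUC hw)
    have hbZ : b ∈ Z := hdZ _ (hUC (hψv hw))
    have e1 : autFun γ (ψ w) = ψ w * b := by rw [hb]; group
    have e2 : ψi (ψ w * b) = w * b := by
      rw [hψi.1.map_mul (Subgroup.mem_sup_left (hψv hw)) (Subgroup.mem_sup_right hbZ.1),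
        hψl w hwV, hψifix b hbZ.1]
    rw [e1, e2, show (autFun γ w)⁻¹ * (w * b) = a⁻¹ * b by rw [ha]; group]
    exact Z.mul_mem (Z.inv_mem haZ) hbZ
  have hδ₃ : IsIso E₃ U U δ :=
    isIso_of_mapsTo (hE₃iff.mpr ⟨hδV.mono le_sup_left, hUC, fun v hv => hUC (hδU v hv), δ,
      hδV, fun _ _ => rfl, hδR⟩) hUC hδU le_rfl
  obtain ⟨a, haA, hae⟩ := hδ₃.exists_aut
  haveI := finite_mulAut U
  have hAZ : ∀ b ∈ E₃.autGroup U, ∀ w : U, (w : Ω) ∈ Z → b w = w := fun b hb w hw => Subtype.ext (by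
    obtain ⟨-, -, -, b', -, hb'e, hb'R⟩ := hE₃iff.mp ((mem_autGroup hUC).mp hb).1
    rw [← autFun_coe b, ← hb'e w.2]
    exact hb'R w hw.1)
  have hafix : a ∈ fixMod U Z := by
    refine ⟨hAZ a haA, fun w => ?_⟩
    rw [Subgroup.coe_mul, Subgroup.coe_inv, ← autFun_coe a, hae w.2]
    exact hδmod w w.2
  have haI : a ∈ Cfsg.Inn U := by
    rw [← hUr.2]
    refine ⟨⟨a, haA⟩, Subgroup.mem_sSup_of_mem (s := (fixMod U Z).subgroupOf (E₃.autGroup U)) ?_
      (Subgroup.mem_subgroupOf.mpr hafix), rfl⟩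
    exact ⟨fixMod_normal _ fun b hb w hw => by rw [hAZ b hb w hw]; exact hw,
      (fixMod_isPGroup (hCp.to_le hUC)).comap_of_injective _ (Subgroup.subtype_injective _)⟩
  obtain ⟨u, hu, hue⟩ := mem_inn.mp haI
  -- the key identity
  have key : ∀ y ∈ U, ∃ w ∈ Z, y⁻¹ * (u * y * u⁻¹) = w ∧ autFun γ (ψ y) = ψ (autFun γ y) * w := by
    intro y hy
    have hgy := hγU y hy
    have hyV : y ∈ V := Subgroup.mem_sup_left hy
    have h1 : δ (autFun γ y) = u * autFun γ y * u⁻¹ := by
      rw [← hae hgy, autFun_of_mem a hgy]; exact hue ⟨_, hgy⟩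
    set dy := y⁻¹ * autFun γ y with hdy
    have hdyZ : dy ∈ Z := hdZ y (hUC hy)
    set w := y⁻¹ * (u * y * u⁻¹) with hw
    have hcm : dy * u⁻¹ = u⁻¹ * dy := (hzc ((centralizerIn S R).inv_mem (hUC hu)) hdyZ).symm
    have e0 : u * autFun γ y * u⁻¹ = autFun γ y * w := by
      calc u * autFun γ y * u⁻¹ = u * y * (dy * u⁻¹) := by rw [hdy]; group
        _ = u * y * u⁻¹ * dy := by rw [hcm]; group
        _ = y * (w * dy) := by rw [hw]; group
        _ = y * (dy * w) := by
          rw [hzc (U.mul_mem (U.inv_mem hy) (U.mul_mem (U.mul_mem hu hy) (U.inv_mem hu)) |> fun hh =>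
            hUC hh) hdyZ]
        _ = autFun γ y * w := by rw [hdy]; group
    have hwZ : w ∈ Z := by
      have h2 := hδmod _ hgy
      rwa [h1, e0, inv_mul_cancel_left] at h2
    refine ⟨w, hwZ, rfl, ?_⟩
    have h3 : ψi (autFun γ (ψ y)) = autFun γ y * w := by
      rw [← e0, ← h1]
      simp only [hδ, Function.comp_apply]
      rw [hγl y hyV]
    rw [← hψr _ (hγV.mem (hψV.mem hyV)), h3,
      hψ.map_mul (Subgroup.mem_sup_left hgy) (Subgroup.mem_sup_right hwZ.1), hψfix w hwZ.1]
  obtain ⟨w, hwZ, hwdef, hwx⟩ := key x hx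
  have hγw : autFun γ w = w := by
    have hxC := hUC hx
    have huC := hUC hu
    obtain ⟨a', ha', hae'⟩ : ∃ a' ∈ Z, autFun γ x = x * a' :=
      ⟨x⁻¹ * autFun γ x, hdZ x hxC, by group⟩
    obtain ⟨b', hb', hbe'⟩ : ∃ b' ∈ Z, autFun γ u = u * b' :=
      ⟨u⁻¹ * autFun γ u, hdZ u huC, by group⟩
    have hxD : x ∈ (R ⊔ centralizerIn S R) := Subgroup.mem_sup_right hxC
    have huD : u ∈ (R ⊔ centralizerIn S R) := Subgroup.mem_sup_right huC
    have e1 : b' * (x * a') = x * a' * b' := (hzc ((centralizerIn S R).mul_mem hxC ha'.2) hb').symm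
    have e2 : u * x * a' * u⁻¹ = u * x * u⁻¹ * a' := by
      rw [mul_assoc (u * x), ← hzc ((centralizerIn S R).inv_mem huC) ha']; group
    conv_lhs => rw [← hwdef]
    rw [hγiso.1.map_mul ((R ⊔ centralizerIn S R).inv_mem hxD) ((R ⊔ centralizerIn S R).mul_mem ((R ⊔ centralizerIn S R).mul_mem huD hxD) ((R ⊔ centralizerIn S R).inv_mem huD)),
      hγiso.1.map_inv hxD, hγiso.1.map_conj huD hxD, hae', hbe']
    calc (x * a')⁻¹ * (u * b' * (x * a') * (u * b')⁻¹)
        = (x * a')⁻¹ * (u * (b' * (x * a')) * b'⁻¹ * u⁻¹) := by group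
      _ = (x * a')⁻¹ * (u * x * a' * u⁻¹) := by rw [e1]; group
      _ = a'⁻¹ * (x⁻¹ * (u * x * u⁻¹)) * a' := by rw [e2]; group
      _ = w := by rw [hwdef, mul_assoc, hzc hwZ.2 ha', inv_mul_cancel_left]
  have hit : ∀ n : ℕ, autFun (γ ^ n) x ∈ U ∧ (autFun (γ ^ n) x) = x * (x⁻¹ * autFun (γ ^ n) x) ∧
      x⁻¹ * autFun (γ ^ n) x ∈ Z ∧
      autFun (γ ^ n) (ψ x) = ψ (autFun (γ ^ n) x) * w ^ n := by
    intro n
    have hxD : x ∈ (R ⊔ centralizerIn S R) := Subgroup.mem_sup_right (hUC hx)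
    have hψxD : ψ x ∈ (R ⊔ centralizerIn S R) := Subgroup.mem_sup_right (hUC (hψv hx))
    induction n with
    | zero =>
      rw [pow_zero, autFun_one hxD, autFun_one hψxD]
      simp [hx]
    | succ n ih =>
      obtain ⟨hy, -, hyZ, hyw⟩ := ih
      set y := autFun (γ ^ n) x with hy'
      have hnext : autFun (γ ^ (n + 1)) x = autFun γ y := by
        rw [pow_succ', autFun_mul _ _ hxD]; rfl
      obtain ⟨w', hw'Z, hw'def, hw'y⟩ := key y hy
      have hww : w' = w := by
        obtain ⟨z, hzZ, hyz⟩ : ∃ z ∈ Z, y = x * z := ⟨x⁻¹ * y, hyZ, by group⟩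
        rw [← hw'def, ← hwdef, hyz]
        calc (x * z)⁻¹ * (u * (x * z) * u⁻¹) = z⁻¹ * x⁻¹ * u * x * (z * u⁻¹) := by group
          _ = z⁻¹ * x⁻¹ * u * x * (u⁻¹ * z) := by rw [hzc ((centralizerIn S R).inv_mem (hUC hu)) hzZ]
          _ = z⁻¹ * (x⁻¹ * (u * x * u⁻¹) * z) := by group
          _ = z⁻¹ * (z * (x⁻¹ * (u * x * u⁻¹))) := by
            rw [hzc ((centralizerIn S R).mul_mem ((centralizerIn S R).inv_mem (hUC hx)) ((centralizerIn S R).mul_mem ((centralizerIn S R).mul_mem (hUC hu) (hUC hx))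
              ((centralizerIn S R).inv_mem (hUC hu)))) hzZ]
          _ = x⁻¹ * (u * x * u⁻¹) := by group
      refine ⟨hnext ▸ hγU y hy, by group, ?_, ?_⟩
      · rw [hnext, show x⁻¹ * autFun γ y = x⁻¹ * y * (y⁻¹ * autFun γ y) by group]
        exact Z.mul_mem hyZ (hdZ y (hUC hy))
      · rw [pow_succ' γ, autFun_mul _ _ hψxD, Function.comp_apply, hyw,
          hγiso.1.map_mul (Subgroup.mem_sup_right (hUC (hψv hy))) ((R ⊔ centralizerIn S R).pow_mem (Subgroup.mem_sup_left hwZ.1) n),
          hγiso.1.map_pow (Subgroup.mem_sup_left hwZ.1) n, hγw, hw'y, hww, mul_assoc, ← pow_succ',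
          autFun_mul _ _ hxD]
        rfl
  have hw1 : w = 1 := by
    have h1 := (hit (orderOf γ)).2.2.2
    have hxD : x ∈ (R ⊔ centralizerIn S R) := Subgroup.mem_sup_right (hUC hx)
    have hψxD : ψ x ∈ (R ⊔ centralizerIn S R) := Subgroup.mem_sup_right (hUC (hψv hx))
    rw [pow_orderOf_eq_one, autFun_one hψxD, autFun_one hxD] at h1
    have h2 : w ^ orderOf γ = 1 := by simpa using h1.symm
    obtain ⟨k, hk⟩ := hS ⟨w, hR.1 hwZ.1⟩
    exact orderOf_eq_one_iff.mp (Nat.eq_one_of_dvd_coprimes (ho.pow_right k)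
      (orderOf_dvd_of_pow_eq_one h2) (orderOf_dvd_of_pow_eq_one (congrArg Subtype.val hk)))
  rw [hw1, mul_one] at hwx
  rw [← hψe hx, hwx, show autFun γ x = x * (x⁻¹ * autFun γ x) by group,
    hψ.map_mul (Subgroup.mem_sup_left hx) (Subgroup.mem_sup_right (hdZ x (hUC hx)).1),
    hψfix _ (hdZ x (hUC hx)).1]
  group

omit [Finite S] in
/-- Powers of a lift of a map stabilising `R` are trivial modulo `R`. -/
theorem pow_defect {R : Subgroup Ω} (hR : R ≤ S) {γ : MulAut ↥(R ⊔ centralizerIn S R)}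
    (hγ : γ ∈ F.autGroup (R ⊔ centralizerIn S R)) (hγR : ∀ x ∈ R, autFun γ x ∈ R)
    (hγc : ∀ c ∈ centralizerIn S R, c⁻¹ * autFun γ c ∈ R) (n : ℕ) :
    (∀ x ∈ R, autFun (γ ^ n) x ∈ R) ∧
      ∀ c ∈ centralizerIn S R, c⁻¹ * autFun (γ ^ n) c ∈ R := by
  have hD : R ⊔ centralizerIn S R ≤ S := sup_le hR (centralizerIn_le _ _)
  have hiso := ((mem_autGroup hD).mp hγ).1
  induction n with
  | zero =>
    refine ⟨fun x hx => ?_, fun c hc => ?_⟩
    · rw [pow_zero, autFun_one (Subgroup.mem_sup_left hx : x ∈ R ⊔ centralizerIn S R)]; exact hx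
    · rw [pow_zero, autFun_one (Subgroup.mem_sup_right hc : c ∈ R ⊔ centralizerIn S R)]; simp
  | succ n ih =>
    refine ⟨fun x hx => ?_, fun c hc => ?_⟩
    · rw [pow_succ', autFun_mul _ _ (Subgroup.mem_sup_left hx : x ∈ R ⊔ centralizerIn S R)]
      exact hγR _ (ih.1 x hx)
    · have hcD : c ∈ R ⊔ centralizerIn S R := Subgroup.mem_sup_right hc
      have h1 := R.mul_mem (hγc c hc) (hγR _ (ih.2 c hc))
      rw [mul_assoc, ← hiso.map_mul hcD (Subgroup.mem_sup_left (ih.2 c hc)),
        mul_inv_cancel_left] at h1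
      rwa [pow_succ', autFun_mul _ _ hcD]

/-- The generators of the focal subgroup of `C_F(T)`. -/
def focGen (F : FusionSystem S) (T : Subgroup Ω) : Set Ω :=
  {u | ∃ x ∈ centralizerIn S T, ∃ f, IsMap F (Subgroup.zpowers x ⊔ T) f ∧ (∀ t ∈ T, f t = t) ∧
    u = x⁻¹ * f x}

omit [Finite S] [Fact p.Prime] in
theorem focGen_subset (hTS : T ≤ S) {u : Ω} (hu : u ∈ focGen F T) : u ∈ centralizerIn S T := by
  obtain ⟨x, hx, f, hf, hfix, rfl⟩ := hu
  refine Subgroup.mul_mem _ (Subgroup.inv_mem _ hx) ?_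
  exact map_mem_centralizer hf le_sup_right ((Set.image_congr hfix).trans (Set.image_id' _))
    (Subgroup.mem_sup_left (Subgroup.mem_zpowers x)) hx.2

set_option maxHeartbeats 1600000 in
/-- Automorphisms at centric subgroups of `E` extend fixing the focal subgroup of `C_F(T)`. -/
theorem extends_centric (h : NData F E p) {U : Subgroup Ω} (hUc : E.IsCentric U)
    (hUn : E.IsFullyNormalized U) {e : MulAut U} (he : e ∈ E.autGroup U) :
    ExtendsFix F (Subgroup.closure (focGen F T)) U (autFun e) := by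
  haveI := h.finiteT
  have hUT := hUc.1
  have hUS := hUT.trans h.tS
  haveI := finite_of_le hUT
  haveI := finite_mulAut U
  set A := E.autGroup U with hA
  set D0 := Subgroup.closure (focGen F T) with hD0
  have hD0T : D0 ≤ centralizerIn S T :=
    (Subgroup.closure_le _).mpr fun u hu => focGen_subset h.tS hu
  have hTU : centralizerIn S T ≤ centralizerIn S U :=
    inf_le_inf_left _ (Subgroup.centralizer_le hUT)
  have hWS : U ⊔ D0 ≤ S := sup_le hUS (hD0T.trans (centralizerIn_le _ _))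
  let K : Subgroup A :=
    { carrier := {a | ExtendsFix F D0 U (autFun (a : MulAut U))}
      one_mem' := ⟨id, isMap_id hWS, fun x hx => (autFun_one hx).symm, fun _ _ => rfl⟩
      mul_mem' := fun {a b} ha hb => (hb.comp ha fun x hx => autFun_of_mem (b : MulAut U) hx ▸
        ((b : MulAut U) _).2).congr (autFun_mul _ _).symm
      inv_mem' := fun {a} ha => ha.inv
        ⟨((mem_autGroup hUT).mp a.2).1.of_isSubsystemOf h.sub, autFun_image _⟩
        fun x hx => by
          rw [autFun_of_mem (a : MulAut U) hx, autFun_coe]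
          exact congrArg Subtype.val ((a : MulAut U).symm_apply_apply _) }
  obtain ⟨Y, hY⟩ := (fullyAutomized_of_fullyNormalized h.tp h.eSat hUn).2
  have hK : K = ⊤ := by
    refine eq_top_of_sylow_coprime Y K (fun a ha => ?_) fun a ha => ?_
    · rw [hY, Subgroup.mem_subgroupOf, mem_autInducedBy] at ha
      obtain ⟨t, ht, hte⟩ := ha
      refine ⟨fun x => t * x * t⁻¹, isMap_conj hWS (h.tS ht), fun x hx => ?_, fun x hx => ?_⟩
      · rw [autFun_of_mem _ hx, hte]
      · show t * x * t⁻¹ = x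
        rw [Subgroup.mem_centralizer_iff.mp (hD0T hx).2 t ht]
        group
    · obtain ⟨R, hUR, hRn⟩ := exists_fullyNormalized (F := F) hUS
      obtain ⟨θ, hθ, hθU, -, -⟩ := h.exists_normT_map hRn hUR
      have hUN : U ≤ normalizerIn S U := le_normalizerIn hUS
      have hCN : centralizerIn S U ≤ normalizerIn S U := centralizerIn_le_normalizerIn _ _
      have hRT : R ≤ T := fun y hy => by
        obtain ⟨x, hx, rfl⟩ := hθU.exists_preimage hy
        exact Fusion92.closed_apply h.closed hθ (hUN hx) (hUT hx)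
      have hRc : centralizerIn T R ≤ R := by
        obtain ⟨k, g, hk, hg, hge⟩ := invariant_frattini h.invariant hθU.1 hUT
        obtain ⟨R₁, hR₁⟩ := hg.exists_image
        have hR₁T := hR₁.cod_le
        intro c hcc
        obtain ⟨c', hc', rfl⟩ := hk.exists_preimage hcc.1
        have hkR : ∀ y ∈ R₁, k y ∈ R := fun y hy => by
          obtain ⟨x, hx, rfl⟩ := hR₁.exists_preimage hy
          rw [← hge x hx]; exact hθU.mem hx
        refine hkR _ (hUc.2 R₁ hR₁.isConj ⟨hc', Subgroup.mem_centralizer_iff.mpr fun y hy => ?_⟩)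
        refine hk.1.injOn (T.mul_mem (hR₁T hy) hc') (T.mul_mem hc' (hR₁T hy)) ?_
        rw [hk.1.map_mul (hR₁T hy) hc', hk.1.map_mul hc' (hR₁T hy)]
        exact Subgroup.mem_centralizer_iff.mp hcc.2 _ (hkR y hy)
      set α := MulAut.congr hθU.equiv (a : MulAut U) with hα
      have hαE : α ∈ E.autGroup R := by
        have hiso := (mem_autGroup hUT).mp a.2
        obtain ⟨χ, hχ, hχe⟩ := h.strongInv U R U (autFun (a : MulAut U)) θ le_rfl hUT hiso.1
          (fun x hx => hiso.mem hx) hθU.1 hθU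
        refine autGroup_mem_of_isMap (hχ.congr fun y hy => ?_)
        obtain ⟨x, hx, rfl⟩ := hθU.exists_preimage hy
        rw [hχe x hx, hα, autFun_congr hθU (a : MulAut U) hx]
      have hαo : Nat.Coprime (orderOf α) p := by
        rw [hα, MulEquiv.orderOf_eq, Subgroup.orderOf_coe]
        exact ha
      set C := centralizerIn S R with hC
      set D := R ⊔ C with hD
      have hDS : D ≤ S := sup_le hRn.1 (centralizerIn_le _ _)
      haveI := finite_of_le hDS
      haveI := finite_of_le hRn.1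
      haveI := finite_mulAut D
      obtain ⟨γ₀, hγ₀, hγ₀e, hγ₀c⟩ := h.exists_lift hRn hRT hRc α hαE
      obtain ⟨m, hm, hαm⟩ := exists_pow_coprime γ₀ α hαo
      have hγ₀R : ∀ x ∈ R, autFun γ₀ x ∈ R := fun x hx => by
        rw [hγ₀e hx, autFun_of_mem α hx]; exact (α _).2
      obtain ⟨hγR, hγc⟩ := pow_defect hRn.1 hγ₀ hγ₀R hγ₀c m
      set γ := γ₀ ^ m with hγdef
      have hγF : γ ∈ F.autGroup D := Subgroup.pow_mem _ hγ₀ m
      have hγiso := (mem_autGroup hDS).mp hγF
      have hγe : ∀ n : ℕ, Set.EqOn (autFun (γ₀ ^ n)) (autFun (α ^ n)) R := by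
        intro n
        induction n with
        | zero =>
          intro x hx
          rw [pow_zero, pow_zero, autFun_one hx, autFun_one (Subgroup.mem_sup_left hx : x ∈ D)]
        | succ n ihn =>
          intro x hx
          rw [pow_succ', pow_succ', autFun_mul _ _ (Subgroup.mem_sup_left hx : x ∈ D),
            autFun_mul _ _ hx, Function.comp_apply, Function.comp_apply, ihn hx]
          exact hγ₀e (autFun_of_mem (α ^ n) hx ▸ ((α ^ n) _).2)
      have hγα : Set.EqOn (autFun γ) (autFun α) R := by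
        intro x hx
        rw [hγdef, hγe m hx, hαm]
      have hinv := defect_invariant h.pgroup h.sat (h.centralized hRn) hγF hγR hγc hm
      have hCR : ∀ c ∈ centralizerIn S U, θ c ∈ C := fun c hc =>
        map_mem_centralizer hθ hUN hθU.2 (hCN hc) hc.2
      -- `γ` fixes the image of the generators
      have hγfix : ∀ y ∈ D0, autFun γ (θ y) = θ y := by
        intro y hy
        induction hy using Subgroup.closure_induction with
        | mem v hv =>
          obtain ⟨x, hx, f, hf, hffix, rfl⟩ := hv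
          have hfx : f x ∈ centralizerIn S T :=
            map_mem_centralizer hf le_sup_right ((Set.image_congr hffix).trans (Set.image_id' _))
              (Subgroup.mem_sup_left (Subgroup.mem_zpowers x)) hx.2
          have hxN : x ∈ normalizerIn S U := hCN (hTU hx)
          have hfxN : f x ∈ normalizerIn S U := hCN (hTU hfx)
          obtain ⟨N', hN'⟩ := hθ.exists_image
          obtain ⟨θi, hθi, hθl, -⟩ := hN'.exists_inv
          have hle : Subgroup.zpowers x ⊔ U ≤ normalizerIn S U :=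
            sup_le ((Subgroup.zpowers_le).mpr hxN) hUN
          have hf1 : ∀ z ∈ Subgroup.zpowers x ⊔ U, f z ∈ normalizerIn S U := by
            refine isMap_mem_sup hf le_sup_left (hUT.trans le_sup_right) (fun z hz => ?_)
              fun z hz => (hffix z (hUT hz)).symm ▸ hUN hz
            obtain ⟨k, rfl⟩ := Subgroup.mem_zpowers_iff.mp hz
            obtain ⟨φ, -, hφ⟩ := id hf
            have hxM : x ∈ Subgroup.zpowers x ⊔ T := Subgroup.mem_sup_left (Subgroup.mem_zpowers x)
            rw [← hφ ⟨x ^ k, Subgroup.zpow_mem _ hxM k⟩,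
              show (⟨x ^ k, Subgroup.zpow_mem _ hxM k⟩ : ↥(Subgroup.zpowers x ⊔ T)) = ⟨x, hxM⟩ ^ k
                from rfl, map_zpow, hφ]
            exact Subgroup.zpow_mem _ hfxN k
          obtain ⟨M, hM⟩ := (hθ.mono hle).exists_image
          have hMN' : M ≤ N' := fun z hz => by
            obtain ⟨w, hw, rfl⟩ := hM.exists_preimage hz
            exact hN'.mem (hle hw)
          have hθiM : ∀ z ∈ M, θi z ∈ Subgroup.zpowers x ⊔ U := fun z hz => by
            obtain ⟨w, hw, rfl⟩ := hM.exists_preimage hz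
            rw [hθl w (hle hw)]; exact hw
          set g := θ ∘ f ∘ θi with hg
          have hgM : IsMap F M g :=
            (((hθi.1.mono hMN').comp (hf.mono (sup_le_sup_left hUT _)) hθiM).comp hθ
              fun z hz => hf1 _ (hθiM z hz))
          have hxR : Subgroup.zpowers (θ x) ⊔ R ≤ M := by
            refine sup_le ((Subgroup.zpowers_le).mpr
              (hM.mem (Subgroup.mem_sup_left (Subgroup.mem_zpowers x)))) fun r hr => ?_
            obtain ⟨w, hw, rfl⟩ := hθU.exists_preimage hr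
            exact hM.mem (Subgroup.mem_sup_right hw)
          have hgx : g (θ x) = θ (f x) := by
            simp only [hg, Function.comp_apply]; rw [hθl x hxN]
          have hgR : ∀ r ∈ R, g r = r := fun r hr => by
            obtain ⟨w, hw, rfl⟩ := hθU.exists_preimage hr
            simp only [hg, Function.comp_apply]
            rw [hθl w (hUN hw), hffix w (hUT hw)]
          have hgz : ∀ z ∈ Subgroup.zpowers (θ x), g z ∈ C := fun z hz => by
            refine map_mem_centralizer hgM (le_sup_right.trans hxR)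
              ((Set.image_congr hgR).trans (Set.image_id' _)) (hxR (Subgroup.mem_sup_left hz)) ?_
            exact (((Subgroup.zpowers_le).mpr (hCR x (hTU hx))) hz).2
          have hg₃ : IsMap (centralizerSystem F R (h.centralized hRn).1) (Subgroup.zpowers (θ x)) g :=
            (IsCentralizerSystem.isMap_iff (isCentralizerSystem_centralizerSystem R _)).mpr
              ⟨hgM.mono (le_sup_left.trans hxR), (Subgroup.zpowers_le).mpr (hCR x (hTU hx)), hgz, g,
                hgM.mono hxR, fun _ _ => rfl, hgR⟩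
          have hd := hinv _ g hg₃ (θ x) (Subgroup.mem_zpowers _)
          rw [hgx] at hd
          have hXC := hCR x (hTU hx)
          have hYC := hCR (f x) (hTU hfx)
          set X := θ x with hX
          set Y' := θ (f x) with hY'
          set d := X⁻¹ * autFun γ X with hd'
          have hdR : d ∈ R := hγc X hXC
          rw [hθ.map_mul ((normalizerIn S U).inv_mem hxN) hfxN, hθ.map_inv hxN, ← hX, ← hY',
            hγiso.1.map_mul (D.inv_mem (Subgroup.mem_sup_right hXC)) (Subgroup.mem_sup_right hYC),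
            hγiso.1.map_inv (Subgroup.mem_sup_right hXC)]
          have eX : autFun γ X = X * d := by rw [hd']; group
          have eY : autFun γ Y' = Y' * d := by rw [← hd]; group
          have hc : d * (X⁻¹ * Y') = X⁻¹ * Y' * d :=
            Subgroup.mem_centralizer_iff.mp (C.mul_mem (C.inv_mem hXC) hYC).2 d hdR
          rw [eX, eY]
          calc (X * d)⁻¹ * (Y' * d) = d⁻¹ * (X⁻¹ * Y' * d) := by group
            _ = d⁻¹ * (d * (X⁻¹ * Y')) := by rw [hc]
            _ = X⁻¹ * Y' := inv_mul_cancel_left _ _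
        | one => rw [hθ.map_one, hγiso.1.map_one]
        | mul v w hv hw ihv ihw =>
          rw [hθ.map_mul (hCN (hTU (hD0T hv))) (hCN (hTU (hD0T hw))),
            hγiso.1.map_mul (Subgroup.mem_sup_right (hCR v (hTU (hD0T hv))))
              (Subgroup.mem_sup_right (hCR w (hTU (hD0T hw)))), ihv, ihw]
        | inv v hv ihv =>
          rw [hθ.map_inv (hCN (hTU (hD0T hv))),
            hγiso.1.map_inv (Subgroup.mem_sup_right (hCR v (hTU (hD0T hv)))), ihv]
      -- back
      have hle : U ⊔ D0 ≤ normalizerIn S U := sup_le hUN ((hD0T.trans hTU).trans hCN)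
      obtain ⟨M, hM⟩ := (hθ.mono hle).exists_image
      obtain ⟨θi, hθi, hθl, -⟩ := hM.exists_inv
      have hθD : ∀ z ∈ U ⊔ D0, θ z ∈ D :=
        isMap_mem_sup hθ hUN ((hD0T.trans hTU).trans hCN)
          (fun z hz => Subgroup.mem_sup_left (hθU.mem hz))
          fun z hz => Subgroup.mem_sup_right (hCR z (hTU (hD0T hz)))
      have hcomp : IsMap F (U ⊔ D0) (autFun γ ∘ θ) := (hθ.mono hle).comp hγiso.1 hθD
      have hback : ∀ z ∈ U ⊔ D0, autFun γ (θ z) ∈ M :=
        isMap_mem_sup hcomp le_sup_left le_sup_right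
          (fun z hz => by
            show autFun γ (θ z) ∈ M
            obtain ⟨z', hz', hze⟩ := hθU.exists_preimage (hγR _ (hθU.mem hz))
            rw [← hze]; exact hM.mem (Subgroup.mem_sup_left hz'))
          fun z hz => by
            show autFun γ (θ z) ∈ M
            rw [hγfix z hz]; exact hM.mem (Subgroup.mem_sup_right hz)
      refine ⟨θi ∘ autFun γ ∘ θ, hcomp.comp hθi.1 hback, fun z hz => ?_, fun z hz => ?_⟩
      · simp only [Function.comp_apply]
        rw [hγα (hθU.mem hz), hα, autFun_congr hθU (a : MulAut U) hz]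
        exact hθl _ (Subgroup.mem_sup_left (autFun_of_mem (a : MulAut U) hz ▸ ((a : MulAut U) _).2))
      · simp only [Function.comp_apply]
        rw [hγfix z hz]
        exact hθl z (Subgroup.mem_sup_right hz)
  exact (hK.ge (Subgroup.mem_top (⟨e, he⟩ : A)) : _)

/-- Every map of `E` extends to a map fixing the focal subgroup of `C_F(T)`. -/
theorem extends_all (h : NData F E p) :
    ∀ P f, IsMap E P f → ExtendsFix F (Subgroup.closure (focGen F T)) P f := by
  haveI := h.finiteT
  refine alperin_induction_cr h.tp h.eSat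
    (fun P f => ExtendsFix F (Subgroup.closure (focGen F T)) P f)
    (fun P f g hf he => hf.congr he)
    (fun P Q f g hf _ hCf hCg => hCf.comp hCg fun x hx => hf.mem hx)
    (fun P Q f _ hle hQf => extendsFix_mono hQf hle le_rfl) ?_
  intro U hUc _ hUn f hf
  obtain ⟨e, he, hee⟩ := hf.exists_aut
  exact (extends_centric h hUc hUn he).congr hee

end Cfsg.Agent.Fus93.NormalFocal
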