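import Cfsg.Agent.Fusion92.InnerControl
import Cfsg.Agent.Fusion92.CharP
import Cfsg.Agent.LocalEven61.ZJFunctor
import Cfsg.Agent.PLocalB.NormalPComplementZJ
import Cfsg.Agent.Lib.Fusion.Constrained
import Cfsg.Agent.Fus93.Basic
import Cfsg.Agent.Lib.Fusion.SubSat

/-!
For `p` odd a saturated system which is not inner has a constrained subsystem over `S` which is not inner:
otherwise the reduction of `Fusion92.Control` applies along `Z(J(S))` and its successors.

The control data is the one of `Fusion92.inner_of_normalizer`.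
-/

set_option autoImplicit false
set_option linter.all false

namespace Cfsg.Agent.Fus93.OddConstrained

open Cfsg Cfsg.Agent.Fusion Cfsg.Agent.Fusion92
open Cfsg.FusionSystem (normalizerIn centralizerIn)
open Cfsg.Agent

universe u

variable {Ω : Type u} [Group Ω] {S : Subgroup Ω} {p : ℕ} [Fact p.Prime]

theorem controlData_zj [Finite S] (hS : IsPGroup p S) (hp : p ≠ 2) :
    ControlData p (Cfsg.innerFusionSystem S) (fun Q _ => LocalEven61.zjA Q)
      (fun T D => T ≤ S ∧ D.IsSaturated p ∧ True) := by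
  let W : ∀ (Q : Type u) [Group Q], Subgroup Q := fun Q _ => LocalEven61.zjA Q
  have hW : IsInvariantW p W := fun Q R _ _ _ _ φ => LocalEven61.map_zjA φ
  have hW1 : ∀ (Q : Type u) [Group Q] [Finite Q], IsPGroup p Q → Nontrivial Q → W Q ≠ ⊥ :=
    fun Q _ _ hQ _ => LocalEven61.zjA_ne_bot hQ
  let X : ∀ T : Subgroup Ω, Cfsg.FusionSystem T → Prop := fun _ _ => True
  have hXN : ∀ {T : Subgroup Ω} {D : Cfsg.FusionSystem T}, T ≤ S → D.IsSaturated p → X T D →
      ∀ (V : Subgroup Ω) (hV : D.IsFullyNormalized V),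
        X (normalizerIn T V) (normalizerSystem D V hV.1) := fun _ _ _ _ _ => trivial
  have hXC : ∀ {T : Subgroup Ω} {D : Cfsg.FusionSystem T}, T ≤ S → D.IsSaturated p → X T D →
      ∀ (Q : Subgroup Ω) (hQ : D.IsNormal Q) (hn : T ≤ Subgroup.normalizer (Q : Set Ω)),
        X T (centralTypeSystem D Q hQ.1 hn) := fun _ _ _ _ _ _ => trivial
  have hcrit : ∀ {T : Subgroup Ω} {D : Cfsg.FusionSystem T}, T ≤ S → D.IsSaturated p → X T D →
      ∀ (Q₀ U : Subgroup Ω) (L : Type u) [Group L] (ι : ↥(normalizerIn T U) →* L),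
      LocalCond p D Q₀ ι → ∀ [((Q₀.subgroupOf (normalizerIn T U)).map ι).Normal],
      ∀ P : Sylow p (L ⧸ (Q₀.subgroupOf (normalizerIn T U)).map ι),
        Subgroup.centralizer ((pCore p (L ⧸ (Q₀.subgroupOf (normalizerIn T U)).map ι) :
          Subgroup _) : Set (L ⧸ (Q₀.subgroupOf (normalizerIn T U)).map ι)) ≤ pCore p _ →
        Subgroup.normalizer (((W ↥(P : Subgroup (L ⧸ (Q₀.subgroupOf (normalizerIn T U)).map ι))).map
          (P : Subgroup (L ⧸ (Q₀.subgroupOf (normalizerIn T U)).map ι)).subtype : Subgroup _) :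
          Set (L ⧸ (Q₀.subgroupOf (normalizerIn T U)).map ι)) ≤ P →
        IsPGroup p (L ⧸ (Q₀.subgroupOf (normalizerIn T U)).map ι) := by
    intro T D hT hD _ Q₀ U L _ ι hl hn P hc hle
    have := hl.isLocal.fin
    refine Fusion92.isPGroup_of_complement (PLocalB.hasNormalPComplement_of_ZJ hp P ?_) hc
    rw [← LocalEven61.map_subtype_zjA]
    exact Fusion92.hasNormalPComplement_of_le_sylow hle
  have key : ∀ {T : Subgroup Ω} {D : Cfsg.FusionSystem T}, T ≤ S → D.IsSaturated p → X T D →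
      ∀ (Q₀ U : Subgroup Ω) (L : Type u) [Group L] (ι : ↥(normalizerIn T U) →* L),
      LocalCond p D Q₀ ι →
      (∀ g ∈ Subgroup.normalizer ((secW W ι.range
        ((Q₀.subgroupOf (normalizerIn T U)).map ι) : Subgroup L) : Set L),
          ConjIn D (Cfsg.innerFusionSystem S) ι g) →
      ∀ g : L, g ∈ ι.range := by
    intro T D hTS hD hXD Q₀ U L _ ι h hg' g
    haveI : Finite T := Fusion.finite_of_le hTS
    have := h.isLocal.fin
    haveI := h.normal
    obtain ⟨P₀, hP₀⟩ := h.isLocal.sylow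
    have hrp : IsPGroup p ι.range := hP₀ ▸ P₀.2
    have hYr : ι.range ≤ Subgroup.normalizer ((secW W ι.range
        ((Q₀.subgroupOf (normalizerIn T U)).map ι) : Subgroup L) : Set L) :=
      le_normalizer_secW _ _ (normal_W hW _ (hrp.to_quotient _))
    have hNY := h.normalizer_le_range hS hTS hYr hg'
    obtain ⟨P, hP, hPY⟩ := h.exists_sylow (W := W) hW
    have hp := hcrit hTS hD hXD Q₀ U L ι h P (h.centralizer_le (hS.to_le hTS)) (fun y hy => by
      obtain ⟨k, rfl⟩ := QuotientGroup.mk'_surjective _ y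
      rw [← hPY, h.mem_normalizer_secW_iff] at hy
      rw [hP]
      exact ⟨k, hNY hy, rfl⟩)
    have hL : IsPGroup p L := by
      intro x
      obtain ⟨m, hm⟩ := hp (QuotientGroup.mk' _ x)
      rw [← map_pow] at hm
      obtain ⟨j, hj⟩ := h.isPGroup_map (hS.to_le hTS) ⟨_, (QuotientGroup.eq_one_iff _).mp hm⟩
      exact ⟨m + j, by rw [pow_add, pow_mul]; exact congrArg Subtype.val hj⟩
    rw [← hP₀, ← P₀.3 (hL.to_subgroup ⊤) le_top]
    exact Subgroup.mem_top g
  have hd : ControlData p (Cfsg.innerFusionSystem S) W fun T D =>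
      T ≤ S ∧ D.IsSaturated p ∧ X T D :=
    { nontriv := hW1
      invariant := hW
      le := fun h => h.1
      saturated := fun h => h.2.1
      normalizer := fun h V hV => by
        haveI := Fusion.finite_of_le h.1
        exact ⟨(Fusion.normalizerIn_le _ V).trans h.1,
          normalizerSystem_isSaturated (hS.to_le h.1) h.2.1 hV, hXN h.1 h.2.1 h.2.2 V hV⟩
      centralType := fun h Q hQ hn => by
        haveI := Fusion.finite_of_le h.1
        exact ⟨h.1, centralType_isSaturated (hS.to_le h.1) h.2.1 hQ, hXC h.1 h.2.1 h.2.2 Q hQ hn⟩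
      loc := fun {T D} hG Q₀ U L _ ι h hant g f hf hfU he => by
        obtain ⟨a, rfl⟩ := key hG.1 hG.2.1 hG.2.2 Q₀ U L ι h hant g
        have hUle := h.isLocal.shape.le
        refine isMap_inner_iff.mpr ⟨hf.dom_le.trans hG.1, a, hG.1 a.2.1, fun x hx => ?_⟩
        have hfx : f x ∈ normalizerIn T U := hUle (hfU.subset ⟨x, hx, rfl⟩)
        have h1 := he x (hUle hx) hx hfx
        rw [← map_inv, ← map_mul, ← map_mul] at h1
        exact congrArg Subtype.val (h.isLocal.shape.inj h1)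
      constrained := fun {T D} hG Q₀ U L _ ι h _ hant _ g => by
        obtain ⟨a, rfl⟩ := key hG.1 hG.2.1 hG.2.2 Q₀ U L ι h hant g
        intro R hR hUR f hf hfU he
        refine isMap_inner_iff.mpr ⟨hf.dom_le.trans hG.1, a, hG.1 a.2.1, fun x hx => ?_⟩
        have hfx : f x ∈ normalizerIn T U :=
          Fusion.map_mem_normalizer hf hUR hfU hx (hR hx).2
        have h1 := he x hx hfx
        rw [← map_inv, ← map_mul, ← map_mul] at h1
        exact congrArg Subtype.val (h.isLocal.shape.inj h1) }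
  exact hd

variable {F : Cfsg.FusionSystem S}

/-- If every normal centric subgroup of `S` has only `p`-automorphisms, the maps stabilizing a normal
subgroup are inner. -/
theorem inner_of_stab [Finite S] (hS : IsPGroup p S) (hF : F.IsSaturated p) (hp : p ≠ 2)
    (hcen : ∀ Q, F.IsCentric Q → S ≤ Subgroup.normalizer (Q : Set Ω) → IsPGroup p (F.autGroup Q))
    (Q₀ : Subgroup Ω) (hQ : Q₀ ≤ S) (hn : S ≤ Subgroup.normalizer (Q₀ : Set Ω)) :
    ∀ P f, IsMap F P f → ExtendsStab F Q₀ P f → IsMap (Cfsg.innerFusionSystem S) P f := by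
  induction hk : Nat.card S - Nat.card Q₀ using Nat.strong_induction_on generalizing Q₀ with
  | _ k ih =>
  subst hk
  haveI := Fusion.finite_of_le hQ
  by_cases hQS : Q₀ = S
  · subst hQS
    intro P f hf hext
    obtain ⟨f', hf', he, him⟩ := hext
    have hPS : P ≤ Q₀ := hf.dom_le
    obtain ⟨α, hα, hαe⟩ := IsIso.exists_aut (F := F) (P := Q₀) (f := f') ⟨hf'.mono le_sup_right, him⟩
    have hfn : F.IsFullyNormalized Q₀ := Fusion.fullyNormalized_self
    obtain ⟨hle, R, hR⟩ := Fusion.fullyAutomized_of_fullyNormalized hS hF hfn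
    have hp' := hcen Q₀ ⟨le_rfl, fun Q hQ' => ?_⟩ Subgroup.le_normalizer
    · have htop : (R : Subgroup (F.autGroup Q₀)) = ⊤ := (R.3 (hp'.to_subgroup ⊤) le_top).symm
      have hmem : (⟨α, hα⟩ : F.autGroup Q₀) ∈ (autInducedBy Q₀ Q₀).subgroupOf (F.autGroup Q₀) := by
        rw [← hR, htop]; exact Subgroup.mem_top _
      obtain ⟨g, hg, hge⟩ := mem_autInducedBy.mp hmem
      refine isMap_inner_iff.mpr ⟨hPS, g, hg, fun x hx => ?_⟩
      rw [← he hx]
      exact ((hαe (hPS hx)).symm.trans (autFun_of_mem α (hPS hx))).trans (hge ⟨x, hPS hx⟩)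
    · obtain ⟨φ, hφ, rfl⟩ := hQ'
      intro x hx
      have : φ.range = Q₀ := Subgroup.eq_of_le_of_card_ge
        (by rintro _ ⟨y, rfl⟩; exact Fus93.hom_val_mem F hφ y)
        (Fus93.card_range F hφ).ge
      rw [this]
      exact hx.1
  -- the system of maps stabilizing `Q₀`
  haveI : Finite (normalizerIn S Q₀) := Fusion.finite_of_le (Fusion.normalizerIn_le S Q₀)
  have hfn : F.IsFullyNormalized Q₀ :=
    ⟨hQ, fun R _ => Subgroup.card_le_of_le (le_inf (Fusion.normalizerIn_le S R)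
      ((Fusion.normalizerIn_le S R).trans hn))⟩
  set T := normalizerIn S Q₀ with hT
  have hTS : T = S := inf_eq_left.mpr hn
  set D := normalizerSystem F Q₀ hQ with hD
  haveI : Finite T := Fusion.finite_of_le (hTS.le)
  have hDsat : D.IsSaturated p := normalizerSystem_isSaturated hS hF hfn
  have hiff : ∀ P f, IsMap D P f ↔ IsMap F P f ∧ P ≤ T ∧ (∀ x ∈ P, f x ∈ T) ∧ ExtendsStab F Q₀ P f :=
    fun P f => IsNormalizerSystem.isMap_iff (isNormalizerSystem_normalizerSystem Q₀ hQ)
  have hQT : Q₀ ≤ T := hTS.symm ▸ hQ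
  have hQn : D.IsNormal Q₀ := by
    refine Fusion.isNormal_iff.mpr ⟨hQT, fun P f hf => ?_⟩
    obtain ⟨h1, hP, hfT, f', hf', he, him⟩ := (hiff P f).mp hf
    refine ⟨f', (hiff _ _).mpr ⟨hf', sup_le hP hQT, fun x hx => hTS.symm ▸ hf'.apply_mem hx,
      f', ?_, fun _ _ => rfl, him⟩, he, him⟩
    rwa [sup_eq_left.mpr le_sup_right]
  have hQp : IsPGroup p (D.autGroup Q₀) := by
    set C := Q₀ ⊔ centralizerIn S Q₀ with hC
    have hCS : C ≤ S := sup_le hQ (Fusion.centralizerIn_le S Q₀)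
    haveI := Fusion.finite_of_le hCS
    have hnC : S ≤ Subgroup.normalizer (C : Set Ω) := fun s hs => by
      refine Fusion92.mem_normalizer_sup (hn hs) ?_
      exact Fusion92.mem_normalizer_of_conj_mem_centralizer (T := S) hn hs
    have hcC : F.IsCentric C := by
      refine ⟨hCS, fun R hR x hx => ?_⟩
      obtain ⟨φ, hφ, rfl⟩ := hR
      -- the image of `Q₀` is normal in the image, and `C_S` of it lies in it
      obtain ⟨f, hf, hfe⟩ : ∃ f, IsMap F C f ∧ ∀ y : C, f y = φ y :=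
        ⟨extFun φ, isMap_extFun hφ, fun y => extFun_coe φ y⟩
      have hrange : φ.range.carrier = f '' (C : Set Ω) := by
        ext y
        constructor
        · rintro ⟨z, rfl⟩; exact ⟨z, z.2, hfe z⟩
        · rintro ⟨z, hz, rfl⟩; exact ⟨⟨z, hz⟩, (hfe _).symm⟩
      let φ₀ : Q₀ →* Ω := φ.comp (Subgroup.inclusion le_sup_left)
      have hφ₀ : φ₀ ∈ F.Hom Q₀ := Fus93.restrict_mem F hφ le_sup_left
      have hfcQ := (Fusion.fullyCentralized_of_fullyNormalized hS hF hfn).2 φ₀.range ⟨φ₀, hφ₀, rfl⟩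
      have hx₀ : x ∈ centralizerIn S φ₀.range := ⟨hx.1, Subgroup.mem_centralizer_iff.mpr (by
        rintro _ ⟨y, rfl⟩
        exact Subgroup.mem_centralizer_iff.mp hx.2 _ ⟨_, rfl⟩)⟩
      haveI : Finite (centralizerIn S φ₀.range) :=
        Fusion.finite_of_le (Fusion.centralizerIn_le S _)
      let h : centralizerIn S Q₀ → centralizerIn S φ₀.range := fun z =>
        ⟨φ ⟨z, (le_sup_right : _ ≤ C) z.2⟩, Fus93.hom_val_mem F hφ _, Subgroup.mem_centralizer_iff.mpr (by
          rintro _ ⟨y, rfl⟩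
          show φ _ * φ _ = φ _ * φ _
          rw [← map_mul, ← map_mul]
          exact congrArg φ (Subtype.ext (Subgroup.mem_centralizer_iff.mp z.2.2 y y.2)))⟩
      have hinj : Function.Injective h := fun z w hzw => Subtype.ext (congrArg
        (fun q : C => (q : Ω)) (F.injective_of_mem hφ (congrArg Subtype.val hzw)))
      have hbij : Function.Bijective h := (Nat.bijective_iff_injective_and_card h).mpr
        ⟨hinj, le_antisymm (Nat.card_le_card_of_injective h hinj) hfcQ⟩
      obtain ⟨z, hz⟩ := hbij.2 ⟨x, hx₀⟩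
      exact ⟨_, congrArg Subtype.val hz⟩
    have hAut := hcen C hcC hnC
    rintro ⟨α, hα⟩
    obtain ⟨hmem⟩ : Nonempty (IsIso D Q₀ Q₀ (autFun α)) := ⟨(Fusion.mem_autGroup hQT).mp hα⟩
    obtain ⟨hmF, -, -, -⟩ := (hiff _ _).mp hmem.1
    have hiso : IsIso F Q₀ Q₀ (autFun α) := ⟨hmF, hmem.2⟩
    obtain ⟨g, hgm, hge⟩ := Fusion.receptive_extend
      (Fusion.receptive_of_fullyNormalized hS hF hfn) hiso (isExtendable_centralizerIn (autFun α))
    have hgQ : g '' (Q₀ : Set Ω) = (Q₀ : Set Ω) := by rw [hge.image_eq]; exact hiso.2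
    obtain ⟨C', hC'⟩ := hgm.exists_image
    have hC'C : C' = C := by
      refine Subgroup.eq_of_le_of_card_ge (fun y hy => ?_) hC'.card_eq.le
      obtain ⟨z, hz, rfl⟩ := hC'.exists_preimage hy
      let Z : Subgroup Ω :=
        { carrier := {z | z ∈ C ∧ g z ∈ C}
          one_mem' := ⟨C.one_mem, by rw [hgm.map_one]; exact C.one_mem⟩
          mul_mem' := fun ha hb => ⟨C.mul_mem ha.1 hb.1, by
            rw [hgm.map_mul ha.1 hb.1]; exact C.mul_mem ha.2 hb.2⟩
          inv_mem' := fun ha => ⟨C.inv_mem ha.1, by rw [hgm.map_inv ha.1]; exact C.inv_mem ha.2⟩ }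
      have : C ≤ Z := sup_le
        (fun q hq => ⟨(le_sup_left : Q₀ ≤ C) hq, (le_sup_left : Q₀ ≤ C) (hgQ.subset ⟨q, hq, rfl⟩)⟩)
        (fun q hq => ⟨(le_sup_right : centralizerIn S Q₀ ≤ C) hq, (le_sup_right : centralizerIn S Q₀ ≤ C)
          (map_mem_centralizer hgm le_sup_left hgQ ((le_sup_right : centralizerIn S Q₀ ≤ C) hq) hq.2)⟩)
      exact (this hz).2
    have hg : IsIso F C C g := ⟨hgm, by rw [hC'.2, hC'C]⟩
    obtain ⟨β, hβ, hβe⟩ := hg.exists_aut
    obtain ⟨j, hj⟩ := hAut ⟨β, hβ⟩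
    refine ⟨j, Subtype.ext (MulEquiv.ext fun x => Subtype.ext ?_)⟩
    have hpow : ∀ (i : ℕ) (x : Q₀),
        (((α ^ i) x : Q₀) : Ω) = (((β ^ i) ⟨x, (le_sup_left : Q₀ ≤ C) x.2⟩ : C) : Ω) := by
      intro i
      induction i with
      | zero => intro x; rfl
      | succ i hi =>
        intro x
        rw [pow_succ, pow_succ, MulAut.mul_apply, MulAut.mul_apply, hi]
        refine congrArg (fun y : C => ((β ^ i) y : Ω)) (Subtype.ext ?_)
        rw [← autFun_coe β ⟨(x : Ω), _⟩, hβe ((le_sup_left : Q₀ ≤ C) x.2)]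
        exact ((hge x.2).trans (autFun_coe α x)).symm
    have h1 := congrArg Subtype.val hj
    simp only [SubmonoidClass.coe_pow, OneMemClass.coe_one] at h1 ⊢
    rw [hpow, h1]
    rfl
  have hall := (controlData_zj hS hp).control hS D Q₀ ⟨hTS.le, hDsat, trivial⟩ hQn hQp
    fun P f hf hext => by
      have hnT : (Q₀.subgroupOf T).Normal :=
        Subgroup.normal_subgroupOf_of_le_normalizer (hTS.le.trans hn)
      have hlt := Fusion92.lt_secW (W := fun Q _ => LocalEven61.zjA Q)
        (fun Q _ _ hQ _ => LocalEven61.zjA_ne_bot hQ) (hS.to_le hTS.le) hQT (hTS.symm ▸ hQS) hnT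
      set Y := secW (fun Q _ => LocalEven61.zjA Q) T Q₀ with hY
      have hYS : Y ≤ S := (secW_le T Q₀).trans hTS.le
      haveI := Fusion.finite_of_le hYS
      have hYn : S ≤ Subgroup.normalizer (Y : Set Ω) :=
        hTS.ge.trans (le_normalizer_secW _ _ (normal_W (p := p)
          (fun Q R _ _ _ _ φ => LocalEven61.map_zjA φ) _ ((hS.to_le hTS.le).to_quotient _)))
      have hcard : Nat.card Q₀ < Nat.card Y := by
        by_contra h
        exact hlt.ne (Subgroup.eq_of_le_of_card_ge hlt.le (Nat.not_lt.mp h))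
      refine ih _ (by have := Subgroup.card_le_of_le hYS; omega) Y hYS hYn rfl P f
        ((hiff P f).mp hf).1 ?_
      obtain ⟨f', hf', he, him⟩ := hext
      exact ⟨f', ((hiff _ _).mp hf').1, he, him⟩
  intro P f hf hext
  refine hall P f ((hiff P f).mpr ⟨hf, hTS.symm ▸ hf.dom_le, fun x hx => hTS.symm ▸ hf.apply_mem hx, hext⟩)

end Cfsg.Agent.Fus93.OddConstrained
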