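import Cfsg.Agent.Lib.LinearGroup.TorusSylow
import Cfsg.Agent.CG26.SL2Inv
import Cfsg.Agent.TwoFusionB.DihedralAut
import Cfsg.Agent.Fusion91.SimpleFinal

/-! The dihedral Sylow 2-subgroups of `PSL₂(q)` and the simplicity of its 2-fusion system. -/

set_option autoImplicit false
set_option linter.all false

namespace Cfsg.Agent.Fus93.PSLTwo

open QuaternionGroup

variable {G : Type*} [Group G]

/-- The image of a generalized quaternion group modulo its central involution is generated by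
involutions, and no element of odd order acts on it nontrivially. -/
theorem noClosed_of_quaternion [Finite G] {S : Subgroup G} (hp : IsPGroup 2 S) {n : ℕ} [NeZero n]
    (f : QuaternionGroup n →* G) (hf : f.range = S)
    (hker : ∀ z, f z = 1 ↔ z = 1 ∨ z = a (n : ZMod (2 * n)))
    (hconj : ∀ u v : G, orderOf u = 2 → orderOf v = 2 → ∃ g, g * u * g⁻¹ = v) :
    Fusion91.NoClosed S := by
  haveI : Fact (Nat.Prime 2) := ⟨Nat.prime_two⟩
  intro T hTS hT hcl
  refine le_antisymm hTS ?_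
  haveI : Nontrivial T := (Subgroup.nontrivial_iff_ne_bot T).mpr hT
  obtain ⟨t, ht⟩ : ∃ t : T, orderOf t = 2 := by
    obtain ⟨k, hk0, hk⟩ := (IsPGroup.nontrivial_iff_card (hp.to_le hTS)).mp inferInstance
    exact exists_prime_orderOf_dvd_card' 2 (hk ▸ dvd_pow_self 2 hk0.ne')
  have htG : orderOf (t : G) = 2 := by rw [Subgroup.orderOf_coe, ht]
  have hinv : ∀ i, f (xa i) ∈ T := by
    intro i
    have ho : orderOf (f (xa i)) = 2 := by
      refine orderOf_eq_prime ?_ ?_
      · rw [← map_pow, xa_sq]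
        exact (hker _).mpr (Or.inr rfl)
      · intro h
        rcases (hker _).mp h with h | h
        · rw [one_def] at h; cases h
        · cases h
    obtain ⟨g, hg⟩ := hconj _ _ htG ho
    rw [← hg]
    exact hcl _ t.2 g (by rw [hg, ← hf]; exact ⟨_, rfl⟩)
  rw [← hf]
  rintro _ ⟨j | j, rfl⟩
  · have h : f (a j) = f (xa 0) * f (xa (j - n)) := by
      rw [← map_mul, xa_mul_xa]; congr 2; ring
    exact h ▸ mul_mem (hinv _) (hinv _)
  · exact hinv j

theorem oddNormCentral_of_quaternion [Finite G] {S : Subgroup G} (hp : IsPGroup 2 S) {n : ℕ}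
    [NeZero n] (hn : 3 ≤ n)
    (f : QuaternionGroup n →* G) (hf : f.range = S)
    (hker : ∀ z, f z = 1 ↔ z = 1 ∨ z = a (n : ZMod (2 * n))) :
    Fusion91.OddNormCentral S := by
  intro g hg hodd
  set C : Subgroup G := Subgroup.zpowers (f (a 1)) with hC
  have hCS : C ≤ S := by rw [hC, Subgroup.zpowers_le, ← hf]; exact ⟨_, rfl⟩
  have haC : ∀ i, f (a i) ∈ C := by
    intro i
    refine ⟨(i.val : ℤ), ?_⟩
    show f (a 1) ^ ((i.val : ℕ) : ℤ) = f (a i)
    rw [zpow_natCast, ← map_pow, a_one_pow, ZMod.natCast_zmod_val]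
  have hsq : f (a 1) * f (a 1) ≠ 1 := by
    rw [← map_mul, a_mul_a]
    intro h
    rcases (hker _).mp h with h | h
    · rw [one_def, QuaternionGroup.a.injEq] at h
      have h' : ((2 : ℕ) : ZMod (2 * n)) = 0 := by push_cast; linear_combination h
      rw [ZMod.natCast_eq_zero_iff] at h'
      have := Nat.le_of_dvd (by norm_num) h'
      omega
    · rw [QuaternionGroup.a.injEq] at h
      have h' : ((n - 2 : ℕ) : ZMod (2 * n)) = 0 := by
        rw [Nat.cast_sub (by omega), ← h]; push_cast; ring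
      rw [ZMod.natCast_eq_zero_iff] at h'
      have := Nat.le_of_dvd (by omega) h'
      omega
  have hbig : ∀ x ∈ S, x * x ≠ 1 → x ∈ C := by
    intro x hx hxx
    rw [← hf] at hx
    obtain ⟨j | j, rfl⟩ := hx
    · exact haC j
    · refine absurd ?_ hxx
      rw [← map_mul, ← sq, xa_sq]
      exact (hker _).mpr (Or.inr rfl)
  have hmaps : ∀ x ∈ C, g * x * g⁻¹ ∈ C := by
    have h1 : g * f (a 1) * g⁻¹ ∈ C := by
      refine hbig _ ((Subgroup.mem_normalizer_iff.mp hg _).mp (hCS (Subgroup.mem_zpowers _))) ?_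
      rw [show g * f (a 1) * g⁻¹ * (g * f (a 1) * g⁻¹) = g * (f (a 1) * f (a 1)) * g⁻¹ by group]
      exact fun h => hsq (conj_eq_one_iff.mp h)
    rintro x ⟨i, rfl⟩
    show g * f (a 1) ^ i * g⁻¹ ∈ C
    rw [show g * f (a 1) ^ i * g⁻¹ = (g * f (a 1) * g⁻¹) ^ i from conj_zpow.symm]
    exact zpow_mem h1 i
  have hgC : g ∈ Subgroup.normalizer (C : Set G) := by
    rw [Subgroup.mem_normalizer_iff_map_conj_eq]
    refine Subgroup.eq_of_le_of_card_ge ?_
      (Subgroup.card_map_of_injective (MulAut.conj g).injective).ge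
    rintro _ ⟨y, hy, rfl⟩
    simpa using hmaps y hy
  haveI : IsCyclic C := inferInstanceAs (IsCyclic (Subgroup.zpowers _))
  have hcen := Subgroup.mem_centralizer_iff.mp
    (TwoFusionB.mem_centralizer_of_isCyclic_two (hp.to_le hCS) hgC hodd)
  have key : ∀ x ∈ S, Commute g x := by
    intro x hx
    by_cases hxC : x ∈ C
    · exact (hcen x hxC).symm
    have hgx := (Subgroup.mem_normalizer_iff.mp hg x).mp hx
    obtain ⟨z, hz⟩ := hf.ge hx
    obtain ⟨w, hw⟩ := hf.ge hgx
    rcases z with i | i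
    · exact absurd (hz ▸ haC i) hxC
    rcases w with j | j
    · exfalso
      have hgx' : g * x * g⁻¹ ∈ C := hw ▸ haC j
      exact hxC ((Subgroup.mem_normalizer_iff.mp hgC x).mpr hgx')
    have hc : g * x * g⁻¹ * x⁻¹ ∈ C := by
      rw [← hw, ← hz, ← map_inv, ← map_mul]
      show f (xa j * xa ((n : ZMod (2 * n)) + i)) ∈ C
      rw [xa_mul_xa]
      exact haC _
    have hcS : g * x * g⁻¹ * x⁻¹ ∈ S := hCS hc
    refine OddLocal43.commute_of_stab (c := g * x * g⁻¹ * x⁻¹) (hcen _ hc).symm (by group) ?_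
    obtain ⟨t, ht⟩ := IsPGroup.iff_orderOf.mp hp ⟨_, hcS⟩
    rw [Subgroup.orderOf_mk] at ht
    rw [ht]
    exact Nat.Coprime.pow_right t (Nat.coprime_two_right.2 hodd)
  exact fun x hx => key x hx

variable {F : Type*} [Field F] [Fintype F]

theorem two_ne_zero_of_odd (hodd : Fintype.card F % 2 = 1) : (2 : F) ≠ 0 :=
  Ring.two_ne_zero fun e2 => by
    have := FiniteField.even_card_of_char_two e2
    omega

theorem exists_conj_involution (h2 : (2 : F) ≠ 0)
    (u v : Matrix.ProjectiveSpecialLinearGroup (Fin 2) F) (hu : orderOf u = 2) (hv : orderOf v = 2) :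
    ∃ g, g * u * g⁻¹ = v := by
  obtain ⟨x, rfl, hx⟩ := CG26.exists_lift_sq h2 hu
  obtain ⟨y, rfl, hy⟩ := CG26.exists_lift_sq h2 hv
  obtain ⟨g, rfl⟩ := CG26.exists_conj_jj h2 x hx
  obtain ⟨h, rfl⟩ := CG26.exists_conj_jj h2 y hy
  refine ⟨QuotientGroup.mk (h * g⁻¹), ?_⟩
  rw [← QuotientGroup.mk_inv, ← QuotientGroup.mk_mul, ← QuotientGroup.mk_mul]
  congr 1
  group

theorem exists_quaternion_cover (hodd : Fintype.card F % 2 = 1)
    (h16 : 16 ∣ Fintype.card F ^ 2 - 1)
    (S : Sylow 2 (Matrix.ProjectiveSpecialLinearGroup (Fin 2) F)) :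
    ∃ (n : ℕ) (_ : NeZero n) (f : QuaternionGroup n →* Matrix.ProjectiveSpecialLinearGroup (Fin 2) F),
      3 ≤ n ∧ f.range = (S : Subgroup _) ∧
      ∀ z, f z = 1 ↔ z = 1 ∨ z = a (n : ZMod (2 * n)) := by
  haveI : Fact (Nat.Prime 2) := ⟨Nat.prime_two⟩
  have h2 := two_ne_zero_of_odd hodd
  have hodd' : Odd (Nat.card F) := by rw [Nat.card_eq_fintype_card, Nat.odd_iff]; exact hodd
  set π := QuotientGroup.mk' (Subgroup.center (Matrix.SpecialLinearGroup (Fin 2) F)) with hπdef
  have hπ : Function.Surjective π := QuotientGroup.mk'_surjective _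
  obtain ⟨R, hR⟩ := Sylow.mapSurjective_surjective hπ 2 S
  obtain ⟨k, hk, ⟨e⟩⟩ := LinearGroup.quaternion_sylow_SL_two hodd' R
  haveI : NeZero (2 ^ k) := ⟨by positivity⟩
  have hk2 : 2 ≤ k := by
    have hdvd : 2 ^ 4 ∣ Nat.card (Matrix.SpecialLinearGroup (Fin 2) F) := by
      rw [LinearGroup.card_SL_two, Nat.card_eq_fintype_card]
      exact Dvd.dvd.mul_left h16 _
    have h4 : 2 ^ 4 ≤ Nat.card R := by
      refine Nat.le_of_dvd Nat.card_pos ?_
      rw [R.card_eq_multiplicity]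
      exact pow_dvd_pow 2
        ((Nat.prime_two.pow_dvd_iff_le_factorization Nat.card_pos.ne').mp hdvd)
    rw [Nat.card_congr e.toEquiv, Nat.card_eq_fintype_card, QuaternionGroup.card] at h4
    by_contra hlt
    have hk1 : k = 1 := by omega
    subst hk1
    norm_num at h4
  let φ : QuaternionGroup (2 ^ k) →* Matrix.SpecialLinearGroup (Fin 2) F :=
    (R : Subgroup (Matrix.SpecialLinearGroup (Fin 2) F)).subtype.comp e.symm.toMonoidHom
  have hφ : Function.Injective φ := (Subgroup.subtype_injective _).comp e.symm.injective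
  have hφr : φ.range = (R : Subgroup (Matrix.SpecialLinearGroup (Fin 2) F)) := by
    ext y
    exact ⟨fun ⟨z, hz⟩ => hz ▸ (e.symm z).2, fun hy => ⟨e ⟨y, hy⟩, by simp [φ]⟩⟩
  have hneg : φ (a ((2 ^ k : ℕ) : ZMod (2 * 2 ^ k))) = -1 := by
    apply Subtype.ext
    rw [LinearGroup.eq_neg_one_of_sq_eq_one h2 _ ?_ ?_]
    · simp
    · rw [← map_mul, a_mul_a, ← Nat.cast_add, ← two_mul, ZMod.natCast_self, a_zero, map_one]
    · intro h
      have h' := hφ (h.trans φ.map_one.symm)
      rw [one_def, QuaternionGroup.a.injEq, ZMod.natCast_eq_zero_iff] at h'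
      have := Nat.le_of_dvd (by positivity) h'
      have := Nat.two_pow_pos k
      omega
  refine ⟨2 ^ k, inferInstance, π.comp φ, ?_, ?_, fun z => ?_⟩
  · calc 3 ≤ 2 ^ 2 := by norm_num
      _ ≤ 2 ^ k := Nat.pow_le_pow_right (by norm_num) hk2
  · rw [MonoidHom.range_comp, hφr, ← hR, Sylow.coe_mapSurjective]
  · rw [MonoidHom.comp_apply, hπdef, QuotientGroup.mk'_apply, QuotientGroup.eq_one_iff,
      CG26.central_eq_two h2, ← hneg, ← φ.map_one, hφ.eq_iff, hφ.eq_iff]

theorem isSimple (hodd : Fintype.card F % 2 = 1) (h16 : 16 ∣ Fintype.card F ^ 2 - 1)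
    (S : Sylow 2 (Matrix.ProjectiveSpecialLinearGroup (Fin 2) F)) :
    (Cfsg.groupFusionSystem (S : Subgroup (Matrix.ProjectiveSpecialLinearGroup (Fin 2) F))).IsSimple 2 := by
  haveI : Fact (Nat.Prime 2) := ⟨Nat.prime_two⟩
  obtain ⟨n, hn0, f, hn, hf, hker⟩ := exists_quaternion_cover hodd h16 S
  refine Fusion91.groupFusion_simple_local 2 S ?_
    (noClosed_of_quaternion S.isPGroup' f hf hker (exists_conj_involution (two_ne_zero_of_odd hodd)))
    fun g hg => Fusion91.exists_inner_of_oddNormCentral rfl S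
      (oddNormCentral_of_quaternion S.isPGroup' hn f hf hker) hg
  intro hb
  have h1 : f (xa 0) = 1 := by
    rw [← Subgroup.mem_bot, ← hb, ← hf]; exact ⟨_, rfl⟩
  rcases (hker _).mp h1 with h | h
  · rw [one_def] at h; cases h
  · cases h

end Cfsg.Agent.Fus93.PSLTwo
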