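import Cfsg.Agent.Lib.PGroup.Basic
import Cfsg.Agent.Fus93.Generation

/-!
Automorphisms stabilizing a series, automorphisms of coprime order fixing the small elements, and
criteria for normality in a saturated fusion system.
-/

set_option autoImplicit false

namespace Cfsg.Agent.Fus93

open scoped commutatorElement

section Group

variable {P : Type*} [Group P] {p : ℕ}

/-- If `x⁻¹ α x = c` is fixed then `α ^ m x = x c ^ m`. -/
theorem pow_apply_of_fixed {α : MulAut P} {x c : P} (hx : α x = x * c) (hc : α c = c) (m : ℕ) :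
    (α ^ m) x = x * c ^ m := by
  induction m with
  | zero => simp
  | succ m ih => rw [pow_succ', MulAut.mul_apply, ih, map_mul, map_pow, hc, hx, pow_succ', mul_assoc]

/-- A fixed difference of an automorphism of order prime to `p` of a `p`-group is trivial. -/
theorem eq_self_of_fixed [Finite P] [Fact p.Prime] (hP : IsPGroup p P) {α : MulAut P}
    (hα : (orderOf α).Coprime p) (x : P) (hc : α (x⁻¹ * α x) = x⁻¹ * α x) : α x = x := by
  have h := pow_apply_of_fixed (x := x) (by simp) hc (orderOf α)
  rw [pow_orderOf_eq_one, MulAut.one_apply, left_eq_mul] at h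
  exact (inv_mul_eq_one.mp (PGroup.eq_one_of_pow_coprime hP hα.symm h)).symm

/-- An automorphism of order prime to `p` of a `p`-group fixing the elements of order dividing `p`
(and those of order dividing `4` if `p = 2`) is trivial. -/
theorem eq_one_of_fixes_small [Finite P] [Fact p.Prime] (hP : IsPGroup p P) {α : MulAut P}
    (hα : (orderOf α).Coprime p) (h : ∀ x : P, x ^ p = 1 ∨ (p = 2 ∧ x ^ 4 = 1) → α x = x) :
    α = 1 := by
  suffices key : ∀ (n : ℕ) (W : Subgroup P), Nat.card W ≤ n → (∀ x ∈ W, α x ∈ W) →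
      ∀ x ∈ W, α x = x from MulEquiv.ext fun x => key _ ⊤ le_rfl (fun _ _ => trivial) x trivial
  intro n
  induction n with
  | zero => exact fun W hn => absurd hn (Nat.not_le.mpr Nat.card_pos)
  | succ n ih =>
    intro W hn hW x hx
    have hlt : ∀ V : Subgroup P, V < W → Nat.card V ≤ n := fun V hV => by
      have h1 := Subgroup.card_le_of_le hV.le
      have h2 : Nat.card V ≠ Nat.card W := fun he => hV.ne (Subgroup.eq_of_le_of_card_ge hV.le he.ge)
      omega
    let D : Subgroup P := Subgroup.closure {c | ∃ y ∈ W, c = y⁻¹ * α y}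
    have hDW : D ≤ W := (Subgroup.closure_le _).mpr fun c ⟨y, hy, hc⟩ =>
      hc ▸ mul_mem (inv_mem hy) (hW y hy)
    have hDinv : ∀ c ∈ D, α c ∈ D := by
      have : D ≤ D.comap α.toMonoidHom := (Subgroup.closure_le _).mpr fun c ⟨y, hy, hc⟩ =>
        Subgroup.subset_closure ⟨α y, hW y hy, by simp [hc]⟩
      exact fun c hc => this hc
    by_cases hD : D = W
    swap
    · refine eq_self_of_fixed hP hα x ?_
      exact ih D (hlt D (lt_of_le_of_ne hDW hD)) hDinv _ (Subgroup.subset_closure ⟨x, hx, rfl⟩)
    by_cases hWb : W = ⊥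
    · rw [hWb, Subgroup.mem_bot] at hx; rw [hx, map_one]
    let Φ : Subgroup P := (frattini W).map W.subtype
    have hΦW : Φ < W := by
      refine lt_of_le_of_ne (Subgroup.map_subtype_le _) fun he => hWb ?_
      haveI : Nontrivial W := (Subgroup.nontrivial_iff_ne_bot W).mpr hWb
      have h1 : frattini W = ⊤ := by
        refine eq_top_iff.mpr fun w _ => ?_
        obtain ⟨v, hv, hvw⟩ := he.ge w.2
        rwa [show w = v from Subtype.ext hvw.symm]
      exact absurd (frattini_nongenerating (K := (⊥ : Subgroup W)) (by rw [h1, bot_sup_eq])) bot_ne_top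
    let αW : MulAut W :=
      MulEquiv.ofBijective ((α.toMonoidHom.comp W.subtype).codRestrict W fun w => hW w w.2)
        (Finite.injective_iff_bijective.mp fun a b hab =>
          Subtype.ext (α.injective (congrArg Subtype.val hab)))
    have hΦinv : ∀ y ∈ Φ, α y ∈ Φ := by
      rintro _ ⟨v, hv, rfl⟩
      refine ⟨αW v, ?_, rfl⟩
      have := Subgroup.characteristic_iff_map_le.mp (inferInstance : (frattini W).Characteristic) αW
      exact this ⟨v, hv, rfl⟩
    have hΦfix := ih Φ (hlt Φ hΦW) hΦinv
    -- `Φ` is central in `W = D`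
    have hcen : ∀ y ∈ Φ, ∀ w ∈ W, Commute y w := by
      intro y hy w hw
      have hle : D ≤ Subgroup.centralizer (Φ : Set P) := by
        refine (Subgroup.closure_le _).mpr fun c ⟨z, hz, hc⟩ => Subgroup.mem_centralizer_iff.mpr ?_
        intro u hu
        have h1 : z * u * z⁻¹ ∈ Φ := by
          obtain ⟨v, hv, rfl⟩ := hu
          exact ⟨⟨z, hz⟩ * v * ⟨z, hz⟩⁻¹, Subgroup.Normal.conj_mem inferInstance v hv _, rfl⟩
        have h2 := hΦfix _ h1
        simp only [map_mul, map_inv, hΦfix u hu] at h2
        subst hc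
        calc u * (z⁻¹ * α z) = z⁻¹ * (z * u * z⁻¹) * α z := by group
          _ = z⁻¹ * (α z * u * (α z)⁻¹) * α z := by rw [h2]
          _ = z⁻¹ * α z * u := by group
      exact Subgroup.mem_centralizer_iff.mp (hle (hD ▸ hw)) y hy
    have hWp : IsPGroup p W := hP.to_subgroup W
    have hpow : ∀ w ∈ W, w ^ p ∈ Φ := fun w hw => ⟨_, PGroup.pow_mem_frattini hWp ⟨w, hw⟩, rfl⟩
    have hcomm : ∀ a ∈ W, ∀ b ∈ W, ⁅a, b⁆ ∈ Φ := fun a ha b hb =>
      ⟨_, PGroup.comm_mem_frattini hWp ⟨a, ha⟩ ⟨b, hb⟩, rfl⟩
    -- the difference `c` has small order, hence is fixed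
    set c := x⁻¹ * α x
    have hcW : c ∈ W := mul_mem (inv_mem hx) (hW x hx)
    have hαx : α x = x * c := by simp [c]
    set k := ⁅c, x⁆
    have hkΦ : k ∈ Φ := hcomm c hcW x hx
    have hsw : c * x = k * (x * c) := by simp [k, commutatorElement_def, mul_assoc]
    have hkp : k ^ p = 1 := by
      have hcp : ∀ m : ℕ, c ^ m * x = k ^ m * (x * c ^ m) := by
        intro m
        induction m with
        | zero => simp
        | succ m ihm =>
          have h2 : Commute c (k ^ m) := ((hcen k hkΦ c hcW).pow_left m).symm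
          calc c ^ (m + 1) * x = c * (c ^ m * x) := by rw [pow_succ', mul_assoc]
            _ = (c * k ^ m) * (x * c ^ m) := by rw [ihm]; group
            _ = k ^ m * (c * x) * c ^ m := by rw [h2.eq]; group
            _ = k ^ m * (k * (x * c)) * c ^ m := by rw [hsw]
            _ = k ^ (m + 1) * (x * c ^ (m + 1)) := by rw [pow_succ k, pow_succ' c]; group
      have h1 := hcp p
      rw [(hcen _ (hpow c hcW) x hx).eq] at h1
      exact (mul_eq_right.mp h1.symm)
    have hcls : ∀ m : ℕ, (x * c) ^ m = k ^ (m * (m - 1) / 2) * (x ^ m * c ^ m) := by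
      intro m
      induction m with
      | zero => simp
      | succ m ihm =>
        have hkx : ∀ (i : ℕ) (w : P), w ∈ W → Commute (k ^ i) w := fun i w hw =>
          (hcen k hkΦ w hw).pow_left i
        have hcmx : ∀ i : ℕ, c ^ i * x = k ^ i * (x * c ^ i) := by
          intro i
          induction i with
          | zero => simp
          | succ i ihi =>
            calc c ^ (i + 1) * x = c * (c ^ i * x) := by rw [pow_succ', mul_assoc]
              _ = (c * k ^ i) * (x * c ^ i) := by rw [ihi]; group
              _ = k ^ i * (c * x) * c ^ i := by rw [← (hkx i c hcW).eq]; group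
              _ = k ^ i * (k * (x * c)) * c ^ i := by rw [hsw]
              _ = k ^ (i + 1) * (x * c ^ (i + 1)) := by rw [pow_succ k, pow_succ' c]; group
        have harith : (m + 1) * (m + 1 - 1) / 2 = m * (m - 1) / 2 + m := by
          cases m with
          | zero => rfl
          | succ j =>
            simp only [Nat.add_sub_cancel]
            rw [show (j + 1 + 1) * (j + 1) = (j + 1) * j + (j + 1) * 2 by ring,
              Nat.add_mul_div_right _ _ two_pos]
        calc (x * c) ^ (m + 1) = k ^ (m * (m - 1) / 2) * (x ^ m * (c ^ m * x) * c) := by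
              rw [pow_succ, ihm]; group
          _ = k ^ (m * (m - 1) / 2) * (x ^ m * (k ^ m * (x * c ^ m)) * c) := by rw [hcmx]
          _ = k ^ (m * (m - 1) / 2) * ((x ^ m * k ^ m) * (x * c ^ m) * c) := by group
          _ = k ^ (m * (m - 1) / 2) * ((k ^ m * x ^ m) * (x * c ^ m) * c) := by
              rw [(hkx m (x ^ m) (pow_mem hx m)).eq]
          _ = k ^ (m * (m - 1) / 2 + m) * (x ^ (m + 1) * c ^ (m + 1)) := by
              rw [pow_add, pow_succ x, pow_succ c]; group
          _ = _ := by rw [harith]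
    refine eq_self_of_fixed hP hα x (h c ?_)
    by_cases hp2 : p = 2
    · refine Or.inr ⟨hp2, ?_⟩
      subst hp2
      have h4 : (x * c) ^ 4 = x ^ 4 := by
        rw [← hαx, ← map_pow]
        refine hΦfix _ ?_
        rw [show 4 = 2 * 2 by rfl, pow_mul]
        exact hpow _ (pow_mem hx 2)
      rw [hcls, show 4 * (4 - 1) / 2 = 2 * 3 by rfl, pow_mul k, hkp, one_pow, one_mul] at h4
      exact mul_eq_left.mp h4
    · refine Or.inl ?_
      have h4 : (x * c) ^ p = x ^ p := by
        rw [← hαx, ← map_pow]; exact hΦfix _ (hpow x hx)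
      have hodd : p * (p - 1) / 2 = p * ((p - 1) / 2) := by
        obtain ⟨j, hj⟩ := ((Fact.out : p.Prime).eq_two_or_odd').resolve_left hp2
        subst hj
        rw [Nat.mul_div_assoc]; exact ⟨j, by omega⟩
      rw [hcls, hodd, pow_mul, hkp, one_pow, one_mul] at h4
      exact mul_eq_left.mp h4

/-- The automorphisms in `A` stabilizing an invariant series form part of `O_p(A)`, provided the
elements of order prime to `p` fixing the top of the series are trivial. -/
theorem stabilizer_mem_pCore [Finite P] [Fact p.Prime] (hP : IsPGroup p P) (A : Subgroup (MulAut P))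
    (n : ℕ) (W : ℕ → Subgroup P) (h0 : W 0 = ⊥)
    (hinv : ∀ α ∈ A, ∀ i ≤ n, ∀ x ∈ W i, α x ∈ W i)
    (hkill : ∀ β ∈ A, (orderOf β).Coprime p → (∀ x ∈ W n, β x = x) → β = 1)
    (α : A) (hα : ∀ i < n, ∀ x ∈ W (i + 1), x⁻¹ * (α : MulAut P) x ∈ W i) :
    α ∈ pCore p A := by
  let K : Subgroup A :=
    { carrier := {β | ∀ i < n, ∀ x ∈ W (i + 1), x⁻¹ * (β : MulAut P) x ∈ W i}
      one_mem' := fun i _ x _ => by simp
      mul_mem' := fun {a b} ha hb i hi x hx => by
        have h1 := hb i hi x hx
        have h2 := hinv _ a.2 i hi.le _ h1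
        have h3 := ha i hi x hx
        show x⁻¹ * (a : MulAut P) ((b : MulAut P) x) ∈ W i
        have h4 := mul_mem h3 h2
        simpa [map_mul, mul_assoc] using h4
      inv_mem' := fun {a} ha i hi x hx => by
        set y := ((a⁻¹ : A) : MulAut P) x
        have hy : y ∈ W (i + 1) := hinv _ (a⁻¹).2 _ hi x hx
        have h1 : y⁻¹ * x ∈ W i := by
          have h2 := ha i hi y hy
          simpa [y] using h2
        show x⁻¹ * y ∈ W i
        simpa using inv_mem h1 }
  haveI : Finite (MulAut P) := Finite.of_injective _ DFunLike.coe_injective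
  have hK : K.Normal := ⟨fun a ha b i hi x hx => by
    set y := ((b⁻¹ : A) : MulAut P) x
    have hy : y ∈ W (i + 1) := hinv _ (b⁻¹).2 _ hi x hx
    have h2 := hinv _ b.2 i hi.le _ (ha i hi y hy)
    show x⁻¹ * (b : MulAut P) ((a : MulAut P) (((b⁻¹ : A) : MulAut P) x)) ∈ W i
    simpa [y] using h2⟩
  have hKp : IsPGroup p K := by
    intro a
    obtain ⟨e, he⟩ := IsPGroup.iff_card.mp hP
    have hfix : ∀ i ≤ n, ∀ x ∈ W i, (((a : A) : MulAut P) ^ (Nat.card P ^ i)) x = x := by
      intro i
      induction i with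
      | zero =>
        intro _ x hx
        rw [h0, Subgroup.mem_bot] at hx
        simp [hx]
      | succ i ih =>
        intro hi x hx
        set γ := ((a : A) : MulAut P) ^ (Nat.card P ^ i) with hγ
        have hmem : (a : A) ^ (Nat.card P ^ i) ∈ K := K.pow_mem a.2 _
        have hc : x⁻¹ * γ x ∈ W i := by
          have h1 := hmem i hi x hx
          simpa [γ] using h1
        have hfixc : γ (x⁻¹ * γ x) = x⁻¹ * γ x := ih (by omega) _ hc
        have h1 := pow_apply_of_fixed (α := γ) (x := x) (c := x⁻¹ * γ x) (by simp) hfixc (Nat.card P)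
        rw [pow_card_eq_one', mul_one] at h1
        rwa [pow_succ, pow_mul]
    set N := Nat.card P ^ n
    set o := orderOf ((((a : A) : MulAut P)) ^ N) with ho
    obtain ⟨s, m, hm, hsm⟩ := Nat.exists_eq_pow_mul_and_not_dvd (orderOf_pos (((a : A) : MulAut P) ^ N)).ne'
      p (Fact.out : p.Prime).ne_one
    have hone : (((a : A) : MulAut P) ^ N) ^ (p ^ s) = 1 := by
      refine hkill _ (A.pow_mem (A.pow_mem (a : A).2 _) _) ?_ fun x hx => ?_
      · rw [orderOf_pow_of_dvd (pow_ne_zero _ (Fact.out : p.Prime).ne_zero) ⟨m, hsm⟩, hsm,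
          Nat.mul_div_cancel_left _ (pow_pos (Fact.out : p.Prime).pos s)]
        exact ((Fact.out : p.Prime).coprime_iff_not_dvd.mpr hm).symm
      · have hf := hfix n le_rfl x hx
        have := pow_apply_of_fixed (α := ((a : A) : MulAut P) ^ N) (x := x) (c := 1) (by simpa using hf) (map_one _) (p ^ s)
        simpa using this
    refine ⟨e * n + s, Subtype.ext (Subtype.ext ?_)⟩
    show ((a : A) : MulAut P) ^ p ^ (e * n + s) = 1
    rw [pow_add, pow_mul, pow_mul p e n, ← he]
    exact hone
  exact Thompson.le_pCore hK hKp hα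

end Group

end Cfsg.Agent.Fus93
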