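import Cfsg.Agent.Fus93.Hyperfocal
import Cfsg.Agent.Lib.Fusion.SubSat
import Cfsg.Agent.Fus93.Stabilizer
import Cfsg.Agent.S1949

/-!
Small abelian subgroups of the hyperfocal subgroup control fusion.
-/

set_option autoImplicit false

namespace Cfsg.Agent.Fus93

open Cfsg Cfsg.Agent.Fusion
open Cfsg.FusionSystem (normalizerIn centralizerIn)

variable {Ω : Type*} [Group Ω] {S : Subgroup Ω} {F : FusionSystem S} {p : ℕ}

/-- Abelian of small exponent. -/
def IsSmallAbelian (p : ℕ) (A : Subgroup Ω) : Prop :=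
  (∀ a ∈ A, ∀ b ∈ A, a * b = b * a) ∧ ∀ a ∈ A, a ^ p = 1 ∨ (p = 2 ∧ a ^ 4 = 1)

/-- Acting on `X` as an element of `N_S(X)`. -/
def InnCond (S X : Subgroup Ω) (f : Ω → Ω) : Prop :=
  ∃ g ∈ normalizerIn S X, ∀ x ∈ X, f x = g * x * g⁻¹

theorem isQCond_innCond (X : Subgroup Ω) : IsQCond X (InnCond S X) where
  congr := fun ⟨g, hg, h⟩ hfg => ⟨g, hg, fun x hx => (hfg hx).symm.trans (h x hx)⟩
  image := fun ⟨g, hg, h⟩ => (Set.image_congr h).trans (image_conj_eq_self hg.2)
  id_mem := ⟨1, one_mem _, fun x _ => by simp⟩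
  comp := fun ⟨g, hg, h⟩ ⟨k, hk, h'⟩ => ⟨k * g, mul_mem hk hg, fun x hx => by
    rw [Function.comp_apply, h x hx, h' _ (conj_mem_of_mem_normalizer hg.2 hx)]; group⟩
  inv := fun {f f'} ⟨g, hg, h⟩ hl => ⟨g⁻¹, inv_mem hg, fun x hx => by
    have hx' : g⁻¹ * x * g ∈ X := by
      have := conj_mem_of_mem_normalizer (inv_mem hg.2) hx
      rwa [inv_inv] at this
    have h1 := hl _ hx'
    rw [h _ hx'] at h1
    rw [inv_inv, ← h1]
    congr 1
    group⟩

/-- The maps acting on `X` as elements of `N_S(X)`. -/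
noncomputable def innSystem (F : FusionSystem S) (X : Subgroup Ω) (hX : X ≤ S) :
    FusionSystem (normalizerIn S X) :=
  mkSub F (normalizerIn S X)
    (fun P f => IsMap F P f ∧ P ≤ normalizerIn S X ∧ (∀ x ∈ P, f x ∈ normalizerIn S X) ∧
      ∃ f', IsMap F (P ⊔ X) f' ∧ Set.EqOn f' f P ∧ InnCond S X f')
    (fun {P f g} h hfg => ⟨h.1.congr hfg, h.2.1, fun x hx => hfg hx ▸ h.2.2.1 x hx, by
      obtain ⟨f', h1, h2, h3⟩ := h.2.2.2
      exact ⟨f', h1, h2.trans hfg, h3⟩⟩)
    (fun h => ⟨h.1, h.2.1, h.2.2.1⟩)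
    (fun {P g} hP hg => ⟨isMap_conj (hP.trans inf_le_left) hg.1, hP,
      fun x hx => Subgroup.mul_mem _ (Subgroup.mul_mem _ hg (hP hx)) (Subgroup.inv_mem _ hg),
      _, isMap_conj (sup_le (hP.trans inf_le_left) hX) hg.1, fun _ _ => rfl, g, hg, fun _ _ => rfl⟩)
    (fun {P Q f g} hf hg h => ⟨hf.1.comp hg.1 h, hf.2.1, fun x hx => hg.2.2.1 _ (h x hx), by
      obtain ⟨f', h1, h2, h3⟩ := hf.2.2.2
      obtain ⟨g', k1, k2, k3⟩ := hg.2.2.2
      refine ⟨g' ∘ f', h1.comp k1 (isMap_mem_sup h1 le_sup_left le_sup_right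
        (fun x hx => Subgroup.mem_sup_left (h2 hx ▸ h x hx))
        (fun x hx => Subgroup.mem_sup_right ((isQCond_innCond X).mem h3 hx))), fun x hx => ?_,
        (isQCond_innCond X).comp h3 k3⟩
      rw [Function.comp_apply, h2 hx, k2 (h x hx), Function.comp_apply]⟩)
    (fun {P Q f g} hf hi hg hgl => ⟨hg.1, fun y hy => by
        obtain ⟨x, hx, rfl⟩ := hi.exists_preimage hy
        exact hf.2.2.1 x hx,
      fun y hy => hf.2.1 (hg.mem hy), by
      obtain ⟨f', h1, h2, h3⟩ := hf.2.2.2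
      obtain ⟨k, hk, hkl, -⟩ := (IsIso.sup h1 ((Set.image_congr h2).trans hi.2)
        ((isQCond_innCond X).image h3)).exists_inv
      refine ⟨k, hk.1, fun y hy => ?_, (isQCond_innCond X).inv h3 fun x hx => hkl x (le_sup_right (a := P) hx)⟩
      obtain ⟨x, hx, rfl⟩ := hi.exists_preimage hy
      rw [← h2 hx, hkl x (le_sup_left (b := X) hx), h2 hx, hgl x hx]⟩)

theorem isMap_innSystem {X P : Subgroup Ω} {hX : X ≤ S} {f : Ω → Ω} :
    IsMap (innSystem F X hX) P f ↔ IsMap F P f ∧ P ≤ normalizerIn S X ∧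
      (∀ x ∈ P, f x ∈ normalizerIn S X) ∧
      ∃ f', IsMap F (P ⊔ X) f' ∧ Set.EqOn f' f P ∧ InnCond S X f' :=
  isMap_mkSub

theorem innSystem_isSaturated [Finite S] [Fact p.Prime] (hS : IsPGroup p S) (hF : F.IsSaturated p)
    {X : Subgroup Ω} (hX : F.IsFullyNormalized X) : (innSystem F X hX.1).IsSaturated p := by
  refine qSystem_isSaturated hS hF hX.1 (isQCond_innCond X) (fun g => ?_) ?_ _ fun P f => isMap_innSystem
  · exact ⟨fun h => ⟨h.1, g, h, fun _ _ => rfl⟩,
      fun h => ⟨h.1, mem_normalizer_of_qCond (isQCond_innCond X) h.2⟩⟩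
  intro Q₁ φ hφ M hM hMQ
  have hrec := receptive_of_fullyNormalized hS hF hX
  obtain ⟨χ₀, hχ₀, hχ₀i, hχ₀N⟩ := exists_normalizer_map hS (fullyAutomized_of_fullyNormalized hS hF hX)
    hrec (isConj_symm hφ.isConj)
  have hMN : M ≤ normalizerIn S Q₁ := fun g hg => ⟨hM hg, (hMQ g hg).1⟩
  obtain ⟨M', hM'⟩ := (hχ₀.mono hMN).exists_image
  obtain ⟨bi, hbi, hbil, -⟩ := (hφ.comp hχ₀i).exists_inv
  have hMe : IsExtendable S X bi M' := by
    refine ⟨hM'.cod_le, fun y hy => ?_⟩
    obtain ⟨g, hg, rfl⟩ := hM'.exists_preimage hy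
    refine ⟨(hχ₀N g (hMN hg)).2, ?_⟩
    obtain ⟨-, c, hc, hcg⟩ := hMQ g hg
    obtain ⟨h, hh, hce⟩ := id hc
    refine ⟨h, hh.1, fun y hy => ?_⟩
    obtain ⟨x, hx, rfl⟩ := (hφ.comp hχ₀i).exists_preimage hy
    have hφx : φ x ∈ normalizerIn S Q₁ := le_normalizerIn hφ.cod_le (hφ.mem hx)
    have hcx := (isQCond_innCond X).mem hc hx
    have e : χ₀ g * (χ₀ ∘ φ) x * (χ₀ g)⁻¹ = (χ₀ ∘ φ) (c x) := by
      rw [Function.comp_apply, Function.comp_apply, hcg x hx, ← hχ₀.map_conj (hMN hg) hφx]
    rw [e, hbil _ hcx, hbil x hx, hce x hx]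
  obtain ⟨bi', hbi', hbe⟩ := receptive_extend hrec hbi hMe
  have hQN : Q₁ ≤ normalizerIn S Q₁ := le_normalizerIn hφ.cod_le
  refine ⟨bi' ∘ χ₀, (hχ₀.mono (sup_le hQN hMN)).comp hbi' (isMap_mem_sup (hχ₀.mono (sup_le hQN hMN))
    le_sup_left le_sup_right (fun x hx => Subgroup.mem_sup_left (hχ₀i.mem hx))
    fun x hx => Subgroup.mem_sup_right (hM'.mem hx)), ?_⟩
  refine (isQCond_innCond X).congr (isQCond_innCond X).id_mem fun x hx => ?_
  show x = bi' (χ₀ (φ x))
  rw [hbe (hχ₀i.mem (hφ.mem hx))]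
  exact (hbil x hx).symm

/-- The hyperfocal subgroup of `innSystem F X` centralizes `X` and lies in that of `F`. -/
theorem hyperfocal_innSystem [Finite S] [Fact p.Prime] (hS : IsPGroup p S) {X : Subgroup Ω} (hX : X ≤ S) :
    ∀ y ∈ (innSystem F X hX).hyperfocalSubgroup p,
      y ∈ F.hyperfocalSubgroup p ∧ ∀ x ∈ X, x * y = y * x := by
  set M := innSystem F X hX
  suffices h : M.hyperfocalSubgroup p ≤ F.hyperfocalSubgroup p ⊓ Subgroup.centralizer (X : Set Ω) from
    fun y hy => ⟨(h hy).1, fun x hx => Subgroup.mem_centralizer_iff.mp (h hy).2 x hx⟩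
  refine (Subgroup.closure_le _).mpr ?_
  rintro _ ⟨R, α, u, hR, hα, rfl⟩
  have hRS : R ≤ S := hR.trans inf_le_left
  haveI := finite_of_le hRS
  haveI : Finite (normalizerIn S X) := finite_of_le inf_le_left
  haveI := finite_autGroup (F := M) hR
  have hle : M.autGroup R ≤ F.autGroup R :=
    autGroup_mono (hom_subset_of_isMap fun f hf => (isMap_innSystem.mp hf).1)
  refine Subgroup.mem_inf.mpr ⟨?_, ?_⟩
  · refine Subgroup.subset_closure ⟨R, Subgroup.inclusion hle α, u, hRS, ?_, rfl⟩
    have h1 : pResidual p (M.autGroup R) ≤ (pResidual p (F.autGroup R)).comap (Subgroup.inclusion hle) :=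
      (Subgroup.closure_le _).mpr fun a ha => Subgroup.subset_closure (by
        show (orderOf (Subgroup.inclusion hle a)).Coprime p
        rw [orderOf_injective _ (Subgroup.inclusion_injective hle)]
        exact ha)
    exact h1 hα
  · let K : Subgroup (M.autGroup R) :=
      { carrier := {a | ∀ v : R, ∀ x ∈ X, x * ((v : Ω)⁻¹ * ((a : MulAut R) v : R)) =
          ((v : Ω)⁻¹ * ((a : MulAut R) v : R)) * x}
        one_mem' := fun v x _ => by simp
        mul_mem' := fun {a b} ha hb v x hx => by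
          show x * ((v : Ω)⁻¹ * ((a : MulAut R) ((b : MulAut R) v) : R)) =
            ((v : Ω)⁻¹ * ((a : MulAut R) ((b : MulAut R) v) : R)) * x
          have h1 : Commute x ((v : Ω)⁻¹ * ((b : MulAut R) v : R)) := hb v x hx
          have h2 : Commute x ((((b : MulAut R) v : R) : Ω)⁻¹ * ((a : MulAut R) ((b : MulAut R) v) : R)) :=
            ha _ x hx
          have h3 := (h1.mul_right h2).eq
          simpa [mul_assoc] using h3
        inv_mem' := fun {a} ha v x hx => by
          show x * ((v : Ω)⁻¹ * (((a : MulAut R).symm v : R) : Ω)) =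
            ((v : Ω)⁻¹ * (((a : MulAut R).symm v : R) : Ω)) * x
          have h1 : Commute x ((((a : MulAut R).symm v : R) : Ω)⁻¹ *
              ((a : MulAut R) ((a : MulAut R).symm v) : R)) := ha _ x hx
          rw [MulEquiv.apply_symm_apply] at h1
          simpa using h1.inv_right.eq }
    have hKres : pResidual p (M.autGroup R) ≤ K := by
      refine (Subgroup.closure_le _).mpr fun a ha v x hx => ?_
      obtain ⟨hm, -, -, f', hf', hfe, hfC⟩ := isMap_innSystem.mp ((mem_autGroup hR).mp a.2).1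
      obtain ⟨γ, -, hγe⟩ := (IsIso.sup hf' ((Set.image_congr hfe).trans (autFun_image _))
        ((isQCond_innCond X).image hfC)).exists_aut
      obtain ⟨g, hg, hgf⟩ := hfC
      have hγX : ∀ (n : ℕ) (z : ↥(R ⊔ X)), (z : Ω) ∈ X →
          (((γ ^ n) z : ↥(R ⊔ X)) : Ω) = g ^ n * z * (g ^ n)⁻¹ := by
        intro n
        induction n with
        | zero => intro z _; simp
        | succ n ih =>
          intro z hz
          have h1 : ((γ z : ↥(R ⊔ X)) : Ω) = g * z * g⁻¹ := by
            rw [← autFun_coe, hγe z.2, hgf _ hz]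
          rw [pow_succ, MulAut.mul_apply, ih _ (h1 ▸ conj_mem_of_mem_normalizer hg.2 hz), h1, pow_succ]
          group
      have hγR : ∀ (n : ℕ) (w : R), (((γ ^ n) (Subgroup.inclusion le_sup_left w) : ↥(R ⊔ X)) : Ω) =
          ((((a : MulAut R) ^ n) w : R) : Ω) := by
        intro n
        induction n with
        | zero => intro w; rfl
        | succ n ih =>
          intro w
          have h1 : γ (Subgroup.inclusion le_sup_left w) = Subgroup.inclusion le_sup_left ((a : MulAut R) w) :=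
            Subtype.ext (by
              rw [← autFun_coe, hγe (Subgroup.inclusion _ w).2]
              exact (hfe w.2).trans (autFun_coe _ w))
          rw [pow_succ, MulAut.mul_apply, h1, ih, pow_succ, MulAut.mul_apply]
      obtain ⟨e, he⟩ := hS ⟨g, hg.1⟩
      have he' : g ^ p ^ e = 1 := congrArg Subtype.val he
      obtain ⟨t, ht⟩ := exists_pow_eq_self_of_coprime (x := (a : MulAut R)) (n := p ^ e)
        (Nat.Coprime.pow_left e (by rw [Subgroup.orderOf_coe]; exact (show (orderOf a).Coprime p from ha).symm))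
      have hfixX : ∀ z : ↥(R ⊔ X), (z : Ω) ∈ X → ((γ ^ p ^ e) ^ t) z = z := fun z hz => by
        rw [← pow_mul]
        refine Subtype.ext ?_
        rw [hγX _ z hz, pow_mul, he', one_pow]
        group
      set γ' := (γ ^ p ^ e) ^ t
      have hv : γ' (Subgroup.inclusion le_sup_left v) = Subgroup.inclusion le_sup_left ((a : MulAut R) v) :=
        Subtype.ext (by rw [show γ' = γ ^ (p ^ e * t) from (pow_mul _ _ _).symm, hγR, pow_mul, ht]; rfl)
      have hxv : (v : Ω) * x * (v : Ω)⁻¹ ∈ X := conj_mem_of_mem_normalizer (hR v.2).2 hx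
      let v' : ↥(R ⊔ X) := Subgroup.inclusion le_sup_left v
      let x' : ↥(R ⊔ X) := ⟨x, Subgroup.mem_sup_right hx⟩
      have h1 : γ' (v' * x' * v'⁻¹) = v' * x' * v'⁻¹ := hfixX _ hxv
      rw [map_mul, map_mul, map_inv, hfixX x' hx, hv] at h1
      have h2 : (((a : MulAut R) v : R) : Ω) * x * (((a : MulAut R) v : R) : Ω)⁻¹ = (v : Ω) * x * (v : Ω)⁻¹ :=
        congrArg Subtype.val h1
      set w : Ω := (((a : MulAut R) v : R) : Ω)
      calc x * ((v : Ω)⁻¹ * w) = (v : Ω)⁻¹ * ((v : Ω) * x * (v : Ω)⁻¹) * w := by group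
        _ = (v : Ω)⁻¹ * (w * x * w⁻¹) * w := by rw [h2]
        _ = (v : Ω)⁻¹ * w * x := by group
    exact Subgroup.mem_centralizer_iff.mpr fun x hx => hKres hα u x hx

/-- The graphs of the maps of a system. -/
def mapSet {T : Subgroup Ω} (F : FusionSystem T) : Set (Set (Ω × Ω)) :=
  {s | ∃ P f, IsMap F P f ∧ s = (fun x => (x, f x)) '' (P : Set Ω)}

theorem finite_mapSet {T : Subgroup Ω} [Finite T] (F : FusionSystem T) : (mapSet F).Finite :=
  ((Set.toFinite (T : Set Ω)).prod (Set.toFinite (T : Set Ω))).powerset.subset fun s ⟨P, f, hf, hs⟩ => by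
    rintro ⟨a, b⟩ hab
    rw [hs] at hab
    obtain ⟨x, hx, he⟩ := hab
    cases he
    exact ⟨hf.dom_le hx, hf.apply_mem hx⟩

theorem isMap_of_graph {T : Subgroup Ω} {M : FusionSystem T} {P : Subgroup Ω} {f : Ω → Ω}
    (h : (fun x => (x, f x)) '' (P : Set Ω) ∈ mapSet M) : IsMap M P f := by
  obtain ⟨P', f', hf', he⟩ := h
  have h1 : (P : Set Ω) = (P' : Set Ω) := by
    have := congrArg (Set.image Prod.fst) he
    simpa [Set.image_image] using this
  obtain rfl : P = P' := SetLike.coe_injective h1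
  refine hf'.congr fun x hx => ?_
  have : (x, f' x) ∈ (fun x => (x, f x)) '' (P : Set Ω) := he ▸ ⟨x, hx, rfl⟩
  obtain ⟨y, -, hy⟩ := this
  obtain ⟨rfl, h2⟩ := Prod.mk.injEq .. ▸ hy
  exact h2.symm

/-- Small abelian subgroups of the hyperfocal subgroup control fusion. -/
theorem le_of_small_abelian [Fact p.Prime] : ∀ (n : ℕ) {S : Subgroup Ω} [Finite S], IsPGroup p S →
    ∀ (E F : FusionSystem S), E.IsSaturated p → F.IsSaturated p → E ≤ F → (mapSet F).ncard ≤ n →
      (∀ A : Subgroup Ω, A ≤ F.hyperfocalSubgroup p → IsSmallAbelian p A →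
        ∀ f, IsMap F A f → IsMap E A f) → F ≤ E := by
  intro n
  induction n using Nat.strong_induction_on with
  | _ n ih =>
    intro S _ hS E F hE hF hle hn h
    have key : ∀ P, F.IsFullyNormalized P → F.autGroup P ≤ E.autGroup P := by
      intro P hfn α hα
      have hPS := hfn.1
      haveI := finite_of_le hPS
      haveI := finite_autGroup (F := F) hPS
      obtain ⟨D, hDinv, hDle, hDsmall, -, -, hDA⟩ := S1949.result
        (hS.of_injective _ (Subgroup.inclusion_injective hPS)) (F.autGroup P) (inn_le_autGroup hPS)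
      obtain ⟨A, ⟨hAD, hAc⟩, hAmax⟩ := ({A : Subgroup P | A ≤ D ∧ IsMulCommutative A}).toFinite.exists_maximal
        ⟨⊥, bot_le, inferInstance⟩
      obtain ⟨hAn, hAfix⟩ := hDA A hAD hAc fun B hAB hBD hB => (le_antisymm (hAmax ⟨hBD, hB⟩ hAB) hAB)
      set X := A.map P.subtype
      have hXP : X ≤ P := Subgroup.map_subtype_le A
      have hXS := hXP.trans hPS
      have hDH : ∀ z ∈ D, (z : Ω) ∈ F.hyperfocalSubgroup p := by
        have hle' : D ≤ (F.hyperfocalSubgroup p).subgroupOf P := hDle.trans ((Subgroup.closure_le _).mpr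
          fun y ⟨β, hβ, x, hy⟩ => Subgroup.subset_closure ⟨P, β, x, hPS, hβ, congrArg Subtype.val hy⟩)
        exact fun z hz => hle' hz
      have hXH : X ≤ F.hyperfocalSubgroup p := by
        rintro _ ⟨z, hz, rfl⟩; exact hDH z (hAD hz)
      have hXsm : IsSmallAbelian p X := by
        refine ⟨?_, ?_⟩
        · rintro _ ⟨a, ha, rfl⟩ _ ⟨b, hb, rfl⟩
          exact congrArg (fun z : A => ((z : P) : Ω)) (hAc.is_comm.comm ⟨a, ha⟩ ⟨b, hb⟩)
        · rintro _ ⟨a, ha, rfl⟩
          exact (hDsmall a (hAD ha)).imp (fun e => congrArg Subtype.val e) fun e => ⟨e.1, congrArg Subtype.val e.2⟩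
      have hPX : P ≤ normalizerIn S X := fun u hu => ⟨hPS hu, Subgroup.mem_normalizer_iff.mpr fun y => by
        constructor
        · rintro ⟨a, ha, rfl⟩
          exact ⟨_, hAn.conj_mem a ha ⟨u, hu⟩, rfl⟩
        · rintro ⟨a, ha, hae⟩
          exact ⟨_, hAn.conj_mem a ha ⟨u, hu⟩⁻¹, by
            show u⁻¹ * (a : Ω) * u⁻¹⁻¹ = y
            rw [show (a : Ω) = u * y * u⁻¹ from hae]; group⟩⟩
      -- small maps lie in `E`, images of small subgroups are small
      have himg : ∀ {B : Subgroup Ω} {f : Ω → Ω}, IsMap F B f → B ≤ F.hyperfocalSubgroup p →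
          ∀ x ∈ B, f x ∈ F.hyperfocalSubgroup p :=
        fun hf hB x hx => (hyperfocal_stronglyClosed hS hF hf x hx).mp (hB hx)
      have hconjE : ∀ Y, F.IsConj X Y → E.IsConj X Y := fun Y hY => by
        obtain ⟨f, hf⟩ := isConj_iff.mp hY
        exact IsIso.isConj ⟨h X hXH hXsm f hf.1, hf.2⟩
      obtain ⟨X₀, hXX₀, hX₀⟩ := exists_fullyNormalized (F := F) hXS
      have hX₀E : E.IsFullyNormalized X₀ := ⟨hX₀.1, fun R hR => hX₀.2 R (by
        obtain ⟨g, hg⟩ := isConj_iff.mp hR
        exact IsIso.isConj ⟨hg.1.of_le hle, hg.2⟩)⟩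
      have hAutE := fullyAutomized_of_fullyNormalized hS hE hX₀E
      have hrecE := receptive_of_fullyNormalized hS hE hX₀E
      obtain ⟨r₁, hr₁, hr₁i, hr₁N⟩ := exists_normalizer_map hS hAutE hrecE (hconjE _ hXX₀)
      have hX₀small : X₀ ≤ F.hyperfocalSubgroup p ∧ IsSmallAbelian p X₀ := by
        refine ⟨fun y hy => ?_, fun y hy y' hy' => ?_, fun y hy => ?_⟩
        · obtain ⟨x, hx, rfl⟩ := hr₁i.exists_preimage hy
          exact himg ((hr₁i.1).of_le hle) hXH x hx
        · obtain ⟨x, hx, rfl⟩ := hr₁i.exists_preimage hy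
          obtain ⟨x', hx', rfl⟩ := hr₁i.exists_preimage hy'
          rw [← hr₁i.1.map_mul hx hx', ← hr₁i.1.map_mul hx' hx, hXsm.1 x hx x' hx']
        · obtain ⟨x, hx, rfl⟩ := hr₁i.exists_preimage hy
          refine (hXsm.2 x hx).imp (fun e => ?_) fun e => ⟨e.1, ?_⟩
          · rw [← hr₁i.1.map_pow hx, e, hr₁i.1.map_one]
          · rw [← hr₁i.1.map_pow hx, e.2, hr₁i.1.map_one]
      set M := innSystem F X₀ hX₀.1
      set ME := innSystem E X₀ hX₀E.1
      haveI : Finite (normalizerIn S X₀) := finite_of_le inf_le_left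
      by_cases hall : mapSet F ⊆ mapSet M
      · -- every map of `F` acts on `X₀` as an element of `S`
        have hall' : ∀ Q f, IsMap F Q f → IsMap M Q f := fun Q f hf => isMap_of_graph (hall ⟨Q, f, hf, rfl⟩)
        obtain ⟨-, -, -, f₁, hf₁, hf₁e, hf₁C⟩ := isMap_innSystem.mp
          (hall' _ _ ((hr₁.of_le hle) : IsMap F (normalizerIn S X) r₁))
        have hXX : X = X₀ := by
          apply SetLike.coe_injective
          have e1 : f₁ '' (X : Set Ω) = f₁ '' (X₀ : Set Ω) := by
            rw [(isQCond_innCond X₀).image hf₁C,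
              Set.image_congr fun x hx => hf₁e (le_normalizerIn hXS hx), hr₁i.2]
          exact (hf₁.injOn.image_eq_image_iff
            (fun x hx => Subgroup.mem_sup_left (le_normalizerIn hXS hx))
            (fun x hx => Subgroup.mem_sup_right hx)).mp e1
        have hAp : IsPGroup p (F.autGroup P) := by
          intro a
          obtain ⟨s, m, hm, hsm⟩ := Nat.exists_eq_pow_mul_and_not_dvd (orderOf_pos a).ne' p
            (Fact.out : p.Prime).ne_one
          refine ⟨s, ?_⟩
          set b := a ^ p ^ s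
          have hb : (orderOf b).Coprime p := by
            rw [orderOf_pow_of_dvd (pow_ne_zero _ (Fact.out : p.Prime).ne_zero) ⟨m, hsm⟩, hsm,
              Nat.mul_div_cancel_left _ (pow_pos (Fact.out : p.Prime).pos s)]
            exact ((Fact.out : p.Prime).coprime_iff_not_dvd.mpr hm).symm
          obtain ⟨-, -, -, f', hf', hfe, g, hg, hgf⟩ := isMap_innSystem.mp
            (hall' _ _ ((mem_autGroup hPS).mp b.2).1)
          have hbn : ∀ (k : ℕ) (z : P), (z : Ω) ∈ X →
              ((((b : MulAut P) ^ k) z : P) : Ω) = g ^ k * z * (g ^ k)⁻¹ := by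
            intro k
            induction k with
            | zero => intro z _; simp
            | succ k ihk =>
              intro z hz
              have h1 : (((b : MulAut P) z : P) : Ω) = g * z * g⁻¹ := by
                rw [← autFun_coe, ← hfe z.2, hgf _ (hXX ▸ hz)]
              rw [pow_succ, MulAut.mul_apply, ihk _ (h1 ▸ hXX ▸ conj_mem_of_mem_normalizer hg.2 (hXX ▸ hz)), h1,
                pow_succ]
              group
          obtain ⟨e, he⟩ := hS ⟨g, hg.1⟩
          have he' : g ^ p ^ e = 1 := congrArg Subtype.val he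
          obtain ⟨t, ht⟩ := exists_pow_eq_self_of_coprime (x := (b : MulAut P)) (n := p ^ e)
            (Nat.Coprime.pow_left e (by rw [Subgroup.orderOf_coe]; exact hb.symm))
          have hfix : ∀ z ∈ A, (b : MulAut P) z = z := fun z hz => by
            rw [← ht, ← pow_mul]
            refine Subtype.ext ?_
            rw [hbn _ z ⟨z, hz, rfl⟩, pow_mul, he', one_pow]
            group
          obtain ⟨k, hk⟩ := hAfix _ b.2 hfix
          rw [Subgroup.orderOf_coe] at hk
          have h1 : orderOf b = 1 := by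
            rcases k with _ | k
            · rw [hk, pow_zero]
            · exact absurd (Nat.eq_one_of_dvd_coprimes hb (hk ▸ dvd_pow_self p k.succ_ne_zero) dvd_rfl)
                (Fact.out : p.Prime).ne_one
          exact orderOf_eq_one_iff.mp h1
        obtain ⟨-, R, hR⟩ := fullyAutomized_of_fullyNormalized hS hF hfn
        have hR' : (⟨α, hα⟩ : F.autGroup P) ∈ (R : Subgroup (F.autGroup P)) := by
          obtain ⟨Q, hQ⟩ := (show IsPGroup p (⊤ : Subgroup (F.autGroup P)) from
            hAp.to_subgroup ⊤).exists_le_sylow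
          have hRtop : (R : Subgroup (F.autGroup P)) = ⊤ := by
            refine Subgroup.eq_top_of_card_eq _ ?_
            rw [R.card_eq_multiplicity, ← Q.card_eq_multiplicity, top_le_iff.mp hQ, Subgroup.card_top]
          rw [hRtop]; trivial
        rw [hR] at hR'
        obtain ⟨g, hg, hge⟩ := mem_autInducedBy.mp hR'
        exact autGroup_mem_of_isMap ((isMap_conj hPS hg).congr fun x hx => by
          rw [autFun_of_mem α hx]; exact (hge ⟨x, hx⟩).symm)
      · -- induction
        have hMle : mapSet M ⊆ mapSet F := fun s ⟨Q, f, hf, hs⟩ => ⟨Q, f, (isMap_innSystem.mp hf).1, hs⟩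
        have hlt : (mapSet M).ncard < n :=
          (Set.ncard_lt_ncard ⟨hMle, hall⟩ (finite_mapSet F)).trans_le hn
        have hMM : M ≤ ME := by
          refine ih _ hlt (S := normalizerIn S X₀)
            (hS.of_injective _ (Subgroup.inclusion_injective (Fusion.normalizerIn_le S X₀))) ME M
            (innSystem_isSaturated hS hE hX₀E) (innSystem_isSaturated hS hF hX₀)
            (le_of_isMap fun Q f hf => ?_) le_rfl fun B hB hBsm f hf => ?_
          · obtain ⟨h1, h2, h3, f', k1, k2, k3⟩ := isMap_innSystem.mp hf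
            exact isMap_innSystem.mpr ⟨h1.of_le hle, h2, h3, f', k1.of_le hle, k2, k3⟩
          · obtain ⟨h1, h2, h3, f', k1, k2, k3⟩ := isMap_innSystem.mp hf
            have hBX := fun y hy => hyperfocal_innSystem hS hX₀.1 y (hB hy)
            have hBF : B ≤ F.hyperfocalSubgroup p := fun y hy => (hBX y hy).1
            refine isMap_innSystem.mpr ⟨h B hBF hBsm f h1, h2, h3, f',
              h _ (sup_le hBF hX₀small.1) ?_ f' k1, k2, k3⟩
            have hnorm : B ≤ Subgroup.centralizer (X₀ : Set Ω) := fun y hy =>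
              Subgroup.mem_centralizer_iff.mpr (hBX y hy).2
            have hmul : ∀ y ∈ B ⊔ X₀, ∃ u ∈ B, ∃ v ∈ X₀, u * v = y := by
              intro y hy
              have h4 : y ∈ ((B ⊔ X₀ : Subgroup Ω) : Set Ω) := hy
              rw [Subgroup.coe_mul_of_left_le_normalizer_right B X₀
                (hnorm.trans (Subgroup.centralizer_le_normalizer _))] at h4
              exact h4
            refine ⟨fun y hy y' hy' => ?_, fun y hy => ?_⟩
            · obtain ⟨u, hu, v, hv, rfl⟩ := hmul y hy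
              obtain ⟨u', hu', v', hv', rfl⟩ := hmul y' hy'
              have c1 : Commute u u' := hBsm.1 u hu u' hu'
              have c2 : Commute u v' := ((hBX u hu).2 v' hv').symm
              have c3 : Commute v u' := (hBX u' hu').2 v hv
              have c4 : Commute v v' := hX₀small.2.1 v hv v' hv'
              exact ((c1.mul_right c2).mul_left (c3.mul_right c4)).eq
            · obtain ⟨u, hu, v, hv, rfl⟩ := hmul y hy
              have c : Commute u v := ((hBX u hu).2 v hv).symm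
              by_cases hp2 : p = 2
              · refine Or.inr ⟨hp2, ?_⟩
                have h4 : ∀ w : Ω, w ^ p = 1 ∨ (p = 2 ∧ w ^ 4 = 1) → w ^ 4 = 1 := by
                  rintro w (hw | hw)
                  · rw [show 4 = p * 2 by omega, pow_mul, hw, one_pow]
                  · exact hw.2
                rw [c.mul_pow, h4 u (hBsm.2 u hu), h4 v (hX₀small.2.2 v hv), one_mul]
              · refine Or.inl ?_
                rw [c.mul_pow, (hBsm.2 u hu).resolve_right (fun e => hp2 e.1),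
                  (hX₀small.2.2 v hv).resolve_right (fun e => hp2 e.1), one_mul]
        -- the conjugate `Y` of `X` under `α`
        have hαi := (mem_autGroup hPS).mp hα
        obtain ⟨Y, hYP, hαX⟩ := hαi.restrict hXP
        have hPY : P ≤ normalizerIn S Y := by
          intro u hu
          obtain ⟨u', hu', rfl⟩ := hαi.exists_preimage hu
          exact map_mem_normalizer hαi.1 hXP hαX.2 hu' (hPX hu').2
        obtain ⟨r₂, hr₂, hr₂i, hr₂N⟩ := exists_normalizer_map hS hAutE hrecE
          (isConj_trans (isConj_symm (hconjE _ hαX.isConj)) (hconjE _ hXX₀))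
        obtain ⟨P₁, hP₁⟩ := (hr₁.mono hPX).exists_image
        obtain ⟨P₂, hP₂⟩ := (hr₂.mono hPY).exists_image
        obtain ⟨i₁, hi₁, hi₁l, -⟩ := hP₁.exists_inv
        obtain ⟨i₂, hi₂, hi₂l, -⟩ := hP₂.exists_inv
        have hP₁N : P₁ ≤ normalizerIn S X₀ := fun y hy => by
          obtain ⟨u, hu, rfl⟩ := hP₁.exists_preimage hy; exact hr₁N u (hPX hu)
        have hP₂N : P₂ ≤ normalizerIn S X₀ := fun y hy => by
          obtain ⟨u, hu, rfl⟩ := hP₂.exists_preimage hy; exact hr₂N u (hPY hu)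
        have hX₀P₁ : X₀ ≤ P₁ := fun y hy => by
          obtain ⟨x, hx, rfl⟩ := hr₁i.exists_preimage hy; exact hP₁.mem (hXP hx)
        -- `δ` carries `P₁` onto `P₂` and stabilizes `X₀`
        have hδ : IsIso F P₁ P₂ (r₂ ∘ autFun α ∘ i₁) :=
          ((show IsIso F P₁ P i₁ from ⟨hi₁.1.of_le hle, hi₁.2⟩).comp hαi).comp ⟨hP₂.1.of_le hle, hP₂.2⟩
        have hδX : IsIso F X₀ X₀ (r₂ ∘ autFun α ∘ i₁) := by
          refine ⟨hδ.1.mono hX₀P₁, ?_⟩
          have hi₁X : i₁ '' (X₀ : Set Ω) = (X : Set Ω) := by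
            rw [← hr₁i.2, Set.image_image]
            exact (Set.image_congr fun x hx => hi₁l x (hXP hx)).trans (Set.image_id' _)
          rw [Set.image_comp, Set.image_comp, hi₁X, hαX.2, hr₂i.2]
        obtain ⟨θi, hθi, hθil, -⟩ :=
          (show IsIso E X₀ X₀ (r₂ ∘ autFun α ∘ i₁) from
            ⟨h X₀ hX₀small.1 hX₀small.2 _ hδX.1, hδX.2⟩).exists_inv
        have hext : IsExtendable S X₀ θi P₂ := by
          refine ⟨hδ.cod_le, fun y hy => ⟨(hP₂N hy).2, ?_⟩⟩
          obtain ⟨u, hu, rfl⟩ := hδ.exists_preimage hy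
          refine ⟨u, hδ.dom_le hu, fun z hz => ?_⟩
          obtain ⟨x, hx, rfl⟩ := hδX.exists_preimage hz
          rw [← hδ.1.map_conj hu (hX₀P₁ hx), hθil _ (conj_mem_of_mem_normalizer (hP₁N hu).2 hx), hθil x hx]
        obtain ⟨t, ht, hte⟩ := receptive_extend hrecE hθi hext
        obtain ⟨P₃, hP₃⟩ := (ht.mono le_sup_right).exists_image
        have hγF : IsMap F P₁ (t ∘ r₂ ∘ autFun α ∘ i₁) := hδ.1.comp (hP₃.1.of_le hle) fun y hy => hδ.mem hy
        have hγfix : ∀ x ∈ X₀, (t ∘ r₂ ∘ autFun α ∘ i₁) x = x := fun x hx =>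
          (hte (hδX.mem hx)).trans (hθil x hx)
        have hγM : IsMap M P₁ (t ∘ r₂ ∘ autFun α ∘ i₁) := isMap_innSystem.mpr ⟨hγF, hP₁N, fun y hy => by
            refine map_mem_normalizer hγF hX₀P₁ ?_ hy (hP₁N hy).2
            exact (Set.image_congr hγfix).trans (Set.image_id' _),
          _, hγF.mono (sup_le le_rfl hX₀P₁), fun _ _ => rfl,
          1, one_mem _, fun x hx => by rw [hγfix x hx]; group⟩
        have hγE : IsMap E P₁ (t ∘ r₂ ∘ autFun α ∘ i₁) := (isMap_innSystem.mp (hγM.of_le hMM)).1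
        obtain ⟨ti, hti, htil, -⟩ := hP₃.exists_inv
        have hδE : IsMap E P₁ (r₂ ∘ autFun α ∘ i₁) :=
          (hγE.comp hti.1 fun y hy => hP₃.mem (hδ.mem hy)).congr fun y hy => htil _ (hδ.mem hy)
        have hall : IsMap E P (i₂ ∘ (r₂ ∘ autFun α ∘ i₁) ∘ r₁) :=
          (hP₁.1.comp hδE fun x hx => hP₁.mem hx).comp hi₂.1 fun x hx => hδ.mem (hP₁.mem hx)
        refine autGroup_mem_of_isMap (hall.congr fun x hx => ?_)
        simp only [Function.comp_apply, hi₁l x hx, hi₂l _ (hαi.mem hx)]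
    exact le_of_aut hS hF E (key S fullyNormalized_self) fun P _ h1 _ _ _ => key P h1

end Cfsg.Agent.Fus93
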